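/-!
Generated data for the subgroups `3.U4(3)` of `SU6(2)`: generators, points, words and certificates.
-/

set_option autoImplicit false
set_option maxRecDepth 20000

namespace CfsgLib.UnitarySixData

/-- The diagonal generators. -/
def dCodes : List Nat := [0x40010004001000c002, 0x400100040030004002, 0x4001000c0010004002, 0x400300040010004002, 0xc00100040010004002]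

/-- The other generators of the three groups. -/
def kGens : List (List Nat) := [[0x400100010040001004, 0x40010400004001100, 0x155455515545554551], [0x400100010040003008, 0x40010400004003200, 0x157457517547554aa1], [0x40010001004000200c, 0x40010400004002300, 0x156456516546554ff1]]

/-- The diagonal twists. -/
def twists : List Nat := [0x400100040010004001, 0x400100040010004002, 0x400100040010004003]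

/-- The transposition. -/
def swapC : Nat := 0x400100040010001004

/-- The points. -/
def pts : List Nat := [0x500, 0x969, 0xea9, 0x50, 0xfed, 0x795, 0x240, 0xee5, 0x9, 0x801, 0x59d, 0xa65, 0x24, 0xfd5, 0xe9d, 0xefd, 0x95d, 0x5fd, 0x5d9, 0xc04, 0x210, 0xaf5, 0xa7d, 0xd0, 0x81, 0x7b9, 0x5b5, 0xddd, 0x14, 0x6d5, 0xaad, 0xfbd, 0x310, 0x110, 0xc40, 0x7ad, 0x140, 0x675, 0x440, 0xae9, 0x975, 0xbfd, 0x9f9, 0xdf5, 0x101, 0x9bd, 0x9a5, 0xb55, 0x404, 0xdad, 0x6f9, 0xc01, 0x84, 0xe6d, 0x21, 0x579, 0xf75, 0x759, 0xc1, 0x669, 0x5a9, 0xe55, 0x9d5, 0xbe5, 0xd7d, 0x7e9, 0x41, 0x201, 0xdb9, 0xb6d, 0xba9, 0x5, 0x555, 0xd59, 0xfa5, 0x340, 0xed9, 0x6bd, 0xd00, 0x204, 0xde9, 0xadd, 0xc10, 0x304, 0xbb5, 0xb9d, 0xff9, 0xab9, 0x410,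 0xa95, 0x999, 0xd65, 0x90, 0x9ed, 0xc4, 0xf69, 0x765, 0x104, 0x56d, 0xf99, 0x44, 0x900, 0xbd9, 0x65d, 0x31, 0x804, 0x6a5, 0x810, 0x699, 0xe79, 0x77d, 0xd, 0x301, 0xf5d, 0xb79, 0xd95, 0xeb5, 0x7dd, 0x11, 0x840, 0xa59, 0x5e5, 0x401, 0x34, 0x7f5, 0x6ed]

/-- The permutations of the generators. -/
def gPerms : List Nat := [0x73021c33631177687401727d154347075d406b4913362b4d6534160d4f4c5164055c666e3758621e253b61521a55534e5b2d4b78295608671d452c3a0e3f6c192a711b180f2704763e5e09312f693239607046236a410a2650243d2221200b48440c545f354217793c14301f4a7c2e28577b12387a6f5a066d5903107500, 0x440e0c331f7977360210451d2743084c3e5b52406976506a65640b56610f155e19172960626b48593b6753583c544f4e492e4b163f046f25322f2c3a74664d235d382b1807510d682a34097372307d6e397055056c751a261b246d2214217837317b46713d4203120a20134a63415a011e1c115f7a472d0635575c287c00,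 0x49357b33711a22686d5d296a574308022e2b6b1b69364425655e1563610e59343903557c1158790b327d5352372f4f4e50282451541f6f1d6c3f2c183d46676e2d0d7342741e4a765a64095b66304d75417045603b23487731064c2621202712401c7204073a5c3c621413385f19012a160c0a567a47104b0f78173e0500, 0x63317b330e7c7768444516792a2c08503f386b716936561a4e64284c531b3e5e6c5c51256e58602e37624f52195961005f540610150f6f48120b703a73270a4d293d0d182b5d07766634094a783011673b431e6a3c7d0526044b4922201401391f1c57355b42174123211374023246722d0c756d7a475524405a032f1d65, 0x5a1e7b09552b266857626e07324308277928581030362a740064256661511d5e635c753840525b6a6d35536b44054f65011a4b677c296f3d4c602c3a59410e1f112f3e18157d3f7612347a2e39130f715f70234a020473225d24787721203b492d1c19450b4217503114695446563c374d0c1b7233470a06166c03480d4e,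 0x667c3a301a116b645a075b4d3c5308012d1b776a095e467d657651272c0516684c1773750b260a1e443f70226345434e725d204a2948476750554f1c353b54283d71407b0f0d1f3441361331327a2f2e6d612b23493e62581d212a52244b375625426c790e0c5c5f150633047802391938185957696f7414601203106e00, 0x5d3c20643d7122616c4d3e2a78087b5a0e754b115c53043218586d257646725274651d2e6e2467374c5036064507683a7d55095f79481c56663f6f30197c41731f0b1b135701604f316b5e511503275954470d4a120510260f7a63772c43496229212b2f44694e351670175b381a1e233b144028340c2d330239000a6a42, 0x726a0430173c3e1c4074227d11391e1b5d01287c0237434d2f4216362c20511f6d1a523b0d580c0850540f5b5f55463d662d054a3348474f444567640e753f774e785a12700b686219274931327a652b4c612e23136b342614242a7321605e6f06766e5c350a79631525293a71095341595738181056071d4b7b03696c00]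

/-- The generators as words. -/
def wordsToH : List (List Nat) := [[0, 1, 1, 1, 0, 1, 0, 1, 1, 0, 1, 0, 0, 0, 0, 0, 0, 1, 0, 1], [1, 0, 1, 0, 1, 0, 1, 1, 0, 0, 1, 0, 0, 0, 1, 0, 0, 0, 1, 1, 0], [1, 1, 0, 0, 1, 0, 0, 1, 1, 0, 0, 1, 0, 1, 1, 0, 1, 0, 1, 1, 1], [1, 0, 0, 1, 1, 0, 0, 1, 0, 1, 0, 1, 0, 0, 1, 1, 0, 0, 1, 0, 1, 0], [0, 0, 0, 1, 1, 0, 1, 1, 0, 1, 1, 0, 0, 0, 0, 0, 1, 0, 0], [0, 1, 0, 0, 0, 0, 0, 1, 1, 0, 0, 1, 0, 1, 1, 0, 0, 1, 1, 1, 0], [1, 0, 1, 1, 1, 1, 0, 1, 1, 1, 0], [1, 1, 1, 0, 1, 1, 1, 0, 0, 1, 1, 0, 0, 0, 0, 1, 0, 1, 0]]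

/-- The permutations as words in the generators. -/
def wordsToG : List (List Nat) := [[5, 7, 6, 1, 6, 7, 2, 7, 4, 5], [6, 7, 1, 1, 5, 3, 7, 4, 6, 5, 6]]

/-- Words exchanging two diagonal generators. -/
def pairWords : List (Nat × Nat × List Nat) := [(0, 1, [0, 1, 1, 0, 1, 1, 0]), (0, 2, [1, 0, 1, 0, 1, 1, 0, 1, 0]), (0, 3, [0, 1, 1, 0, 1, 0, 1, 1, 1, 0, 1, 0, 1, 0]), (0, 4, [1, 1, 0, 1, 0, 1, 1, 1, 0, 1, 1]), (1, 2, [0, 1, 1, 0, 1, 0, 1, 1, 1, 0, 1, 0, 1, 0]), (1, 3, [1, 0, 1, 0, 1, 1, 0, 1, 0]), (1, 4, [0, 1, 0, 1, 1, 1, 0, 1, 0, 1, 1, 0, 1, 0, 1, 1]), (2, 3, [0, 1, 1, 0, 1, 1, 0]), (2, 4, [1, 0, 1, 0, 1, 1, 1, 0, 1, 0, 1, 0]), (3, 4, [1, 0, 1, 1, 1])]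

/-- The conjugate of the first generator. -/
def wA : List Nat := [0]

/-- The conjugate of the second generator. -/
def wB : List Nat := [0, 1, 1, 1, 0, 1, 0, 1, 1, 1, 0, 1, 1, 0]

/-- The standard double transposition. -/
def rA : List Nat := [0, 1, 3, 2, 5, 4]

/-- The classes of involutions. -/
def invReps : List (List Nat) := [[1, 0, 2, 3, 4, 5], [0, 1, 3, 2, 5, 4], [1, 0, 3, 2, 5, 4]]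

/-- The images of the second generator. -/
def qReps : List (List Nat) := [[2, 3, 0, 4, 5, 1], [2, 4, 0, 1, 5, 3]]

/-- Conjugating diagonals for the first generator. -/
def aT : List Nat := [0, 2, 1, 8, 7, 6, 4, 3, 5]

/-- Diagonals commuting with the first generator. -/
def cT : List Nat := [0, 14, 25, 28, 39, 53, 56, 67, 78, 82, 93, 107, 110, 121, 132, 135, 149, 160, 164, 175, 186, 189, 203, 214, 217, 228, 242]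

/-- The case of each second generator. -/
def hints : List (List (Nat × Nat × Nat)) := [[(0, 0, 1), (1, 0, 1), (2, 0, 1), (3, 0, 1), (4, 0, 1), (5, 0, 1), (6, 0, 1), (7, 0, 1), (8, 0, 1), (1, 2, 3), (2, 2, 3), (0, 2, 3), (4, 2, 3), (5, 2, 3), (3, 2, 3), (7, 2, 3), (8, 2, 3), (6, 2, 3), (2, 1, 2), (0, 1, 2), (1, 1, 2), (5, 1, 2), (3, 1, 2), (4, 1, 2), (8, 1, 2), (6, 1, 2), (7, 1, 2), (3, 3, 1), (4, 3, 1), (5, 3, 1), (6, 3, 1), (7, 3, 1), (8, 3, 1), (0, 3, 1), (1, 3, 1), (2, 3, 1), (4, 5, 3), (5, 5, 3), (3, 5, 3), (7, 5, 3), (8, 5, 3), (6, 5, 3), (1, 5, 3), (2, 5, 3), (0, 5, 3), (5, 4, 2), (3, 4, 2), (4, 4, 2), (8, 4, 2), (6, 4, 2), (7, 4, 2), (2, 4, 2), (0, 4, 2), (1, 4, 2), (6, 6, 1), (7, 6, 1), (8, 6, 1),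 (0, 6, 1), (1, 6, 1), (2, 6, 1), (3, 6, 1), (4, 6, 1), (5, 6, 1), (7, 8, 3), (8, 8, 3), (6, 8, 3), (1, 8, 3), (2, 8, 3), (0, 8, 3), (4, 8, 3), (5, 8, 3), (3, 8, 3), (8, 7, 2), (6, 7, 2), (7, 7, 2), (2, 7, 2), (0, 7, 2), (1, 7, 2), (5, 7, 2), (3, 7, 2), (4, 7, 2), (4, 7, 3), (5, 7, 3), (3, 7, 3), (7, 7, 3), (8, 7, 3), (6, 7, 3), (1, 7, 3), (2, 7, 3), (0, 7, 3), (5, 6, 2), (3, 6, 2), (4, 6, 2), (8, 6, 2), (6, 6, 2), (7, 6, 2), (2, 6, 2), (0, 6, 2), (1, 6, 2), (3, 8, 1), (4, 8, 1), (5, 8, 1), (6, 8, 1), (7, 8, 1), (8, 8, 1), (0, 8, 1), (1, 8, 1), (2, 8, 1), (7, 1, 3), (8, 1, 3), (6, 1, 3), (1, 1, 3), (2, 1, 3), (0, 1, 3), (4, 1, 3), (5, 1, 3), (3, 1, 3), (8, 0, 2), (6, 0, 2), (7, 0, 2), (2, 0, 2), (0, 0, 2),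 (1, 0, 2), (5, 0, 2), (3, 0, 2), (4, 0, 2), (6, 2, 1), (7, 2, 1), (8, 2, 1), (0, 2, 1), (1, 2, 1), (2, 2, 1), (3, 2, 1), (4, 2, 1), (5, 2, 1), (1, 4, 3), (2, 4, 3), (0, 4, 3), (4, 4, 3), (5, 4, 3), (3, 4, 3), (7, 4, 3), (8, 4, 3), (6, 4, 3), (2, 3, 2), (0, 3, 2), (1, 3, 2), (5, 3, 2), (3, 3, 2), (4, 3, 2), (8, 3, 2), (6, 3, 2), (7, 3, 2), (0, 5, 1), (1, 5, 1), (2, 5, 1), (3, 5, 1), (4, 5, 1), (5, 5, 1), (6, 5, 1), (7, 5, 1), (8, 5, 1), (8, 5, 2), (6, 5, 2), (7, 5, 2), (2, 5, 2), (0, 5, 2), (1, 5, 2), (5, 5, 2), (3, 5, 2), (4, 5, 2), (6, 4, 1), (7, 4, 1), (8, 4, 1), (0, 4, 1), (1, 4, 1), (2, 4, 1), (3, 4, 1), (4, 4, 1), (5, 4, 1), (7, 3, 3), (8, 3, 3), (6, 3, 3), (1, 3, 3), (2, 3, 3), (0, 3, 3), (4, 3, 3),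 (5, 3, 3), (3, 3, 3), (2, 8, 2), (0, 8, 2), (1, 8, 2), (5, 8, 2), (3, 8, 2), (4, 8, 2), (8, 8, 2), (6, 8, 2), (7, 8, 2), (0, 7, 1), (1, 7, 1), (2, 7, 1), (3, 7, 1), (4, 7, 1), (5, 7, 1), (6, 7, 1), (7, 7, 1), (8, 7, 1), (1, 6, 3), (2, 6, 3), (0, 6, 3), (4, 6, 3), (5, 6, 3), (3, 6, 3), (7, 6, 3), (8, 6, 3), (6, 6, 3), (5, 2, 2), (3, 2, 2), (4, 2, 2), (8, 2, 2), (6, 2, 2), (7, 2, 2), (2, 2, 2), (0, 2, 2), (1, 2, 2), (3, 1, 1), (4, 1, 1), (5, 1, 1), (6, 1, 1), (7, 1, 1), (8, 1, 1), (0, 1, 1), (1, 1, 1), (2, 1, 1), (4, 0, 3), (5, 0, 3), (3, 0, 3), (7, 0, 3), (8, 0, 3), (6, 0, 3), (1, 0, 3), (2, 0, 3), (0, 0, 3)], [(9, 0, 1), (10, 0, 1), (11, 0, 1), (9, 6, 1), (10, 6, 1), (11, 6, 1), (9, 3, 1), (10, 3, 1), (11,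 3, 1), (12, 0, 1), (13, 0, 1), (14, 0, 1), (12, 6, 1), (13, 6, 1), (14, 6, 1), (12, 3, 1), (13, 3, 1), (14, 3, 1), (15, 0, 1), (16, 0, 1), (17, 0, 1), (15, 6, 1), (16, 6, 1), (17, 6, 1), (15, 3, 1), (16, 3, 1), (17, 3, 1), (16, 5, 3), (17, 5, 3), (15, 5, 3), (16, 2, 3), (17, 2, 3), (15, 2, 3), (16, 8, 3), (17, 8, 3), (15, 8, 3), (10, 5, 3), (11, 5, 3), (9, 5, 3), (10, 2, 3), (11, 2, 3), (9, 2, 3), (10, 8, 3), (11, 8, 3), (9, 8, 3), (13, 5, 3), (14, 5, 3), (12, 5, 3), (13, 2, 3), (14, 2, 3), (12, 2, 3), (13, 8, 3), (14, 8, 3), (12, 8, 3), (14, 7, 2), (12, 7, 2), (13, 7, 2), (14, 4, 2), (12, 4, 2), (13, 4, 2), (14, 1, 2), (12, 1, 2), (13, 1, 2), (17, 7, 2), (15, 7, 2), (16, 7, 2), (17, 4, 2), (15, 4, 2), (16,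 4, 2), (17, 1, 2), (15, 1, 2), (16, 1, 2), (11, 7, 2), (9, 7, 2), (10, 7, 2), (11, 4, 2), (9, 4, 2), (10, 4, 2), (11, 1, 2), (9, 1, 2), (10, 1, 2), (10, 1, 3), (11, 1, 3), (9, 1, 3), (10, 7, 3), (11, 7, 3), (9, 7, 3), (10, 4, 3), (11, 4, 3), (9, 4, 3), (13, 1, 3), (14, 1, 3), (12, 1, 3), (13, 7, 3), (14, 7, 3), (12, 7, 3), (13, 4, 3), (14, 4, 3), (12, 4, 3), (16, 1, 3), (17, 1, 3), (15, 1, 3), (16, 7, 3), (17, 7, 3), (15, 7, 3), (16, 4, 3), (17, 4, 3), (15, 4, 3), (17, 3, 2), (15, 3, 2), (16, 3, 2), (17, 0, 2), (15, 0, 2), (16, 0, 2), (17, 6, 2), (15, 6, 2), (16, 6, 2), (11, 3, 2), (9, 3, 2), (10, 3, 2), (11, 0, 2), (9, 0, 2), (10, 0, 2), (11, 6, 2), (9, 6, 2), (10, 6, 2), (14, 3, 2), (12, 3, 2), (13, 3,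 2), (14, 0, 2), (12, 0, 2), (13, 0, 2), (14, 6, 2), (12, 6, 2), (13, 6, 2), (12, 8, 1), (13, 8, 1), (14, 8, 1), (12, 5, 1), (13, 5, 1), (14, 5, 1), (12, 2, 1), (13, 2, 1), (14, 2, 1), (15, 8, 1), (16, 8, 1), (17, 8, 1), (15, 5, 1), (16, 5, 1), (17, 5, 1), (15, 2, 1), (16, 2, 1), (17, 2, 1), (9, 8, 1), (10, 8, 1), (11, 8, 1), (9, 5, 1), (10, 5, 1), (11, 5, 1), (9, 2, 1), (10, 2, 1), (11, 2, 1), (11, 2, 2), (9, 2, 2), (10, 2, 2), (11, 8, 2), (9, 8, 2), (10, 8, 2), (11, 5, 2), (9, 5, 2), (10, 5, 2), (14, 2, 2), (12, 2, 2), (13, 2, 2), (14, 8, 2), (12, 8, 2), (13, 8, 2), (14, 5, 2), (12, 5, 2), (13, 5, 2), (17, 2, 2), (15, 2, 2), (16, 2, 2), (17, 8, 2), (15, 8, 2), (16, 8, 2), (17, 5, 2), (15, 5, 2), (16, 5,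 2), (15, 4, 1), (16, 4, 1), (17, 4, 1), (15, 1, 1), (16, 1, 1), (17, 1, 1), (15, 7, 1), (16, 7, 1), (17, 7, 1), (9, 4, 1), (10, 4, 1), (11, 4, 1), (9, 1, 1), (10, 1, 1), (11, 1, 1), (9, 7, 1), (10, 7, 1), (11, 7, 1), (12, 4, 1), (13, 4, 1), (14, 4, 1), (12, 1, 1), (13, 1, 1), (14, 1, 1), (12, 7, 1), (13, 7, 1), (14, 7, 1), (13, 6, 3), (14, 6, 3), (12, 6, 3), (13, 3, 3), (14, 3, 3), (12, 3, 3), (13, 0, 3), (14, 0, 3), (12, 0, 3), (16, 6, 3), (17, 6, 3), (15, 6, 3), (16, 3, 3), (17, 3, 3), (15, 3, 3), (16, 0, 3), (17, 0, 3), (15, 0, 3), (10, 6, 3), (11, 6, 3), (9, 6, 3), (10, 3, 3), (11, 3, 3), (9, 3, 3), (10, 0, 3), (11, 0, 3), (9, 0, 3)]]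

/-- The cases. -/
def caseB : List (Nat × Nat) := [(0, 0), (0, 1), (0, 2), (0, 3), (0, 4), (0, 5), (0, 6), (0, 7), (0, 8), (1, 0), (1, 1), (1, 2), (1, 9), (1, 10), (1, 11), (1, 18), (1, 19), (1, 20)]

/-- The free positions. -/
def caseBases : List (List Nat) := [[0, 1], [0, 1], [0, 1], [0, 1], [0, 1], [0, 1], [0, 1], [0, 1], [0, 1], [0, 1], [0, 1], [0, 1], [0, 1], [0, 1], [0, 1], [0, 1], [0, 1], [0, 1]]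

/-- The propagation steps. -/
def caseSteps : List (List (Nat × Nat × Nat × Nat × Nat)) := [[(1, 0, 0, 3, 2), (0, 3, 2, 2, 3), (1, 3, 2, 2, 0), (1, 2, 3, 5, 1), (0, 2, 0, 3, 0), (1, 2, 0, 5, 2), (0, 5, 1, 4, 1), (1, 5, 1, 0, 5), (1, 3, 0, 2, 2), (0, 5, 2, 4, 3), (1, 4, 1, 1, 5), (0, 0, 5, 0, 4), (1, 0, 5, 3, 4), (0, 2, 2, 3, 3), (1, 2, 2, 5, 0), (1, 4, 3, 1, 1), (0, 1, 5, 1, 4), (1, 1, 5, 4, 4), (0, 3, 4, 2, 5), (1, 3, 3, 2, 1), (0, 5, 0, 4, 0), (1, 5, 0, 0, 2), (1, 1, 1, 4, 5), (0, 4, 4, 5, 5), (1, 4, 4, 1, 3), (1, 2, 5, 5, 4), (0, 2, 1, 3, 1), (1, 4, 0, 1, 2), (0, 0, 2, 0, 3), (1, 0, 1, 3, 5), (0, 3, 5, 2, 4), (1, 2, 4, 5, 3), (0, 5, 3, 4, 2), (1, 4, 2, 1, 0)], [(1, 0, 0, 3, 2), (0, 3, 2, 2, 3), (1, 3,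 2, 2, 0), (1, 2, 3, 5, 1), (0, 2, 0, 3, 0), (1, 2, 0, 5, 2), (0, 5, 1, 4, 1), (1, 5, 1, 0, 5), (1, 3, 0, 2, 2), (0, 5, 2, 4, 3), (1, 4, 1, 1, 5), (0, 0, 5, 0, 4), (1, 0, 5, 3, 4), (0, 2, 2, 3, 3), (1, 2, 2, 5, 0), (1, 4, 3, 1, 1), (0, 1, 5, 1, 4), (1, 1, 5, 4, 4), (0, 3, 4, 2, 5), (1, 3, 3, 2, 1), (0, 5, 0, 4, 0), (1, 5, 0, 0, 2), (1, 1, 1, 4, 5), (0, 4, 4, 5, 5), (1, 4, 4, 1, 3), (1, 2, 5, 5, 4), (0, 2, 1, 3, 1), (1, 4, 0, 1, 2), (0, 0, 2, 0, 3), (1, 0, 1, 3, 5), (0, 3, 5, 2, 4), (1, 2, 4, 5, 3), (0, 5, 3, 4, 2), (1, 4, 2, 1, 0)], [(1, 0, 0, 3, 2), (0, 3, 2, 2, 3), (1, 3, 2, 2, 0), (1, 2, 3, 5, 1), (0, 2, 0, 3, 0), (1, 2, 0, 5, 2), (0, 5, 1, 4, 1), (1, 5, 1, 0, 5), (1, 3, 0, 2, 2), (0, 5, 2, 4, 3), (1, 4,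 1, 1, 5), (0, 0, 5, 0, 4), (1, 0, 5, 3, 4), (0, 2, 2, 3, 3), (1, 2, 2, 5, 0), (1, 4, 3, 1, 1), (0, 1, 5, 1, 4), (1, 1, 5, 4, 4), (0, 3, 4, 2, 5), (1, 3, 3, 2, 1), (0, 5, 0, 4, 0), (1, 5, 0, 0, 2), (1, 1, 1, 4, 5), (0, 4, 4, 5, 5), (1, 4, 4, 1, 3), (1, 2, 5, 5, 4), (0, 2, 1, 3, 1), (1, 4, 0, 1, 2), (0, 0, 2, 0, 3), (1, 0, 1, 3, 5), (0, 3, 5, 2, 4), (1, 2, 4, 5, 3), (0, 5, 3, 4, 2), (1, 4, 2, 1, 0)], [(1, 0, 0, 3, 2), (0, 3, 2, 2, 3), (1, 3, 2, 2, 0), (1, 2, 3, 5, 1), (0, 2, 0, 3, 0), (1, 2, 0, 5, 2), (0, 5, 1, 4, 1), (1, 5, 1, 0, 5), (1, 3, 0, 2, 2), (0, 5, 2, 4, 3), (1, 4, 1, 1, 5), (0, 0, 5, 0, 4), (1, 0, 5, 3, 4), (0, 2, 2, 3, 3), (1, 2, 2, 5, 0), (1, 4, 3, 1, 1), (0, 1, 5, 1, 4), (1, 1, 5, 4, 4), (0, 3,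 4, 2, 5), (1, 3, 3, 2, 1), (0, 5, 0, 4, 0), (1, 5, 0, 0, 2), (1, 1, 1, 4, 5), (0, 4, 4, 5, 5), (1, 4, 4, 1, 3), (1, 2, 5, 5, 4), (0, 2, 1, 3, 1), (1, 4, 0, 1, 2), (0, 0, 2, 0, 3), (1, 0, 1, 3, 5), (0, 3, 5, 2, 4), (1, 2, 4, 5, 3), (0, 5, 3, 4, 2), (1, 4, 2, 1, 0)], [(1, 0, 0, 3, 2), (0, 3, 2, 2, 3), (1, 3, 2, 2, 0), (1, 2, 3, 5, 1), (0, 2, 0, 3, 0), (1, 2, 0, 5, 2), (0, 5, 1, 4, 1), (1, 5, 1, 0, 5), (1, 3, 0, 2, 2), (0, 5, 2, 4, 3), (1, 4, 1, 1, 5), (0, 0, 5, 0, 4), (1, 0, 5, 3, 4), (0, 2, 2, 3, 3), (1, 2, 2, 5, 0), (1, 4, 3, 1, 1), (0, 1, 5, 1, 4), (1, 1, 5, 4, 4), (0, 3, 4, 2, 5), (1, 3, 3, 2, 1), (0, 5, 0, 4, 0), (1, 5, 0, 0, 2), (1, 1, 1, 4, 5), (0, 4, 4, 5, 5), (1, 4, 4, 1, 3), (1, 2, 5, 5, 4), (0, 2,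 1, 3, 1), (1, 4, 0, 1, 2), (0, 0, 2, 0, 3), (1, 0, 1, 3, 5), (0, 3, 5, 2, 4), (1, 2, 4, 5, 3), (0, 5, 3, 4, 2), (1, 4, 2, 1, 0)], [(1, 0, 0, 3, 2), (0, 3, 2, 2, 3), (1, 3, 2, 2, 0), (1, 2, 3, 5, 1), (0, 2, 0, 3, 0), (1, 2, 0, 5, 2), (0, 5, 1, 4, 1), (1, 5, 1, 0, 5), (1, 3, 0, 2, 2), (0, 5, 2, 4, 3), (1, 4, 1, 1, 5), (0, 0, 5, 0, 4), (1, 0, 5, 3, 4), (0, 2, 2, 3, 3), (1, 2, 2, 5, 0), (1, 4, 3, 1, 1), (0, 1, 5, 1, 4), (1, 1, 5, 4, 4), (0, 3, 4, 2, 5), (1, 3, 3, 2, 1), (0, 5, 0, 4, 0), (1, 5, 0, 0, 2), (1, 1, 1, 4, 5), (0, 4, 4, 5, 5), (1, 4, 4, 1, 3), (1, 2, 5, 5, 4), (0, 2, 1, 3, 1), (1, 4, 0, 1, 2), (0, 0, 2, 0, 3), (1, 0, 1, 3, 5), (0, 3, 5, 2, 4), (1, 2, 4, 5, 3), (0, 5, 3, 4, 2), (1, 4, 2, 1, 0)], [(1,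 0, 0, 3, 2), (0, 3, 2, 2, 3), (1, 3, 2, 2, 0), (1, 2, 3, 5, 1), (0, 2, 0, 3, 0), (1, 2, 0, 5, 2), (0, 5, 1, 4, 1), (1, 5, 1, 0, 5), (1, 3, 0, 2, 2), (0, 5, 2, 4, 3), (1, 4, 1, 1, 5), (0, 0, 5, 0, 4), (1, 0, 5, 3, 4), (0, 2, 2, 3, 3), (1, 2, 2, 5, 0), (1, 4, 3, 1, 1), (0, 1, 5, 1, 4), (1, 1, 5, 4, 4), (0, 3, 4, 2, 5), (1, 3, 3, 2, 1), (0, 5, 0, 4, 0), (1, 5, 0, 0, 2), (1, 1, 1, 4, 5), (0, 4, 4, 5, 5), (1, 4, 4, 1, 3), (1, 2, 5, 5, 4), (0, 2, 1, 3, 1), (1, 4, 0, 1, 2), (0, 0, 2, 0, 3), (1, 0, 1, 3, 5), (0, 3, 5, 2, 4), (1, 2, 4, 5, 3), (0, 5, 3, 4, 2), (1, 4, 2, 1, 0)], [(1, 0, 0, 3, 2), (0, 3, 2, 2, 3), (1, 3, 2, 2, 0), (1, 2, 3, 5, 1), (0, 2, 0, 3, 0), (1, 2, 0, 5, 2), (0, 5, 1, 4, 1), (1, 5, 1, 0, 5), (1,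 3, 0, 2, 2), (0, 5, 2, 4, 3), (1, 4, 1, 1, 5), (0, 0, 5, 0, 4), (1, 0, 5, 3, 4), (0, 2, 2, 3, 3), (1, 2, 2, 5, 0), (1, 4, 3, 1, 1), (0, 1, 5, 1, 4), (1, 1, 5, 4, 4), (0, 3, 4, 2, 5), (1, 3, 3, 2, 1), (0, 5, 0, 4, 0), (1, 5, 0, 0, 2), (1, 1, 1, 4, 5), (0, 4, 4, 5, 5), (1, 4, 4, 1, 3), (1, 2, 5, 5, 4), (0, 2, 1, 3, 1), (1, 4, 0, 1, 2), (0, 0, 2, 0, 3), (1, 0, 1, 3, 5), (0, 3, 5, 2, 4), (1, 2, 4, 5, 3), (0, 5, 3, 4, 2), (1, 4, 2, 1, 0)], [(1, 0, 0, 3, 2), (0, 3, 2, 2, 3), (1, 3, 2, 2, 0), (1, 2, 3, 5, 1), (0, 2, 0, 3, 0), (1, 2, 0, 5, 2), (0, 5, 1, 4, 1), (1, 5, 1, 0, 5), (1, 3, 0, 2, 2), (0, 5, 2, 4, 3), (1, 4, 1, 1, 5), (0, 0, 5, 0, 4), (1, 0, 5, 3, 4), (0, 2, 2, 3, 3), (1, 2, 2, 5, 0), (1, 4, 3, 1, 1), (0,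 1, 5, 1, 4), (1, 1, 5, 4, 4), (0, 3, 4, 2, 5), (1, 3, 3, 2, 1), (0, 5, 0, 4, 0), (1, 5, 0, 0, 2), (1, 1, 1, 4, 5), (0, 4, 4, 5, 5), (1, 4, 4, 1, 3), (1, 2, 5, 5, 4), (0, 2, 1, 3, 1), (1, 4, 0, 1, 2), (0, 0, 2, 0, 3), (1, 0, 1, 3, 5), (0, 3, 5, 2, 4), (1, 2, 4, 5, 3), (0, 5, 3, 4, 2), (1, 4, 2, 1, 0)], [(1, 0, 0, 2, 2), (0, 2, 2, 3, 3), (1, 3, 3, 4, 5), (0, 4, 5, 5, 4), (1, 5, 4, 1, 1), (1, 0, 1, 2, 3), (0, 2, 3, 3, 2), (1, 2, 3, 0, 5), (1, 3, 2, 4, 0), (0, 0, 5, 0, 4), (1, 0, 5, 2, 4), (0, 4, 0, 5, 0), (1, 4, 0, 5, 2), (1, 0, 4, 2, 1), (0, 2, 4, 3, 5), (1, 5, 0, 1, 2), (0, 5, 2, 4, 3), (1, 5, 2, 1, 0), (0, 2, 1, 3, 1), (1, 2, 1, 0, 3), (1, 3, 5, 4, 4), (0, 1, 2, 1, 3), (1, 1, 2, 3, 0), (1, 4, 3, 5, 5), (0,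 0, 3, 0, 2), (1, 0, 3, 2, 5), (1, 4, 4, 5, 1), (0, 3, 0, 2, 0), (1, 3, 0, 4, 2), (1, 5, 5, 1, 4), (0, 2, 5, 3, 4), (0, 5, 1, 4, 1), (0, 4, 2, 5, 3), (0, 1, 4, 1, 5)], [(1, 0, 0, 2, 2), (0, 2, 2, 3, 3), (1, 3, 3, 4, 5), (0, 4, 5, 5, 4), (1, 5, 4, 1, 1), (1, 0, 1, 2, 3), (0, 2, 3, 3, 2), (1, 2, 3, 0, 5), (1, 3, 2, 4, 0), (0, 0, 5, 0, 4), (1, 0, 5, 2, 4), (0, 4, 0, 5, 0), (1, 4, 0, 5, 2), (1, 0, 4, 2, 1), (0, 2, 4, 3, 5), (1, 5, 0, 1, 2), (0, 5, 2, 4, 3), (1, 5, 2, 1, 0), (0, 2, 1, 3, 1), (1, 2, 1, 0, 3), (1, 3, 5, 4, 4), (0, 1, 2, 1, 3), (1, 1, 2, 3, 0), (1, 4, 3, 5, 5), (0, 0, 3, 0, 2), (1, 0, 3, 2, 5), (1, 4, 4, 5, 1), (0, 3, 0, 2, 0), (1, 3, 0, 4, 2), (1, 5, 5, 1, 4), (0, 2, 5, 3, 4), (0, 5, 1, 4, 1), (0,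 4, 2, 5, 3), (0, 1, 4, 1, 5)], [(1, 0, 0, 2, 2), (0, 2, 2, 3, 3), (1, 3, 3, 4, 5), (0, 4, 5, 5, 4), (1, 5, 4, 1, 1), (1, 0, 1, 2, 3), (0, 2, 3, 3, 2), (1, 2, 3, 0, 5), (1, 3, 2, 4, 0), (0, 0, 5, 0, 4), (1, 0, 5, 2, 4), (0, 4, 0, 5, 0), (1, 4, 0, 5, 2), (1, 0, 4, 2, 1), (0, 2, 4, 3, 5), (1, 5, 0, 1, 2), (0, 5, 2, 4, 3), (1, 5, 2, 1, 0), (0, 2, 1, 3, 1), (1, 2, 1, 0, 3), (1, 3, 5, 4, 4), (0, 1, 2, 1, 3), (1, 1, 2, 3, 0), (1, 4, 3, 5, 5), (0, 0, 3, 0, 2), (1, 0, 3, 2, 5), (1, 4, 4, 5, 1), (0, 3, 0, 2, 0), (1, 3, 0, 4, 2), (1, 5, 5, 1, 4), (0, 2, 5, 3, 4), (0, 5, 1, 4, 1), (0, 4, 2, 5, 3), (0, 1, 4, 1, 5)], [(1, 0, 0, 2, 2), (0, 2, 2, 3, 3), (1, 3, 3, 4, 5), (0, 4, 5, 5, 4), (1, 5, 4, 1, 1), (1, 0, 1, 2, 3),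 (0, 2, 3, 3, 2), (1, 2, 3, 0, 5), (1, 3, 2, 4, 0), (0, 0, 5, 0, 4), (1, 0, 5, 2, 4), (0, 4, 0, 5, 0), (1, 4, 0, 5, 2), (1, 0, 4, 2, 1), (0, 2, 4, 3, 5), (1, 5, 0, 1, 2), (0, 5, 2, 4, 3), (1, 5, 2, 1, 0), (0, 2, 1, 3, 1), (1, 2, 1, 0, 3), (1, 3, 5, 4, 4), (0, 1, 2, 1, 3), (1, 1, 2, 3, 0), (1, 4, 3, 5, 5), (0, 0, 3, 0, 2), (1, 0, 3, 2, 5), (1, 4, 4, 5, 1), (0, 3, 0, 2, 0), (1, 3, 0, 4, 2), (1, 5, 5, 1, 4), (0, 2, 5, 3, 4), (0, 5, 1, 4, 1), (0, 4, 2, 5, 3), (0, 1, 4, 1, 5)], [(1, 0, 0, 2, 2), (0, 2, 2, 3, 3), (1, 3, 3, 4, 5), (0, 4, 5, 5, 4), (1, 5, 4, 1, 1), (1, 0, 1, 2, 3), (0, 2, 3, 3, 2), (1, 2, 3, 0, 5), (1, 3, 2, 4, 0), (0, 0, 5, 0, 4), (1, 0, 5, 2, 4), (0, 4, 0, 5, 0), (1, 4, 0, 5, 2), (1, 0, 4, 2, 1),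 (0, 2, 4, 3, 5), (1, 5, 0, 1, 2), (0, 5, 2, 4, 3), (1, 5, 2, 1, 0), (0, 2, 1, 3, 1), (1, 2, 1, 0, 3), (1, 3, 5, 4, 4), (0, 1, 2, 1, 3), (1, 1, 2, 3, 0), (1, 4, 3, 5, 5), (0, 0, 3, 0, 2), (1, 0, 3, 2, 5), (1, 4, 4, 5, 1), (0, 3, 0, 2, 0), (1, 3, 0, 4, 2), (1, 5, 5, 1, 4), (0, 2, 5, 3, 4), (0, 5, 1, 4, 1), (0, 4, 2, 5, 3), (0, 1, 4, 1, 5)], [(1, 0, 0, 2, 2), (0, 2, 2, 3, 3), (1, 3, 3, 4, 5), (0, 4, 5, 5, 4), (1, 5, 4, 1, 1), (1, 0, 1, 2, 3), (0, 2, 3, 3, 2), (1, 2, 3, 0, 5), (1, 3, 2, 4, 0), (0, 0, 5, 0, 4), (1, 0, 5, 2, 4), (0, 4, 0, 5, 0), (1, 4, 0, 5, 2), (1, 0, 4, 2, 1), (0, 2, 4, 3, 5), (1, 5, 0, 1, 2), (0, 5, 2, 4, 3), (1, 5, 2, 1, 0), (0, 2, 1, 3, 1), (1, 2, 1, 0, 3), (1, 3, 5, 4, 4), (0, 1, 2, 1, 3),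 (1, 1, 2, 3, 0), (1, 4, 3, 5, 5), (0, 0, 3, 0, 2), (1, 0, 3, 2, 5), (1, 4, 4, 5, 1), (0, 3, 0, 2, 0), (1, 3, 0, 4, 2), (1, 5, 5, 1, 4), (0, 2, 5, 3, 4), (0, 5, 1, 4, 1), (0, 4, 2, 5, 3), (0, 1, 4, 1, 5)], [(1, 0, 0, 2, 2), (0, 2, 2, 3, 3), (1, 3, 3, 4, 5), (0, 4, 5, 5, 4), (1, 5, 4, 1, 1), (1, 0, 1, 2, 3), (0, 2, 3, 3, 2), (1, 2, 3, 0, 5), (1, 3, 2, 4, 0), (0, 0, 5, 0, 4), (1, 0, 5, 2, 4), (0, 4, 0, 5, 0), (1, 4, 0, 5, 2), (1, 0, 4, 2, 1), (0, 2, 4, 3, 5), (1, 5, 0, 1, 2), (0, 5, 2, 4, 3), (1, 5, 2, 1, 0), (0, 2, 1, 3, 1), (1, 2, 1, 0, 3), (1, 3, 5, 4, 4), (0, 1, 2, 1, 3), (1, 1, 2, 3, 0), (1, 4, 3, 5, 5), (0, 0, 3, 0, 2), (1, 0, 3, 2, 5), (1, 4, 4, 5, 1), (0, 3, 0, 2, 0), (1, 3, 0, 4, 2), (1, 5, 5, 1, 4),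 (0, 2, 5, 3, 4), (0, 5, 1, 4, 1), (0, 4, 2, 5, 3), (0, 1, 4, 1, 5)], [(1, 0, 0, 2, 2), (0, 2, 2, 3, 3), (1, 3, 3, 4, 5), (0, 4, 5, 5, 4), (1, 5, 4, 1, 1), (1, 0, 1, 2, 3), (0, 2, 3, 3, 2), (1, 2, 3, 0, 5), (1, 3, 2, 4, 0), (0, 0, 5, 0, 4), (1, 0, 5, 2, 4), (0, 4, 0, 5, 0), (1, 4, 0, 5, 2), (1, 0, 4, 2, 1), (0, 2, 4, 3, 5), (1, 5, 0, 1, 2), (0, 5, 2, 4, 3), (1, 5, 2, 1, 0), (0, 2, 1, 3, 1), (1, 2, 1, 0, 3), (1, 3, 5, 4, 4), (0, 1, 2, 1, 3), (1, 1, 2, 3, 0), (1, 4, 3, 5, 5), (0, 0, 3, 0, 2), (1, 0, 3, 2, 5), (1, 4, 4, 5, 1), (0, 3, 0, 2, 0), (1, 3, 0, 4, 2), (1, 5, 5, 1, 4), (0, 2, 5, 3, 4), (0, 5, 1, 4, 1), (0, 4, 2, 5, 3), (0, 1, 4, 1, 5)], [(1, 0, 0, 2, 2), (0, 2, 2, 3, 3), (1, 3, 3, 4, 5), (0, 4, 5, 5,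 4), (1, 5, 4, 1, 1), (1, 0, 1, 2, 3), (0, 2, 3, 3, 2), (1, 2, 3, 0, 5), (1, 3, 2, 4, 0), (0, 0, 5, 0, 4), (1, 0, 5, 2, 4), (0, 4, 0, 5, 0), (1, 4, 0, 5, 2), (1, 0, 4, 2, 1), (0, 2, 4, 3, 5), (1, 5, 0, 1, 2), (0, 5, 2, 4, 3), (1, 5, 2, 1, 0), (0, 2, 1, 3, 1), (1, 2, 1, 0, 3), (1, 3, 5, 4, 4), (0, 1, 2, 1, 3), (1, 1, 2, 3, 0), (1, 4, 3, 5, 5), (0, 0, 3, 0, 2), (1, 0, 3, 2, 5), (1, 4, 4, 5, 1), (0, 3, 0, 2, 0), (1, 3, 0, 4, 2), (1, 5, 5, 1, 4), (0, 2, 5, 3, 4), (0, 5, 1, 4, 1), (0, 4, 2, 5, 3), (0, 1, 4, 1, 5)]]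

/-- The solution of a case, zero if there is none. -/
def caseSol : List Nat := [0x515545155455554551, 0, 0, 0x52a58a355c55f54f51, 0, 0, 0x53f5cf255855a54a51, 0, 0, 0x455155515545551554, 0, 0, 0, 0, 0x4f91f9a1ea4efa35f8, 0, 0x4ad1adf1bf4baf25ac, 0]

/-- The group of a case with expressions of its generators. -/
def caseTarget : List (Nat × List (List Nat)) := [(0, [[10, 1, 0, 1, 1, 1, 0, 1, 0, 1, 1, 1], [10, 1, 1, 0, 1, 0, 1, 1, 0, 1, 1, 1, 0], [10, 1, 1, 1, 0, 1, 0, 1, 1, 1, 0, 1, 2, 10, 10]]), (0, []), (0, []), (2, [[199, 1, 0, 1, 1, 1, 0, 1, 0, 1, 1, 1], [42, 1, 1, 0, 1, 0, 1, 1, 0, 1, 1, 1, 0], [49, 1, 1, 1, 0, 1, 0, 1, 1, 1, 0, 1, 2, 10, 88]]), (0, []), (0, []), (1, [[145, 1, 0, 1, 1, 1, 0, 1, 0, 1,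 1, 1], [71, 1, 1, 0, 1, 0, 1, 1, 0, 1, 1, 1, 0], [88, 1, 1, 1, 0, 1, 0, 1, 1, 1, 0, 1, 2, 10, 49]]), (0, []), (0, []), (0, [[10, 1, 1, 1, 0, 1, 0, 1, 1, 1, 0, 1], [10, 1, 1, 0, 1, 1, 1, 0, 1, 1, 0, 1], [10, 0, 1, 1, 1, 0, 1, 0, 1, 1, 1, 0, 1, 2, 10, 10]]), (0, []), (0, []), (0, []), (0, []), (1, [[252, 1, 1, 1, 0, 1, 0, 1, 1, 1, 0, 1], [67, 1, 1, 0, 1, 1, 1, 0, 1, 1, 0, 1], [227, 0, 1, 1, 1, 0, 1, 0, 1, 1, 1, 0, 1, 2, 10, 35]]), (0, []), (2, [[131, 1, 1, 1, 0, 1, 0, 1, 1, 1, 0, 1], [43, 1, 1, 0, 1, 1, 1, 0, 1, 1, 0, 1], [120, 0, 1, 1, 1, 0, 1, 0, 1, 1, 1, 0, 1, 2, 10, 24]]), (0, [])]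

/-- The transposed generators as expressions. -/
def swapExpr : List (List (List Nat)) := [[[10, 0], [10, 0, 1, 1, 1, 0, 1, 0, 1, 1, 1, 0, 1, 1, 0], [10, 2, 10, 10]], [[145, 0], [127, 0, 1, 1, 1, 0, 1, 0, 1, 1, 1, 0, 1, 1, 0], [77, 2, 10, 63]], [[199, 0], [244, 0, 1, 1, 1, 0, 1, 0, 1, 1, 1, 0, 1, 1, 0], [63, 2, 10, 77]]]

/-- The six cycle as a word. -/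
def cycWord : List Nat := [0, 2, 1, 0, 1, 0, 1]

/-- Words of order eleven. -/
def eleven : List (Nat × Nat × List Nat) := [(0, 1, [0, 0, 2, 3, 1, 0, 3, 241]), (0, 2, [0, 1, 2, 2, 2, 247]), (1, 2, [2, 2, 0, 3, 3, 1, 2, 1, 3, 247])]

/-- The entry lists of determinant one. -/
def valList : List (List Nat) := [[1, 1, 1, 1, 1, 1],
  [1, 1, 1, 1, 2, 3],
  [1, 1, 1, 1, 3, 2],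
  [1, 1, 1, 2, 1, 3],
  [1, 1, 1, 2, 2, 2],
  [1, 1, 1, 2, 3, 1],
  [1, 1, 1, 3, 1, 2],
  [1, 1, 1, 3, 2, 1],
  [1, 1, 1, 3, 3, 3],
  [1, 1, 2, 1, 1, 3],
  [1, 1, 2, 1, 2, 2],
  [1, 1, 2, 1, 3, 1],
  [1, 1, 2, 2, 1, 2],
  [1, 1, 2, 2, 2, 1],
  [1, 1, 2, 2, 3, 3],
  [1, 1, 2, 3, 1, 1],
  [1, 1, 2, 3, 2, 3],
  [1, 1, 2, 3, 3, 2],
  [1, 1, 3, 1, 1, 2],
  [1, 1, 3, 1, 2, 1],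
  [1, 1, 3, 1, 3, 3],
  [1, 1, 3, 2, 1, 1],
  [1, 1, 3, 2, 2, 3],
  [1, 1, 3, 2, 3, 2],
  [1, 1, 3, 3, 1, 3],
  [1, 1, 3, 3, 2, 2],
  [1, 1, 3, 3, 3, 1],
  [1, 2, 1, 1, 1, 3],
  [1, 2, 1, 1, 2, 2],
  [1, 2, 1, 1, 3, 1],
  [1, 2, 1, 2, 1, 2],
  [1, 2, 1, 2, 2, 1],
  [1, 2, 1, 2, 3, 3],
  [1, 2, 1, 3, 1, 1],
  [1, 2, 1, 3, 2, 3],
  [1, 2, 1, 3, 3, 2],
  [1, 2, 2, 1, 1, 2],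
  [1, 2, 2, 1, 2, 1],
  [1, 2, 2, 1, 3, 3],
  [1, 2, 2, 2, 1, 1],
  [1, 2, 2, 2, 2, 3],
  [1, 2, 2, 2, 3, 2],
  [1, 2, 2, 3, 1, 3],
  [1, 2, 2, 3, 2, 2],
  [1, 2, 2, 3, 3, 1],
  [1, 2, 3, 1, 1, 1],
  [1, 2, 3, 1, 2, 3],
  [1, 2, 3, 1, 3, 2],
  [1, 2, 3, 2, 1, 3],
  [1, 2, 3, 2, 2, 2],
  [1, 2, 3, 2, 3, 1],
  [1, 2, 3, 3, 1, 2],
  [1, 2, 3, 3, 2, 1],
  [1, 2, 3, 3, 3, 3],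
  [1, 3, 1, 1, 1, 2],
  [1, 3, 1, 1, 2, 1],
  [1, 3, 1, 1, 3, 3],
  [1, 3, 1, 2, 1, 1],
  [1, 3, 1, 2, 2, 3],
  [1, 3, 1, 2, 3, 2],
  [1, 3, 1, 3, 1, 3],
  [1, 3, 1, 3, 2, 2],
  [1, 3, 1, 3, 3, 1],
  [1, 3, 2, 1, 1, 1],
  [1, 3, 2, 1, 2, 3],
  [1, 3, 2, 1, 3, 2],
  [1, 3, 2, 2, 1, 3],
  [1, 3, 2, 2, 2, 2],
  [1, 3, 2, 2, 3, 1],
  [1, 3, 2, 3, 1, 2],
  [1, 3, 2, 3, 2, 1],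
  [1, 3, 2, 3, 3, 3],
  [1, 3, 3, 1, 1, 3],
  [1, 3, 3, 1, 2, 2],
  [1, 3, 3, 1, 3, 1],
  [1, 3, 3, 2, 1, 2],
  [1, 3, 3, 2, 2, 1],
  [1, 3, 3, 2, 3, 3],
  [1, 3, 3, 3, 1, 1],
  [1, 3, 3, 3, 2, 3],
  [1, 3, 3, 3, 3, 2],
  [2, 1, 1, 1, 1, 3],
  [2, 1, 1, 1, 2, 2],
  [2, 1, 1, 1, 3, 1],
  [2, 1, 1, 2, 1, 2],
  [2, 1, 1, 2, 2, 1],
  [2, 1, 1, 2, 3, 3],
  [2, 1, 1, 3, 1, 1],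
  [2, 1, 1, 3, 2, 3],
  [2, 1, 1, 3, 3, 2],
  [2, 1, 2, 1, 1, 2],
  [2, 1, 2, 1, 2, 1],
  [2, 1, 2, 1, 3, 3],
  [2, 1, 2, 2, 1, 1],
  [2, 1, 2, 2, 2, 3],
  [2, 1, 2, 2, 3, 2],
  [2, 1, 2, 3, 1, 3],
  [2, 1, 2, 3, 2, 2],
  [2, 1, 2, 3, 3, 1],
  [2, 1, 3, 1, 1, 1],
  [2, 1, 3, 1, 2, 3],
  [2, 1, 3, 1, 3, 2],
  [2, 1, 3, 2, 1, 3],
  [2, 1, 3, 2, 2, 2],
  [2, 1, 3, 2, 3, 1],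
  [2, 1, 3, 3, 1, 2],
  [2, 1, 3, 3, 2, 1],
  [2, 1, 3, 3, 3, 3],
  [2, 2, 1, 1, 1, 2],
  [2, 2, 1, 1, 2, 1],
  [2, 2, 1, 1, 3, 3],
  [2, 2, 1, 2, 1, 1],
  [2, 2, 1, 2, 2, 3],
  [2, 2, 1, 2, 3, 2],
  [2, 2, 1, 3, 1, 3],
  [2, 2, 1, 3, 2, 2],
  [2, 2, 1, 3, 3, 1],
  [2, 2, 2, 1, 1, 1],
  [2, 2, 2, 1, 2, 3],
  [2, 2, 2, 1, 3, 2],
  [2, 2, 2, 2, 1, 3],
  [2, 2, 2, 2, 2, 2],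
  [2, 2, 2, 2, 3, 1],
  [2, 2, 2, 3, 1, 2],
  [2, 2, 2, 3, 2, 1],
  [2, 2, 2, 3, 3, 3],
  [2, 2, 3, 1, 1, 3],
  [2, 2, 3, 1, 2, 2],
  [2, 2, 3, 1, 3, 1],
  [2, 2, 3, 2, 1, 2],
  [2, 2, 3, 2, 2, 1],
  [2, 2, 3, 2, 3, 3],
  [2, 2, 3, 3, 1, 1],
  [2, 2, 3, 3, 2, 3],
  [2, 2, 3, 3, 3, 2],
  [2, 3, 1, 1, 1, 1],
  [2, 3, 1, 1, 2, 3],
  [2, 3, 1, 1, 3, 2],
  [2, 3, 1, 2, 1, 3],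
  [2, 3, 1, 2, 2, 2],
  [2, 3, 1, 2, 3, 1],
  [2, 3, 1, 3, 1, 2],
  [2, 3, 1, 3, 2, 1],
  [2, 3, 1, 3, 3, 3],
  [2, 3, 2, 1, 1, 3],
  [2, 3, 2, 1, 2, 2],
  [2, 3, 2, 1, 3, 1],
  [2, 3, 2, 2, 1, 2],
  [2, 3, 2, 2, 2, 1],
  [2, 3, 2, 2, 3, 3],
  [2, 3, 2, 3, 1, 1],
  [2, 3, 2, 3, 2, 3],
  [2, 3, 2, 3, 3, 2],
  [2, 3, 3, 1, 1, 2],
  [2, 3, 3, 1, 2, 1],
  [2, 3, 3, 1, 3, 3],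
  [2, 3, 3, 2, 1, 1],
  [2, 3, 3, 2, 2, 3],
  [2, 3, 3, 2, 3, 2],
  [2, 3, 3, 3, 1, 3],
  [2, 3, 3, 3, 2, 2],
  [2, 3, 3, 3, 3, 1],
  [3, 1, 1, 1, 1, 2],
  [3, 1, 1, 1, 2, 1],
  [3, 1, 1, 1, 3, 3],
  [3, 1, 1, 2, 1, 1],
  [3, 1, 1, 2, 2, 3],
  [3, 1, 1, 2, 3, 2],
  [3, 1, 1, 3, 1, 3],
  [3, 1, 1, 3, 2, 2],
  [3, 1, 1, 3, 3, 1],
  [3, 1, 2, 1, 1, 1],
  [3, 1, 2, 1, 2, 3],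
  [3, 1, 2, 1, 3, 2],
  [3, 1, 2, 2, 1, 3],
  [3, 1, 2, 2, 2, 2],
  [3, 1, 2, 2, 3, 1],
  [3, 1, 2, 3, 1, 2],
  [3, 1, 2, 3, 2, 1],
  [3, 1, 2, 3, 3, 3],
  [3, 1, 3, 1, 1, 3],
  [3, 1, 3, 1, 2, 2],
  [3, 1, 3, 1, 3, 1],
  [3, 1, 3, 2, 1, 2],
  [3, 1, 3, 2, 2, 1],
  [3, 1, 3, 2, 3, 3],
  [3, 1, 3, 3, 1, 1],
  [3, 1, 3, 3, 2, 3],
  [3, 1, 3, 3, 3, 2],
  [3, 2, 1, 1, 1, 1],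
  [3, 2, 1, 1, 2, 3],
  [3, 2, 1, 1, 3, 2],
  [3, 2, 1, 2, 1, 3],
  [3, 2, 1, 2, 2, 2],
  [3, 2, 1, 2, 3, 1],
  [3, 2, 1, 3, 1, 2],
  [3, 2, 1, 3, 2, 1],
  [3, 2, 1, 3, 3, 3],
  [3, 2, 2, 1, 1, 3],
  [3, 2, 2, 1, 2, 2],
  [3, 2, 2, 1, 3, 1],
  [3, 2, 2, 2, 1, 2],
  [3, 2, 2, 2, 2, 1],
  [3, 2, 2, 2, 3, 3],
  [3, 2, 2, 3, 1, 1],
  [3, 2, 2, 3, 2, 3],
  [3, 2, 2, 3, 3, 2],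
  [3, 2, 3, 1, 1, 2],
  [3, 2, 3, 1, 2, 1],
  [3, 2, 3, 1, 3, 3],
  [3, 2, 3, 2, 1, 1],
  [3, 2, 3, 2, 2, 3],
  [3, 2, 3, 2, 3, 2],
  [3, 2, 3, 3, 1, 3],
  [3, 2, 3, 3, 2, 2],
  [3, 2, 3, 3, 3, 1],
  [3, 3, 1, 1, 1, 3],
  [3, 3, 1, 1, 2, 2],
  [3, 3, 1, 1, 3, 1],
  [3, 3, 1, 2, 1, 2],
  [3, 3, 1, 2, 2, 1],
  [3, 3, 1, 2, 3, 3],
  [3, 3, 1, 3, 1, 1],
  [3, 3, 1, 3, 2, 3],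
  [3, 3, 1, 3, 3, 2],
  [3, 3, 2, 1, 1, 2],
  [3, 3, 2, 1, 2, 1],
  [3, 3, 2, 1, 3, 3],
  [3, 3, 2, 2, 1, 1],
  [3, 3, 2, 2, 2, 3],
  [3, 3, 2, 2, 3, 2],
  [3, 3, 2, 3, 1, 3],
  [3, 3, 2, 3, 2, 2],
  [3, 3, 2, 3, 3, 1],
  [3, 3, 3, 1, 1, 1],
  [3, 3, 3, 1, 2, 3],
  [3, 3, 3, 1, 3, 2],
  [3, 3, 3, 2, 1, 3],
  [3, 3, 3, 2, 2, 2],
  [3, 3, 3, 2, 3, 1],
  [3, 3, 3, 3, 1, 2],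
  [3, 3, 3, 3, 2, 1],
  [3, 3, 3, 3, 3, 3]]

/-- The lists of images. -/
def permList : List (List Nat) := [[0, 1, 2, 3, 4, 5],
  [1, 0, 2, 3, 4, 5],
  [1, 2, 0, 3, 4, 5],
  [1, 2, 3, 0, 4, 5],
  [1, 2, 3, 4, 0, 5],
  [1, 2, 3, 4, 5, 0],
  [0, 2, 1, 3, 4, 5],
  [2, 0, 1, 3, 4, 5],
  [2, 1, 0, 3, 4, 5],
  [2, 1, 3, 0, 4, 5],
  [2, 1, 3, 4, 0, 5],
  [2, 1, 3, 4, 5, 0],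
  [0, 2, 3, 1, 4, 5],
  [2, 0, 3, 1, 4, 5],
  [2, 3, 0, 1, 4, 5],
  [2, 3, 1, 0, 4, 5],
  [2, 3, 1, 4, 0, 5],
  [2, 3, 1, 4, 5, 0],
  [0, 2, 3, 4, 1, 5],
  [2, 0, 3, 4, 1, 5],
  [2, 3, 0, 4, 1, 5],
  [2, 3, 4, 0, 1, 5],
  [2, 3, 4, 1, 0, 5],
  [2, 3, 4, 1, 5, 0],
  [0, 2, 3, 4, 5, 1],
  [2, 0, 3, 4, 5, 1],
  [2, 3, 0, 4, 5, 1],
  [2, 3, 4, 0, 5, 1],
  [2, 3, 4, 5, 0, 1],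
  [2, 3, 4, 5, 1, 0],
  [0, 1, 3, 2, 4, 5],
  [1, 0, 3, 2, 4, 5],
  [1, 3, 0, 2, 4, 5],
  [1, 3, 2, 0, 4, 5],
  [1, 3, 2, 4, 0, 5],
  [1, 3, 2, 4, 5, 0],
  [0, 3, 1, 2, 4, 5],
  [3, 0, 1, 2, 4, 5],
  [3, 1, 0, 2, 4, 5],
  [3, 1, 2, 0, 4, 5],
  [3, 1, 2, 4, 0, 5],
  [3, 1, 2, 4, 5, 0],
  [0, 3, 2, 1, 4, 5],
  [3, 0, 2, 1, 4, 5],
  [3, 2, 0, 1, 4, 5],
  [3, 2, 1, 0, 4, 5],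
  [3, 2, 1, 4, 0, 5],
  [3, 2, 1, 4, 5, 0],
  [0, 3, 2, 4, 1, 5],
  [3, 0, 2, 4, 1, 5],
  [3, 2, 0, 4, 1, 5],
  [3, 2, 4, 0, 1, 5],
  [3, 2, 4, 1, 0, 5],
  [3, 2, 4, 1, 5, 0],
  [0, 3, 2, 4, 5, 1],
  [3, 0, 2, 4, 5, 1],
  [3, 2, 0, 4, 5, 1],
  [3, 2, 4, 0, 5, 1],
  [3, 2, 4, 5, 0, 1],
  [3, 2, 4, 5, 1, 0],
  [0, 1, 3, 4, 2, 5],
  [1, 0, 3, 4, 2, 5],
  [1, 3, 0, 4, 2, 5],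
  [1, 3, 4, 0, 2, 5],
  [1, 3, 4, 2, 0, 5],
  [1, 3, 4, 2, 5, 0],
  [0, 3, 1, 4, 2, 5],
  [3, 0, 1, 4, 2, 5],
  [3, 1, 0, 4, 2, 5],
  [3, 1, 4, 0, 2, 5],
  [3, 1, 4, 2, 0, 5],
  [3, 1, 4, 2, 5, 0],
  [0, 3, 4, 1, 2, 5],
  [3, 0, 4, 1, 2, 5],
  [3, 4, 0, 1, 2, 5],
  [3, 4, 1, 0, 2, 5],
  [3, 4, 1, 2, 0, 5],
  [3, 4, 1, 2, 5, 0],
  [0, 3, 4, 2, 1, 5],
  [3, 0, 4, 2, 1, 5],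
  [3, 4, 0, 2, 1, 5],
  [3, 4, 2, 0, 1, 5],
  [3, 4, 2, 1, 0, 5],
  [3, 4, 2, 1, 5, 0],
  [0, 3, 4, 2, 5, 1],
  [3, 0, 4, 2, 5, 1],
  [3, 4, 0, 2, 5, 1],
  [3, 4, 2, 0, 5, 1],
  [3, 4, 2, 5, 0, 1],
  [3, 4, 2, 5, 1, 0],
  [0, 1, 3, 4, 5, 2],
  [1, 0, 3, 4, 5, 2],
  [1, 3, 0, 4, 5, 2],
  [1, 3, 4, 0, 5, 2],
  [1, 3, 4, 5, 0, 2],
  [1, 3, 4, 5, 2, 0],
  [0, 3, 1, 4, 5, 2],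
  [3, 0, 1, 4, 5, 2],
  [3, 1, 0, 4, 5, 2],
  [3, 1, 4, 0, 5, 2],
  [3, 1, 4, 5, 0, 2],
  [3, 1, 4, 5, 2, 0],
  [0, 3, 4, 1, 5, 2],
  [3, 0, 4, 1, 5, 2],
  [3, 4, 0, 1, 5, 2],
  [3, 4, 1, 0, 5, 2],
  [3, 4, 1, 5, 0, 2],
  [3, 4, 1, 5, 2, 0],
  [0, 3, 4, 5, 1, 2],
  [3, 0, 4, 5, 1, 2],
  [3, 4, 0, 5, 1, 2],
  [3, 4, 5, 0, 1, 2],
  [3, 4, 5, 1, 0, 2],
  [3, 4, 5, 1, 2, 0],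
  [0, 3, 4, 5, 2, 1],
  [3, 0, 4, 5, 2, 1],
  [3, 4, 0, 5, 2, 1],
  [3, 4, 5, 0, 2, 1],
  [3, 4, 5, 2, 0, 1],
  [3, 4, 5, 2, 1, 0],
  [0, 1, 2, 4, 3, 5],
  [1, 0, 2, 4, 3, 5],
  [1, 2, 0, 4, 3, 5],
  [1, 2, 4, 0, 3, 5],
  [1, 2, 4, 3, 0, 5],
  [1, 2, 4, 3, 5, 0],
  [0, 2, 1, 4, 3, 5],
  [2, 0, 1, 4, 3, 5],
  [2, 1, 0, 4, 3, 5],
  [2, 1, 4, 0, 3, 5],
  [2, 1, 4, 3, 0, 5],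
  [2, 1, 4, 3, 5, 0],
  [0, 2, 4, 1, 3, 5],
  [2, 0, 4, 1, 3, 5],
  [2, 4, 0, 1, 3, 5],
  [2, 4, 1, 0, 3, 5],
  [2, 4, 1, 3, 0, 5],
  [2, 4, 1, 3, 5, 0],
  [0, 2, 4, 3, 1, 5],
  [2, 0, 4, 3, 1, 5],
  [2, 4, 0, 3, 1, 5],
  [2, 4, 3, 0, 1, 5],
  [2, 4, 3, 1, 0, 5],
  [2, 4, 3, 1, 5, 0],
  [0, 2, 4, 3, 5, 1],
  [2, 0, 4, 3, 5, 1],
  [2, 4, 0, 3, 5, 1],
  [2, 4, 3, 0, 5, 1],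
  [2, 4, 3, 5, 0, 1],
  [2, 4, 3, 5, 1, 0],
  [0, 1, 4, 2, 3, 5],
  [1, 0, 4, 2, 3, 5],
  [1, 4, 0, 2, 3, 5],
  [1, 4, 2, 0, 3, 5],
  [1, 4, 2, 3, 0, 5],
  [1, 4, 2, 3, 5, 0],
  [0, 4, 1, 2, 3, 5],
  [4, 0, 1, 2, 3, 5],
  [4, 1, 0, 2, 3, 5],
  [4, 1, 2, 0, 3, 5],
  [4, 1, 2, 3, 0, 5],
  [4, 1, 2, 3, 5, 0],
  [0, 4, 2, 1, 3, 5],
  [4, 0, 2, 1, 3, 5],
  [4, 2, 0, 1, 3, 5],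
  [4, 2, 1, 0, 3, 5],
  [4, 2, 1, 3, 0, 5],
  [4, 2, 1, 3, 5, 0],
  [0, 4, 2, 3, 1, 5],
  [4, 0, 2, 3, 1, 5],
  [4, 2, 0, 3, 1, 5],
  [4, 2, 3, 0, 1, 5],
  [4, 2, 3, 1, 0, 5],
  [4, 2, 3, 1, 5, 0],
  [0, 4, 2, 3, 5, 1],
  [4, 0, 2, 3, 5, 1],
  [4, 2, 0, 3, 5, 1],
  [4, 2, 3, 0, 5, 1],
  [4, 2, 3, 5, 0, 1],
  [4, 2, 3, 5, 1, 0],
  [0, 1, 4, 3, 2, 5],
  [1, 0, 4, 3, 2, 5],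
  [1, 4, 0, 3, 2, 5],
  [1, 4, 3, 0, 2, 5],
  [1, 4, 3, 2, 0, 5],
  [1, 4, 3, 2, 5, 0],
  [0, 4, 1, 3, 2, 5],
  [4, 0, 1, 3, 2, 5],
  [4, 1, 0, 3, 2, 5],
  [4, 1, 3, 0, 2, 5],
  [4, 1, 3, 2, 0, 5],
  [4, 1, 3, 2, 5, 0],
  [0, 4, 3, 1, 2, 5],
  [4, 0, 3, 1, 2, 5],
  [4, 3, 0, 1, 2, 5],
  [4, 3, 1, 0, 2, 5],
  [4, 3, 1, 2, 0, 5],
  [4, 3, 1, 2, 5, 0],
  [0, 4, 3, 2, 1, 5],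
  [4, 0, 3, 2, 1, 5],
  [4, 3, 0, 2, 1, 5],
  [4, 3, 2, 0, 1, 5],
  [4, 3, 2, 1, 0, 5],
  [4, 3, 2, 1, 5, 0],
  [0, 4, 3, 2, 5, 1],
  [4, 0, 3, 2, 5, 1],
  [4, 3, 0, 2, 5, 1],
  [4, 3, 2, 0, 5, 1],
  [4, 3, 2, 5, 0, 1],
  [4, 3, 2, 5, 1, 0],
  [0, 1, 4, 3, 5, 2],
  [1, 0, 4, 3, 5, 2],
  [1, 4, 0, 3, 5, 2],
  [1, 4, 3, 0, 5, 2],
  [1, 4, 3, 5, 0, 2],
  [1, 4, 3, 5, 2, 0],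
  [0, 4, 1, 3, 5, 2],
  [4, 0, 1, 3, 5, 2],
  [4, 1, 0, 3, 5, 2],
  [4, 1, 3, 0, 5, 2],
  [4, 1, 3, 5, 0, 2],
  [4, 1, 3, 5, 2, 0],
  [0, 4, 3, 1, 5, 2],
  [4, 0, 3, 1, 5, 2],
  [4, 3, 0, 1, 5, 2],
  [4, 3, 1, 0, 5, 2],
  [4, 3, 1, 5, 0, 2],
  [4, 3, 1, 5, 2, 0],
  [0, 4, 3, 5, 1, 2],
  [4, 0, 3, 5, 1, 2],
  [4, 3, 0, 5, 1, 2],
  [4, 3, 5, 0, 1, 2],
  [4, 3, 5, 1, 0, 2],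
  [4, 3, 5, 1, 2, 0],
  [0, 4, 3, 5, 2, 1],
  [4, 0, 3, 5, 2, 1],
  [4, 3, 0, 5, 2, 1],
  [4, 3, 5, 0, 2, 1],
  [4, 3, 5, 2, 0, 1],
  [4, 3, 5, 2, 1, 0],
  [0, 1, 2, 4, 5, 3],
  [1, 0, 2, 4, 5, 3],
  [1, 2, 0, 4, 5, 3],
  [1, 2, 4, 0, 5, 3],
  [1, 2, 4, 5, 0, 3],
  [1, 2, 4, 5, 3, 0],
  [0, 2, 1, 4, 5, 3],
  [2, 0, 1, 4, 5, 3],
  [2, 1, 0, 4, 5, 3],
  [2, 1, 4, 0, 5, 3],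
  [2, 1, 4, 5, 0, 3],
  [2, 1, 4, 5, 3, 0],
  [0, 2, 4, 1, 5, 3],
  [2, 0, 4, 1, 5, 3],
  [2, 4, 0, 1, 5, 3],
  [2, 4, 1, 0, 5, 3],
  [2, 4, 1, 5, 0, 3],
  [2, 4, 1, 5, 3, 0],
  [0, 2, 4, 5, 1, 3],
  [2, 0, 4, 5, 1, 3],
  [2, 4, 0, 5, 1, 3],
  [2, 4, 5, 0, 1, 3],
  [2, 4, 5, 1, 0, 3],
  [2, 4, 5, 1, 3, 0],
  [0, 2, 4, 5, 3, 1],
  [2, 0, 4, 5, 3, 1],
  [2, 4, 0, 5, 3, 1],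
  [2, 4, 5, 0, 3, 1],
  [2, 4, 5, 3, 0, 1],
  [2, 4, 5, 3, 1, 0],
  [0, 1, 4, 2, 5, 3],
  [1, 0, 4, 2, 5, 3],
  [1, 4, 0, 2, 5, 3],
  [1, 4, 2, 0, 5, 3],
  [1, 4, 2, 5, 0, 3],
  [1, 4, 2, 5, 3, 0],
  [0, 4, 1, 2, 5, 3],
  [4, 0, 1, 2, 5, 3],
  [4, 1, 0, 2, 5, 3],
  [4, 1, 2, 0, 5, 3],
  [4, 1, 2, 5, 0, 3],
  [4, 1, 2, 5, 3, 0],
  [0, 4, 2, 1, 5, 3],
  [4, 0, 2, 1, 5, 3],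
  [4, 2, 0, 1, 5, 3],
  [4, 2, 1, 0, 5, 3],
  [4, 2, 1, 5, 0, 3],
  [4, 2, 1, 5, 3, 0],
  [0, 4, 2, 5, 1, 3],
  [4, 0, 2, 5, 1, 3],
  [4, 2, 0, 5, 1, 3],
  [4, 2, 5, 0, 1, 3],
  [4, 2, 5, 1, 0, 3],
  [4, 2, 5, 1, 3, 0],
  [0, 4, 2, 5, 3, 1],
  [4, 0, 2, 5, 3, 1],
  [4, 2, 0, 5, 3, 1],
  [4, 2, 5, 0, 3, 1],
  [4, 2, 5, 3, 0, 1],
  [4, 2, 5, 3, 1, 0],
  [0, 1, 4, 5, 2, 3],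
  [1, 0, 4, 5, 2, 3],
  [1, 4, 0, 5, 2, 3],
  [1, 4, 5, 0, 2, 3],
  [1, 4, 5, 2, 0, 3],
  [1, 4, 5, 2, 3, 0],
  [0, 4, 1, 5, 2, 3],
  [4, 0, 1, 5, 2, 3],
  [4, 1, 0, 5, 2, 3],
  [4, 1, 5, 0, 2, 3],
  [4, 1, 5, 2, 0, 3],
  [4, 1, 5, 2, 3, 0],
  [0, 4, 5, 1, 2, 3],
  [4, 0, 5, 1, 2, 3],
  [4, 5, 0, 1, 2, 3],
  [4, 5, 1, 0, 2, 3],
  [4, 5, 1, 2, 0, 3],
  [4, 5, 1, 2, 3, 0],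
  [0, 4, 5, 2, 1, 3],
  [4, 0, 5, 2, 1, 3],
  [4, 5, 0, 2, 1, 3],
  [4, 5, 2, 0, 1, 3],
  [4, 5, 2, 1, 0, 3],
  [4, 5, 2, 1, 3, 0],
  [0, 4, 5, 2, 3, 1],
  [4, 0, 5, 2, 3, 1],
  [4, 5, 0, 2, 3, 1],
  [4, 5, 2, 0, 3, 1],
  [4, 5, 2, 3, 0, 1],
  [4, 5, 2, 3, 1, 0],
  [0, 1, 4, 5, 3, 2],
  [1, 0, 4, 5, 3, 2],
  [1, 4, 0, 5, 3, 2],
  [1, 4, 5, 0, 3, 2],
  [1, 4, 5, 3, 0, 2],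
  [1, 4, 5, 3, 2, 0],
  [0, 4, 1, 5, 3, 2],
  [4, 0, 1, 5, 3, 2],
  [4, 1, 0, 5, 3, 2],
  [4, 1, 5, 0, 3, 2],
  [4, 1, 5, 3, 0, 2],
  [4, 1, 5, 3, 2, 0],
  [0, 4, 5, 1, 3, 2],
  [4, 0, 5, 1, 3, 2],
  [4, 5, 0, 1, 3, 2],
  [4, 5, 1, 0, 3, 2],
  [4, 5, 1, 3, 0, 2],
  [4, 5, 1, 3, 2, 0],
  [0, 4, 5, 3, 1, 2],
  [4, 0, 5, 3, 1, 2],
  [4, 5, 0, 3, 1, 2],
  [4, 5, 3, 0, 1, 2],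
  [4, 5, 3, 1, 0, 2],
  [4, 5, 3, 1, 2, 0],
  [0, 4, 5, 3, 2, 1],
  [4, 0, 5, 3, 2, 1],
  [4, 5, 0, 3, 2, 1],
  [4, 5, 3, 0, 2, 1],
  [4, 5, 3, 2, 0, 1],
  [4, 5, 3, 2, 1, 0],
  [0, 1, 2, 3, 5, 4],
  [1, 0, 2, 3, 5, 4],
  [1, 2, 0, 3, 5, 4],
  [1, 2, 3, 0, 5, 4],
  [1, 2, 3, 5, 0, 4],
  [1, 2, 3, 5, 4, 0],
  [0, 2, 1, 3, 5, 4],
  [2, 0, 1, 3, 5, 4],
  [2, 1, 0, 3, 5, 4],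
  [2, 1, 3, 0, 5, 4],
  [2, 1, 3, 5, 0, 4],
  [2, 1, 3, 5, 4, 0],
  [0, 2, 3, 1, 5, 4],
  [2, 0, 3, 1, 5, 4],
  [2, 3, 0, 1, 5, 4],
  [2, 3, 1, 0, 5, 4],
  [2, 3, 1, 5, 0, 4],
  [2, 3, 1, 5, 4, 0],
  [0, 2, 3, 5, 1, 4],
  [2, 0, 3, 5, 1, 4],
  [2, 3, 0, 5, 1, 4],
  [2, 3, 5, 0, 1, 4],
  [2, 3, 5, 1, 0, 4],
  [2, 3, 5, 1, 4, 0],
  [0, 2, 3, 5, 4, 1],
  [2, 0, 3, 5, 4, 1],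
  [2, 3, 0, 5, 4, 1],
  [2, 3, 5, 0, 4, 1],
  [2, 3, 5, 4, 0, 1],
  [2, 3, 5, 4, 1, 0],
  [0, 1, 3, 2, 5, 4],
  [1, 0, 3, 2, 5, 4],
  [1, 3, 0, 2, 5, 4],
  [1, 3, 2, 0, 5, 4],
  [1, 3, 2, 5, 0, 4],
  [1, 3, 2, 5, 4, 0],
  [0, 3, 1, 2, 5, 4],
  [3, 0, 1, 2, 5, 4],
  [3, 1, 0, 2, 5, 4],
  [3, 1, 2, 0, 5, 4],
  [3, 1, 2, 5, 0, 4],
  [3, 1, 2, 5, 4, 0],
  [0, 3, 2, 1, 5, 4],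
  [3, 0, 2, 1, 5, 4],
  [3, 2, 0, 1, 5, 4],
  [3, 2, 1, 0, 5, 4],
  [3, 2, 1, 5, 0, 4],
  [3, 2, 1, 5, 4, 0],
  [0, 3, 2, 5, 1, 4],
  [3, 0, 2, 5, 1, 4],
  [3, 2, 0, 5, 1, 4],
  [3, 2, 5, 0, 1, 4],
  [3, 2, 5, 1, 0, 4],
  [3, 2, 5, 1, 4, 0],
  [0, 3, 2, 5, 4, 1],
  [3, 0, 2, 5, 4, 1],
  [3, 2, 0, 5, 4, 1],
  [3, 2, 5, 0, 4, 1],
  [3, 2, 5, 4, 0, 1],
  [3, 2, 5, 4, 1, 0],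
  [0, 1, 3, 5, 2, 4],
  [1, 0, 3, 5, 2, 4],
  [1, 3, 0, 5, 2, 4],
  [1, 3, 5, 0, 2, 4],
  [1, 3, 5, 2, 0, 4],
  [1, 3, 5, 2, 4, 0],
  [0, 3, 1, 5, 2, 4],
  [3, 0, 1, 5, 2, 4],
  [3, 1, 0, 5, 2, 4],
  [3, 1, 5, 0, 2, 4],
  [3, 1, 5, 2, 0, 4],
  [3, 1, 5, 2, 4, 0],
  [0, 3, 5, 1, 2, 4],
  [3, 0, 5, 1, 2, 4],
  [3, 5, 0, 1, 2, 4],
  [3, 5, 1, 0, 2, 4],
  [3, 5, 1, 2, 0, 4],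
  [3, 5, 1, 2, 4, 0],
  [0, 3, 5, 2, 1, 4],
  [3, 0, 5, 2, 1, 4],
  [3, 5, 0, 2, 1, 4],
  [3, 5, 2, 0, 1, 4],
  [3, 5, 2, 1, 0, 4],
  [3, 5, 2, 1, 4, 0],
  [0, 3, 5, 2, 4, 1],
  [3, 0, 5, 2, 4, 1],
  [3, 5, 0, 2, 4, 1],
  [3, 5, 2, 0, 4, 1],
  [3, 5, 2, 4, 0, 1],
  [3, 5, 2, 4, 1, 0],
  [0, 1, 3, 5, 4, 2],
  [1, 0, 3, 5, 4, 2],
  [1, 3, 0, 5, 4, 2],
  [1, 3, 5, 0, 4, 2],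
  [1, 3, 5, 4, 0, 2],
  [1, 3, 5, 4, 2, 0],
  [0, 3, 1, 5, 4, 2],
  [3, 0, 1, 5, 4, 2],
  [3, 1, 0, 5, 4, 2],
  [3, 1, 5, 0, 4, 2],
  [3, 1, 5, 4, 0, 2],
  [3, 1, 5, 4, 2, 0],
  [0, 3, 5, 1, 4, 2],
  [3, 0, 5, 1, 4, 2],
  [3, 5, 0, 1, 4, 2],
  [3, 5, 1, 0, 4, 2],
  [3, 5, 1, 4, 0, 2],
  [3, 5, 1, 4, 2, 0],
  [0, 3, 5, 4, 1, 2],
  [3, 0, 5, 4, 1, 2],
  [3, 5, 0, 4, 1, 2],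
  [3, 5, 4, 0, 1, 2],
  [3, 5, 4, 1, 0, 2],
  [3, 5, 4, 1, 2, 0],
  [0, 3, 5, 4, 2, 1],
  [3, 0, 5, 4, 2, 1],
  [3, 5, 0, 4, 2, 1],
  [3, 5, 4, 0, 2, 1],
  [3, 5, 4, 2, 0, 1],
  [3, 5, 4, 2, 1, 0],
  [0, 1, 2, 5, 3, 4],
  [1, 0, 2, 5, 3, 4],
  [1, 2, 0, 5, 3, 4],
  [1, 2, 5, 0, 3, 4],
  [1, 2, 5, 3, 0, 4],
  [1, 2, 5, 3, 4, 0],
  [0, 2, 1, 5, 3, 4],
  [2, 0, 1, 5, 3, 4],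
  [2, 1, 0, 5, 3, 4],
  [2, 1, 5, 0, 3, 4],
  [2, 1, 5, 3, 0, 4],
  [2, 1, 5, 3, 4, 0],
  [0, 2, 5, 1, 3, 4],
  [2, 0, 5, 1, 3, 4],
  [2, 5, 0, 1, 3, 4],
  [2, 5, 1, 0, 3, 4],
  [2, 5, 1, 3, 0, 4],
  [2, 5, 1, 3, 4, 0],
  [0, 2, 5, 3, 1, 4],
  [2, 0, 5, 3, 1, 4],
  [2, 5, 0, 3, 1, 4],
  [2, 5, 3, 0, 1, 4],
  [2, 5, 3, 1, 0, 4],
  [2, 5, 3, 1, 4, 0],
  [0, 2, 5, 3, 4, 1],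
  [2, 0, 5, 3, 4, 1],
  [2, 5, 0, 3, 4, 1],
  [2, 5, 3, 0, 4, 1],
  [2, 5, 3, 4, 0, 1],
  [2, 5, 3, 4, 1, 0],
  [0, 1, 5, 2, 3, 4],
  [1, 0, 5, 2, 3, 4],
  [1, 5, 0, 2, 3, 4],
  [1, 5, 2, 0, 3, 4],
  [1, 5, 2, 3, 0, 4],
  [1, 5, 2, 3, 4, 0],
  [0, 5, 1, 2, 3, 4],
  [5, 0, 1, 2, 3, 4],
  [5, 1, 0, 2, 3, 4],
  [5, 1, 2, 0, 3, 4],
  [5, 1, 2, 3, 0, 4],
  [5, 1, 2, 3, 4, 0],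
  [0, 5, 2, 1, 3, 4],
  [5, 0, 2, 1, 3, 4],
  [5, 2, 0, 1, 3, 4],
  [5, 2, 1, 0, 3, 4],
  [5, 2, 1, 3, 0, 4],
  [5, 2, 1, 3, 4, 0],
  [0, 5, 2, 3, 1, 4],
  [5, 0, 2, 3, 1, 4],
  [5, 2, 0, 3, 1, 4],
  [5, 2, 3, 0, 1, 4],
  [5, 2, 3, 1, 0, 4],
  [5, 2, 3, 1, 4, 0],
  [0, 5, 2, 3, 4, 1],
  [5, 0, 2, 3, 4, 1],
  [5, 2, 0, 3, 4, 1],
  [5, 2, 3, 0, 4, 1],
  [5, 2, 3, 4, 0, 1],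
  [5, 2, 3, 4, 1, 0],
  [0, 1, 5, 3, 2, 4],
  [1, 0, 5, 3, 2, 4],
  [1, 5, 0, 3, 2, 4],
  [1, 5, 3, 0, 2, 4],
  [1, 5, 3, 2, 0, 4],
  [1, 5, 3, 2, 4, 0],
  [0, 5, 1, 3, 2, 4],
  [5, 0, 1, 3, 2, 4],
  [5, 1, 0, 3, 2, 4],
  [5, 1, 3, 0, 2, 4],
  [5, 1, 3, 2, 0, 4],
  [5, 1, 3, 2, 4, 0],
  [0, 5, 3, 1, 2, 4],
  [5, 0, 3, 1, 2, 4],
  [5, 3, 0, 1, 2, 4],
  [5, 3, 1, 0, 2, 4],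
  [5, 3, 1, 2, 0, 4],
  [5, 3, 1, 2, 4, 0],
  [0, 5, 3, 2, 1, 4],
  [5, 0, 3, 2, 1, 4],
  [5, 3, 0, 2, 1, 4],
  [5, 3, 2, 0, 1, 4],
  [5, 3, 2, 1, 0, 4],
  [5, 3, 2, 1, 4, 0],
  [0, 5, 3, 2, 4, 1],
  [5, 0, 3, 2, 4, 1],
  [5, 3, 0, 2, 4, 1],
  [5, 3, 2, 0, 4, 1],
  [5, 3, 2, 4, 0, 1],
  [5, 3, 2, 4, 1, 0],
  [0, 1, 5, 3, 4, 2],
  [1, 0, 5, 3, 4, 2],
  [1, 5, 0, 3, 4, 2],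
  [1, 5, 3, 0, 4, 2],
  [1, 5, 3, 4, 0, 2],
  [1, 5, 3, 4, 2, 0],
  [0, 5, 1, 3, 4, 2],
  [5, 0, 1, 3, 4, 2],
  [5, 1, 0, 3, 4, 2],
  [5, 1, 3, 0, 4, 2],
  [5, 1, 3, 4, 0, 2],
  [5, 1, 3, 4, 2, 0],
  [0, 5, 3, 1, 4, 2],
  [5, 0, 3, 1, 4, 2],
  [5, 3, 0, 1, 4, 2],
  [5, 3, 1, 0, 4, 2],
  [5, 3, 1, 4, 0, 2],
  [5, 3, 1, 4, 2, 0],
  [0, 5, 3, 4, 1, 2],
  [5, 0, 3, 4, 1, 2],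
  [5, 3, 0, 4, 1, 2],
  [5, 3, 4, 0, 1, 2],
  [5, 3, 4, 1, 0, 2],
  [5, 3, 4, 1, 2, 0],
  [0, 5, 3, 4, 2, 1],
  [5, 0, 3, 4, 2, 1],
  [5, 3, 0, 4, 2, 1],
  [5, 3, 4, 0, 2, 1],
  [5, 3, 4, 2, 0, 1],
  [5, 3, 4, 2, 1, 0],
  [0, 1, 2, 5, 4, 3],
  [1, 0, 2, 5, 4, 3],
  [1, 2, 0, 5, 4, 3],
  [1, 2, 5, 0, 4, 3],
  [1, 2, 5, 4, 0, 3],
  [1, 2, 5, 4, 3, 0],
  [0, 2, 1, 5, 4, 3],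
  [2, 0, 1, 5, 4, 3],
  [2, 1, 0, 5, 4, 3],
  [2, 1, 5, 0, 4, 3],
  [2, 1, 5, 4, 0, 3],
  [2, 1, 5, 4, 3, 0],
  [0, 2, 5, 1, 4, 3],
  [2, 0, 5, 1, 4, 3],
  [2, 5, 0, 1, 4, 3],
  [2, 5, 1, 0, 4, 3],
  [2, 5, 1, 4, 0, 3],
  [2, 5, 1, 4, 3, 0],
  [0, 2, 5, 4, 1, 3],
  [2, 0, 5, 4, 1, 3],
  [2, 5, 0, 4, 1, 3],
  [2, 5, 4, 0, 1, 3],
  [2, 5, 4, 1, 0, 3],
  [2, 5, 4, 1, 3, 0],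
  [0, 2, 5, 4, 3, 1],
  [2, 0, 5, 4, 3, 1],
  [2, 5, 0, 4, 3, 1],
  [2, 5, 4, 0, 3, 1],
  [2, 5, 4, 3, 0, 1],
  [2, 5, 4, 3, 1, 0],
  [0, 1, 5, 2, 4, 3],
  [1, 0, 5, 2, 4, 3],
  [1, 5, 0, 2, 4, 3],
  [1, 5, 2, 0, 4, 3],
  [1, 5, 2, 4, 0, 3],
  [1, 5, 2, 4, 3, 0],
  [0, 5, 1, 2, 4, 3],
  [5, 0, 1, 2, 4, 3],
  [5, 1, 0, 2, 4, 3],
  [5, 1, 2, 0, 4, 3],
  [5, 1, 2, 4, 0, 3],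
  [5, 1, 2, 4, 3, 0],
  [0, 5, 2, 1, 4, 3],
  [5, 0, 2, 1, 4, 3],
  [5, 2, 0, 1, 4, 3],
  [5, 2, 1, 0, 4, 3],
  [5, 2, 1, 4, 0, 3],
  [5, 2, 1, 4, 3, 0],
  [0, 5, 2, 4, 1, 3],
  [5, 0, 2, 4, 1, 3],
  [5, 2, 0, 4, 1, 3],
  [5, 2, 4, 0, 1, 3],
  [5, 2, 4, 1, 0, 3],
  [5, 2, 4, 1, 3, 0],
  [0, 5, 2, 4, 3, 1],
  [5, 0, 2, 4, 3, 1],
  [5, 2, 0, 4, 3, 1],
  [5, 2, 4, 0, 3, 1],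
  [5, 2, 4, 3, 0, 1],
  [5, 2, 4, 3, 1, 0],
  [0, 1, 5, 4, 2, 3],
  [1, 0, 5, 4, 2, 3],
  [1, 5, 0, 4, 2, 3],
  [1, 5, 4, 0, 2, 3],
  [1, 5, 4, 2, 0, 3],
  [1, 5, 4, 2, 3, 0],
  [0, 5, 1, 4, 2, 3],
  [5, 0, 1, 4, 2, 3],
  [5, 1, 0, 4, 2, 3],
  [5, 1, 4, 0, 2, 3],
  [5, 1, 4, 2, 0, 3],
  [5, 1, 4, 2, 3, 0],
  [0, 5, 4, 1, 2, 3],
  [5, 0, 4, 1, 2, 3],
  [5, 4, 0, 1, 2, 3],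
  [5, 4, 1, 0, 2, 3],
  [5, 4, 1, 2, 0, 3],
  [5, 4, 1, 2, 3, 0],
  [0, 5, 4, 2, 1, 3],
  [5, 0, 4, 2, 1, 3],
  [5, 4, 0, 2, 1, 3],
  [5, 4, 2, 0, 1, 3],
  [5, 4, 2, 1, 0, 3],
  [5, 4, 2, 1, 3, 0],
  [0, 5, 4, 2, 3, 1],
  [5, 0, 4, 2, 3, 1],
  [5, 4, 0, 2, 3, 1],
  [5, 4, 2, 0, 3, 1],
  [5, 4, 2, 3, 0, 1],
  [5, 4, 2, 3, 1, 0],
  [0, 1, 5, 4, 3, 2],
  [1, 0, 5, 4, 3, 2],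
  [1, 5, 0, 4, 3, 2],
  [1, 5, 4, 0, 3, 2],
  [1, 5, 4, 3, 0, 2],
  [1, 5, 4, 3, 2, 0],
  [0, 5, 1, 4, 3, 2],
  [5, 0, 1, 4, 3, 2],
  [5, 1, 0, 4, 3, 2],
  [5, 1, 4, 0, 3, 2],
  [5, 1, 4, 3, 0, 2],
  [5, 1, 4, 3, 2, 0],
  [0, 5, 4, 1, 3, 2],
  [5, 0, 4, 1, 3, 2],
  [5, 4, 0, 1, 3, 2],
  [5, 4, 1, 0, 3, 2],
  [5, 4, 1, 3, 0, 2],
  [5, 4, 1, 3, 2, 0],
  [0, 5, 4, 3, 1, 2],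
  [5, 0, 4, 3, 1, 2],
  [5, 4, 0, 3, 1, 2],
  [5, 4, 3, 0, 1, 2],
  [5, 4, 3, 1, 0, 2],
  [5, 4, 3, 1, 2, 0],
  [0, 5, 4, 3, 2, 1],
  [5, 0, 4, 3, 2, 1],
  [5, 4, 0, 3, 2, 1],
  [5, 4, 3, 0, 2, 1],
  [5, 4, 3, 2, 0, 1],
  [5, 4, 3, 2, 1, 0]]

end CfsgLib.UnitarySixData
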