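import Cfsg.Agent.Lib.UnitarySix.Lists
import Cfsg.Agent.Lib.UnitarySix.Data
import Cfsg.Agent.Lib.Golay.PackPerm
import Cfsg.Agent.Lib.Tails.UFourData

/-!
# The definitions of the finite checks for the subgroups `3.U4(3)` of `SU6(2)`
-/

set_option autoImplicit false
set_option maxRecDepth 100000

namespace CfsgLib.UnitarySix

open CfsgLib.UnitarySixData CfsgLib.TailsData CfsgLib.Golay

/-- A diagonal code by number. -/
def dnum (i : ℕ) : ℕ := monC idP (valList.getD i [])

/-- The diagonal generators and the others. -/
def gensC (c : ℕ) : List ℕ := dCodes ++ kGens.getD c []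

/-- One of the other generators. -/
def kg (c k : ℕ) : ℕ := (kGens.getD c []).getD k 0

/-- A product of generators with given numbers. -/
def wordC (gs : List ℕ) (w : List ℕ) : ℕ := prodC (w.map (gs.getD · 0))

/-- A factor: a generator below ten, otherwise a diagonal. -/
def facC (gs : List ℕ) (n : ℕ) : ℕ := if n < 10 then gs.getD n 0 else dnum (n - 10)

/-- An expression gives a code. -/
def exprOK (gs : List ℕ) (tgt : ℕ) (E : List ℕ) : Bool :=
  (E.all fun n => if n < 10 then Nat.blt n gs.length else Nat.blt (n - 10) valList.length) &&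
    (prodC (E.map (facC gs))).beq tgt

/-- Some scalar. -/
def isScal (A : ℕ) : Bool := scals.contains A

/-- The relations of the alternating group up to scalars. -/
def relB (A B : ℕ) : Bool :=
  isScal (wordC [A, B] [1, 1, 1, 1]) && isScal (wordC [A, B] [0, 1, 0, 1, 0, 1, 0, 1, 0, 1]) &&
    isScal (wordC [A, B] [0, 1, 1, 0, 1, 1, 0, 1, 1, 0, 1, 1, 0, 1, 1])

/-- A product of images. -/
def cmpW (ps : List (List ℕ)) : List ℕ → List ℕ
  | [] => idP
  | k :: w => cmp (ps.getD k []) (cmpW ps w)

/-- The relations for images. -/
def relP (p q : List ℕ) : Bool :=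
  (cmpW [p, q] [1, 1, 1, 1] == idP) && (cmpW [p, q] [0, 1, 0, 1, 0, 1, 0, 1, 0, 1] == idP) &&
    (cmpW [p, q] [0, 1, 1, 0, 1, 1, 0, 1, 1, 0, 1, 1, 0, 1, 1] == idP)

/-! ### The generators -/


/-- The generators exist. -/
def gensB : Bool :=
  (dCodes.all fun d => (List.range 243).any fun i => (dnum i).beq d) &&
    ((List.range 3).all fun c => (List.range 3).all fun k => isSU 4 (kg c k)) && isSU 2 swapC &&
    (dCodes.length == 5) && (kGens.all fun l => l.length == 3) && (kGens.length == 3) &&
    (valList.length == 243)

/-- The twists map the first generators to the others. -/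
def twistB : Bool :=
  (List.range 3).all fun c =>
    let t := twists.getD c 0
    isU t && monB idP t &&
      ((gensC c).length == 8) && ((List.range 8).all fun k =>
        (mulC (mulC t ((gensC 0).getD k 0)) (starC t)).beq ((gensC c).getD k 0))

/-- A diagonal generator power. -/
def dExp (v : List ℕ) (i : ℕ) : ℕ :=
  if v.getD (i + 1) 0 == 3 then 1 else if v.getD (i + 1) 0 == 2 then 2 else 0

/-- The diagonal generators generate. -/
def spanB : Bool :=
  valList.all fun v =>
    (prodC ((List.range 5).map fun i => powC (dCodes.getD i 0) (dExp v i))).beq (monC idP v)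

/-- Two diagonal generators are exchanged. -/
def pairB : Bool :=
  ((List.range 5).all fun i => (List.range i).all fun j =>
      pairWords.any fun e => (e.1.beq j) && (e.2.1.beq i)) &&
    pairWords.all fun e =>
      let m := wordC [kg 0 0, kg 0 1] e.2.2
      let a := dCodes.getD e.1 0
      let b := dCodes.getD e.2.1 0
      (e.2.2.all fun k => Nat.blt k 2) && (mulC m a).beq (mulC b m) && (mulC m b).beq (mulC a m)

/-- The relations among the first generators. -/
def baseB : Bool :=
  let a := kg 0 0
  let b := kg 0 1
  let x := kg 0 2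
  (mulC a a).beq oneC && (mulC x x).beq oneC && relB a b &&
    (mulC (mulC x a) x).beq (wordC [a, b] wA) && (mulC (mulC x b) x).beq (wordC [a, b] wB) &&
    !monB idP a && !monB idP (mulC (mulC x (dCodes.getD 0 0)) x) &&
    (wA.all fun k => Nat.blt k 2) && (wB.all fun k => Nat.blt k 2)

/-! ### The points -/

/-- An entry of a vector. -/
def entV (v i : ℕ) : ℕ := ent v i

/-- A matrix times a vector. -/
def actV (M v : ℕ) : ℕ :=
  force M fun M => force v fun v => bld (fun i => Nat.xor (mt (ent M (6 * i)) (entV v 0))
    (Nat.xor (mt (ent M (6 * i + 1)) (entV v 1))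
      (Nat.xor (mt (ent M (6 * i + 2)) (entV v 2))
        (Nat.xor (mt (ent M (6 * i + 3)) (entV v 3))
          (Nat.xor (mt (ent M (6 * i + 4)) (entV v 4)) (mt (ent M (6 * i + 5)) (entV v 5))))))) 0 6

/-- A scalar times a vector. -/
def smulV (c v : ℕ) : ℕ := force v fun v => bld (fun i => mt (c % 4) (entV v i)) 0 6

/-- The vector with two entries. -/
def twoV (i j l : ℕ) : ℕ := bld (fun k => if k = i then 1 else if k = j then l % 4 else 0) 0 6

/-- The action of a generator on the points. -/
def actB (k : ℕ) : Bool :=
  let g := (gensC 0).getD k 0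
  let P := gPerms.getD k 0
  PackPerm.okP 126 P && (List.range 126).all fun i => [1, 2, 3].any fun c =>
    (actV g (pts.getD i 0)).beq (smulV c (pts.getD (PackPerm.getP P i) 0))

/-- The points differ. -/
def distinctB : Bool :=
  (List.range 126).all fun i => (List.range 126).all fun j => i.beq j ||
    [1, 2, 3].all fun c => !(smulV c (pts.getD i 0)).beq (bld (entV (pts.getD j 0)) 0 6)

/-- The vectors with two entries occur. -/
def twoB : Bool :=
  (List.range 6).all fun i => (List.range 6).all fun j => i.beq j || [1, 2, 3].all fun l =>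
    (List.range 126).any fun k => [1, 2, 3].any fun c => (smulV c (pts.getD k 0)).beq (twoV i j l)

/-- The image of a point under a word. -/
def applyW (ps : List ℕ) (w : List ℕ) (x : ℕ) : ℕ :=
  w.foldr (fun k y => PackPerm.getP (ps.getD k 0) y) x

/-- The words. -/
def wordsB : Bool :=
  let H := uFourBase
  (wordsToH.length == 8) && (wordsToG.length == 2) && (H.length == 2) && H.all (PackPerm.okP 126) &&
    ((List.range 8).all fun k => ((wordsToH.getD k []).all fun l => Nat.blt l 2) &&
      (List.range 126).all fun x => (applyW H (wordsToH.getD k []) x).beq (PackPerm.getP (gPerms.getD k 0) x)) &&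
    ((List.range 2).all fun k => ((wordsToG.getD k []).all fun l => Nat.blt l 8) &&
      (List.range 126).all fun x => (applyW gPerms (wordsToG.getD k []) x).beq (PackPerm.getP (H.getD k 0) x))

/-! ### The classification -/

/-- Every involution is conjugate to a representative. -/
def invB : Bool :=
  permList.all fun p => (p == idP) || (cmp p p != idP) ||
    invReps.any fun r => permList.any fun s => cmp s p == cmp r s

/-- The pairs satisfying the relations are conjugate to the two representatives. -/
def pairsB : Bool :=
  invReps.all fun r => permList.all fun q => !relP r q ||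
    permList.any fun s => (cmp s r == cmp rA s) && qReps.any fun t => cmp s q == cmp t s

/-- The standard first generator. -/
def A0 : ℕ := monC rA [1, 1, 1, 1, 1, 1]

/-- The second generator of a case. -/
def caseCode (i : ℕ) : ℕ :=
  monC (qReps.getD (caseB.getD i (0, 0)).1 []) (valList.getD (caseB.getD i (0, 0)).2 [])

/-- The first generator up to conjugation. -/
def aCaseB : Bool :=
  valList.all fun v => force (monC rA v) fun A =>
    !isScal (mulC A A) || aT.any fun t => Nat.blt t 243 && [1, 2, 3].any fun c =>
      (mulC (dnum t) A).beq (smulC c (mulC A0 (dnum t)))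

/-- The second generator up to conjugation. -/
def bCaseB (qi : ℕ) : Bool :=
  (List.range 243).all fun i => force (monC (qReps.getD qi []) (valList.getD i [])) fun B =>
    !relB A0 B ||
      (let h := (hints.getD qi []).getD i (0, 0, 0)
       force (dnum (cT.getD h.2.1 0)) fun t => Nat.blt h.1 18 && Nat.blt (cT.getD h.2.1 0) 243 && [1, 2, 3].contains h.2.2 &&
        (mulC t B).beq (smulC h.2.2 (mulC (caseCode h.1) t)) &&
        [1, 2, 3].any fun c => (mulC t A0).beq (smulC c (mulC A0 t)))

/-- The sides of an equation. -/
def eqSides (i e : ℕ) : ℕ × ℕ :=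
  if e = 0 then (A0, wordC [A0, caseCode i] wA) else (caseCode i, wordC [A0, caseCode i] wB)

/-- A propagation step is justified. -/
def stepB (i : ℕ) (s : ℕ × ℕ × ℕ × ℕ × ℕ) : Bool :=
  let AW := eqSides i s.1
  let r := s.2.1
  let k := s.2.2.1
  let k2 := s.2.2.2.1
  let c := s.2.2.2.2
  Nat.blt s.1 2 && Nat.blt r 6 && Nat.blt k 6 && Nat.blt k2 6 && Nat.blt c 6 &&
    ((List.range 6).all fun u => u.beq k || (ent AW.1 (6 * u + c)).beq 0) &&
    ((List.range 6).all fun u => u.beq k2 || (ent AW.2 (6 * r + u)).beq 0) &&
    !(ent AW.2 (6 * r + k2)).beq 0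

/-- The target of a step. -/
def stepTgt (s : ℕ × ℕ × ℕ × ℕ × ℕ) : ℕ := 6 * s.2.2.2.1 + s.2.2.2.2

/-- The source of a step. -/
def stepSrc (s : ℕ × ℕ × ℕ × ℕ × ℕ) : ℕ := 6 * s.2.1 + s.2.2.1

/-- The steps use known positions and give new ones. -/
def orderB : List ℕ → List (ℕ × ℕ × ℕ × ℕ × ℕ) → Bool
  | known, [] => (List.range 36).all known.contains
  | known, s :: L => known.contains (stepSrc s) && !known.contains (stepTgt s) && orderB (stepTgt s :: known) L

/-- Setting a new entry. -/
def setE (M p v : ℕ) : ℕ := Nat.xor M (v <<< (2 * p))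

/-- The matrix after a step. -/
def stepVal (i z1 z2 : ℕ) (M : ℕ) (s : ℕ × ℕ × ℕ × ℕ × ℕ) : ℕ :=
  force M fun M =>
    let AW := eqSides i s.1
    let z := if s.1 = 0 then z1 else z2
    force (mt z (ent AW.2 (6 * s.2.1 + s.2.2.2.1))) fun w =>
      setE M (stepTgt s) (mt (mt (ent M (stepSrc s)) (ent AW.1 (6 * s.2.2.1 + s.2.2.2.2))) (mt w w))

/-- The matrix from the free values. -/
def solveC (i z1 z2 v0 v1 : ℕ) : ℕ :=
  (caseSteps.getD i []).foldl (stepVal i z1 z2)
    (setE (setE 0 ((caseBases.getD i []).getD 0 0) v0) ((caseBases.getD i []).getD 1 0) v1)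

/-- The steps are justified and cover everything. -/
def stepsB (i : ℕ) : Bool :=
  let b0 := (caseBases.getD i []).getD 0 0
  let b1 := (caseBases.getD i []).getD 1 0
  (caseSteps.getD i []).all (stepB i) && Nat.blt b0 36 && Nat.blt b1 36 && !b0.beq b1 &&
    orderB [b0, b1] (caseSteps.getD i [])

/-- Every column has one nonzero entry. -/
def monAny (X : ℕ) : Bool :=
  (List.range 6).all fun j => ((List.range 6).filter fun i => !(ent X (6 * i + j)).beq 0).length == 1

/-- The third generator of a case. -/
def xCaseB (i : ℕ) : Bool :=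
  force (caseCode i) fun B => force (wordC [A0, B] wA) fun WA => force (wordC [A0, B] wB) fun WB =>
  [1, 2, 3].all fun z1 => [1, 2, 3].all fun z2 => (List.range 4).all fun v0 => (List.range 4).all fun v1 =>
    (force (solveC i z1 z2 v0 v1) fun X =>
     !(mulC X A0).beq (smulC z1 (mulC WA X)) || !(mulC X B).beq (smulC z2 (mulC WB X)) ||
      !(mulC X X).beq oneC || !(mulC (starC X) X).beq oneC || monAny X ||
      (X.beq (caseSol.getD i 0) && !X.beq 0))

/-- The solution of a case generates one of the three groups. -/
def targetB (i : ℕ) : Bool :=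
  (caseSol.getD i 0).beq 0 ||
    (let t := caseTarget.getD i (0, [])
     Nat.blt t.1 3 && (List.range 3).all fun k =>
      exprOK [A0, caseCode i, caseSol.getD i 0] (kg t.1 k) (t.2.getD k []))

/-- The transposition normalises the three groups. -/
def swapB : Bool :=
  (List.range 3).all fun c => (List.range 3).all fun k =>
    exprOK (kGens.getD c []) (mulC (mulC swapC (kg c k)) swapC) ((swapExpr.getD c []).getD k [])

/-- The images of the first generators and of the transposition. -/
def pA : List ℕ := [1, 0, 3, 2, 4, 5]

/-- The images of the second generator. -/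
def pB : List ℕ := [1, 2, 4, 5, 0, 3]

/-- The transposition. -/
def pS : List ℕ := [1, 0, 2, 3, 4, 5]

/-- The images of the monomial generators. -/
def imagesB : Bool :=
  ((List.range 3).all fun c => monB pA (kg c 0) && monB pB (kg c 1)) && monB pS swapC &&
    (cmpW [pA, pB, pS] cycWord == [1, 2, 3, 4, 5, 0]) && cycWord.all fun k => Nat.blt k 3

/-- The order eleven. -/
def elevenB : Bool :=
  ((List.range 3).all fun j => (List.range j).all fun i =>
      eleven.any fun e => e.1.beq i && e.2.1.beq j) &&
    eleven.all fun e =>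
      let gs := [kg e.1 2, kg e.2.1 2, kg e.1 0, kg e.1 1]
      let M := prodC (e.2.2.map (facC gs))
      Nat.blt e.1 3 && Nat.blt e.2.1 3 && (e.2.2.all fun n => if n < 10 then Nat.blt n 4 else Nat.blt (n - 10) 243) &&
        !M.beq oneC && (powC M 11).beq oneC

/-! ### The three-part -/

/-- The images of the Sylow subgroup. -/
def threePerms : List (List ℕ) :=
  [[0, 1, 2, 3, 4, 5], [1, 2, 0, 3, 4, 5], [2, 0, 1, 3, 4, 5], [0, 1, 2, 4, 5, 3], [1, 2, 0, 4, 5, 3],
    [2, 0, 1, 4, 5, 3], [0, 1, 2, 5, 3, 4], [1, 2, 0, 5, 3, 4], [2, 0, 1, 5, 3, 4]]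

/-- The entry lists fixed by images. -/
def fixB (q v : List ℕ) : Bool := (List.range 6).all fun j => (v.getD (q.getD j 0) 0).beq (v.getD j 0)

/-- The fixed points in the diagonal subgroup are few. -/
def threeB : Bool :=
  (threePerms.all fun p => threePerms.all fun q => threePerms.contains (cmp p q)) &&
    (threePerms.all fun p => (p == idP) || decide ((valList.filter (fixB p)).length ≤ 27)) &&
    decide ((valList.filter fun v => fixB (threePerms.getD 1 []) v && fixB (threePerms.getD 3 []) v).length ≤ 9) &&
    (qReps.all fun q => valList.all fun v =>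
      !(fixB rA v && fixB q v) || (List.range 6).all fun j => (v.getD j 0).beq (v.getD 0 0))

/-- The images of the Sylow subgroup come from the alternating group. -/
def threeWordsB : Bool :=
  threePerms.all fun p => permList.contains p

end CfsgLib.UnitarySix
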