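import Cfsg.Agent.Lib.UnitarySix.CheckDefs

/-!
# The finite checks for the subgroups `3.U4(3)` of `SU6(2)`
-/

set_option autoImplicit false
set_option maxRecDepth 100000

namespace CfsgLib.UnitarySix

open CfsgLib.UnitarySixData CfsgLib.Golay


theorem valList_eq : vals = valList := by decide +kernel

theorem permList_eq : perms = permList := by decide +kernel

theorem gens_checks : gensB = true := by decide +kernel

theorem twist_checks : twistB = true := by decide +kernel

theorem span_checks : spanB = true := by decide +kernel

theorem pair_checks : pairB = true := by decide +kernel

theorem base_checks : baseB = true := by decide +kernel

theorem act_checks : ((List.range 8).all actB && gPerms.length == 8) = true := by decide +kernel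

theorem distinct_checks : distinctB = true := by decide +kernel

theorem two_checks : twoB = true := by decide +kernel

theorem words_checks : wordsB = true := by
  unfold wordsB
  decide +kernel

theorem aCase_checks : aCaseB = true := by decide +kernel

theorem steps_checks : ((List.range 18).all stepsB) = true := by decide +kernel

theorem target_checks : ((List.range 18).all targetB) = true := by decide +kernel

theorem swap_checks : swapB = true := by decide +kernel

theorem images_checks : imagesB = true := by decide +kernel

theorem eleven_checks : elevenB = true := by decide +kernel

theorem three_checks : threeB = true := by decide +kernel

theorem threeWords_checks : threeWordsB = true := by decide +kernel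

end CfsgLib.UnitarySix
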