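import Cfsg.Agent.Lib.UnitarySix.CheckDefs

/-!
# The finite checks for the subgroups `3.U4(3)` of `SU6(2)`
-/

set_option autoImplicit false
set_option maxRecDepth 100000

namespace CfsgLib.UnitarySix

open CfsgLib.UnitarySixData CfsgLib.Golay


theorem bCase_checks : (bCaseB 0 && bCaseB 1 && qReps.length == 2) = true := by decide +kernel

theorem xCase_checks_one : ((List.range 9).all xCaseB) = true := by decide +kernel

theorem xCase_checks_two : ((List.range' 9 9).all xCaseB) = true := by decide +kernel

end CfsgLib.UnitarySix
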