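import Cfsg.Agent.Lib.UnitarySix.Groups

/-!
# Abelian subgroups of order 243 are conjugate to the diagonal subgroup

In a group with three-part `3 ^ 7` containing the diagonal subgroup and enough monomial elements, the
monomial elements over a Sylow subgroup of the symmetric group form a Sylow subgroup, and the
diagonal subgroup is its only abelian subgroup of order `243`.
-/

set_option autoImplicit false
set_option maxRecDepth 100000

namespace CfsgLib.UnitarySix

open CfsgLib.UnitarySixData Subgroup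

variable {F : Type*} [Field F] (W : Four F)

theorem three_facts :
    (∀ p ∈ threePerms, ∀ q ∈ threePerms, cmp p q ∈ threePerms) ∧
      (∀ p ∈ threePerms, p ≠ idP → (valList.filter (fixB p)).length ≤ 27) ∧
      (valList.filter fun v => fixB (threePerms.getD 1 []) v && fixB (threePerms.getD 3 []) v).length ≤ 9 ∧
      (∀ q ∈ qReps, ∀ v ∈ valList, fixB rA v = true → fixB q v = true →
        ∀ j, j < 6 → v.getD j 0 = v.getD 0 0) := by
  have h := three_checks
  simp only [threeB, Bool.and_eq_true, List.all_eq_true, List.contains_iff_mem, Bool.or_eq_true,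
    decide_eq_true_eq, beq_iff_eq, Bool.not_eq_true', Nat.beq_eq, List.mem_range] at h
  refine ⟨h.1.1.1, fun p hp hne => (h.1.1.2 p hp).resolve_left hne, h.1.2, fun q hq v hv ha hb => ?_⟩
  exact (h.2 q hq v hv).resolve_left (by simp [ha, hb])

theorem three_closed : threePerms.Nodup ∧ threePerms.length = 9 ∧
    cmpW [pA, pB] [0, 1, 1, 0, 1, 1, 1, 0, 1, 0, 1, 1, 0, 1] = threePerms.getD 1 [] ∧
    cmpW [pA, pB] [1, 1, 0, 1, 1, 1, 0, 1, 0, 1, 0] = threePerms.getD 3 [] ∧
    (∀ k, k < 9 → cmpW [threePerms.getD 1 [], threePerms.getD 3 []]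
      (List.replicate (k % 3) 0 ++ List.replicate (k / 3) 1) = threePerms.getD k []) ∧
    (∀ p ∈ threePerms, ∃ q ∈ threePerms, cmp p q = idP) ∧
    (∀ p ∈ threePerms, lstP (fnP p) = p) := by
  decide +kernel

/-- The monomial elements over the Sylow subgroup of the symmetric group. -/
def sylQ (F : Type*) [Field F] : Subgroup (Cfsg.SU 6 F 2) where
  carrier := {g | ∃ p, IsMonG p g ∧ lstP p ∈ threePerms}
  one_mem' := ⟨id, IsMonG.one, by rw [lstP_id]; decide⟩
  mul_mem' := by
    rintro g h ⟨p, hp, hp'⟩ ⟨q, hq, hq'⟩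
    exact ⟨p ∘ q, hp.mul hq, by rw [lstP_comp]; exact three_facts.1 _ hp' _ hq'⟩
  inv_mem' := by
    rintro g ⟨p, hp, hp'⟩
    obtain ⟨q, hq, hpq, -⟩ := hp.inv
    obtain ⟨r, hr, e⟩ := three_closed.2.2.2.2.2.1 _ hp'
    refine ⟨q, hq, ?_⟩
    have hrq : p ∘ fnP r = id := by
      refine lstP_inj ?_
      rw [lstP_comp, three_closed.2.2.2.2.2.2 r hr, e, lstP_id]
    have : q = fnP r := funext fun i => hp.bijective.1 ((congrFun hpq i).trans (congrFun hrq i).symm)
    rw [this, three_closed.2.2.2.2.2.2 r hr]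
    exact hr

/-- The images are available in a subgroup. -/
def HasThree (H : Subgroup (Cfsg.SU 6 F 2)) : Prop :=
  ∀ k : Fin 9, ∃ h ∈ H, ∃ p, IsMonG p h ∧ lstP p = threePerms.getD k.val []

theorem hasThree_of_ab [Fintype F] {c : ℕ} (hc : c < 3) {H : Subgroup (Cfsg.SU 6 F 2)}
    (hle : grpC W c ≤ H) : HasThree H := by
  intro k
  have hab := pA_pB_mem W hc hle
  obtain ⟨σ, hσ, e1⟩ := fnP_cmpW hab [0, 1, 1, 0, 1, 1, 1, 0, 1, 0, 1, 1, 0, 1] (by decide)
  obtain ⟨τ, hτ, e3⟩ := fnP_cmpW hab [1, 1, 0, 1, 1, 1, 0, 1, 0, 1, 0] (by decide)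
  rw [three_closed.2.2.1] at e1
  rw [three_closed.2.2.2.1] at e3
  have hboth : ∀ n, n < [threePerms.getD 1 [], threePerms.getD 3 []].length →
      ∃ ρ ∈ permsOf H, lstP ρ = [threePerms.getD 1 [], threePerms.getD 3 []].getD n [] := by
    intro n hn
    simp only [List.length_cons, List.length_nil] at hn
    interval_cases n
    exacts [⟨σ, hσ, e1⟩, ⟨τ, hτ, e3⟩]
  obtain ⟨ρ, ⟨h, hh, hρ⟩, e⟩ := fnP_cmpW hboth
    (List.replicate (k.val % 3) 0 ++ List.replicate (k.val / 3) 1) (fun n hn => by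
      simp only [List.mem_append, List.mem_replicate] at hn
      simp only [List.length_cons, List.length_nil]
      omega)
  exact ⟨h, hh, ρ, hρ, e.trans (three_closed.2.2.2.2.1 k.val k.isLt)⟩

theorem sylQ_le {H : Subgroup (Cfsg.SU 6 F 2)} (hd : diagSub F ≤ H) (h3 : HasThree H) :
    sylQ F ≤ H := by
  rintro g ⟨p, hp, hp'⟩
  obtain ⟨k, hk, e⟩ := List.getElem_of_mem hp'
  rw [three_closed.2.1] at hk
  obtain ⟨h, hh, q, hq, e'⟩ := h3 ⟨k, hk⟩
  obtain rfl : p = q := lstP_inj (by
    rw [e', ← e, List.getD_eq_getElem _ _ (by rw [three_closed.2.1]; exact hk)])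
  obtain ⟨r, hr, -, hrp⟩ := hq.inv
  have : h⁻¹ * g ∈ diagSub F := by
    have := hr.mul hp
    rwa [show r ∘ p = id from hrp] at this
  have := H.mul_mem hh (hd this)
  rwa [mul_inv_cancel_left] at this

include W in
theorem card_sylQ [Fintype F] (hF : Fintype.card F = 4) : Nat.card ↥(sylQ F) = 2187 := by
  have h3 : HasThree (⊤ : Subgroup (Cfsg.SU 6 F 2)) := hasThree_of_ab W (c := 0) (by norm_num) le_top
  choose h hH p hp hpk using h3
  have hdQ : diagSub F ≤ sylQ F := fun t ht => ⟨id, ht, by rw [lstP_id]; decide⟩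
  let f : Fin 9 × ↥(diagSub F) → ↥(sylQ F) := fun x =>
    ⟨h x.1 * x.2.1, p x.1, (hp x.1).mul x.2.2, by
      rw [hpk, List.getD_eq_getElem _ _ (by rw [three_closed.2.1]; exact x.1.isLt)]
      exact List.getElem_mem _⟩
  have hf : Function.Bijective f := by
    constructor
    · rintro ⟨a, s, hs⟩ ⟨b, t, ht⟩ e
      have e' : h a * s = h b * t := congrArg Subtype.val e
      have hab : p a = p b := by
        have h1 : IsMonG (p a) (h a * s) := (hp a).mul hs
        have h2 : IsMonG (p b) (h b * t) := (hp b).mul ht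
        rw [← e'] at h2
        exact h1.unique h2
      obtain rfl : a = b := by
        have := congrArg lstP hab
        have hla : a.val < threePerms.length := by rw [three_closed.2.1]; exact a.isLt
        have hlb : b.val < threePerms.length := by rw [three_closed.2.1]; exact b.isLt
        rw [hpk, hpk] at this
        have h' := (List.getD_eq_getElem threePerms [] hla).symm.trans
          (this.trans (List.getD_eq_getElem threePerms [] hlb))
        exact Fin.ext ((three_closed.1.getElem_inj_iff).1 h')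
      obtain rfl := mul_left_cancel e'
      rfl
    · rintro ⟨g, q, hq, hq'⟩
      obtain ⟨k, hk, e⟩ := List.getElem_of_mem hq'
      rw [three_closed.2.1] at hk
      have : q = p ⟨k, hk⟩ := lstP_inj (by
        rw [hpk, ← e, List.getD_eq_getElem _ _ (by rw [three_closed.2.1]; exact hk)])
      subst this
      obtain ⟨r, hr, -, hrp⟩ := (hp ⟨k, hk⟩).inv
      have hm : (h ⟨k, hk⟩)⁻¹ * g ∈ diagSub F := by
        have := hr.mul hq
        rwa [show r ∘ p ⟨k, hk⟩ = id from hrp] at this
      exact ⟨(⟨k, hk⟩, ⟨_, hm⟩), Subtype.ext (mul_inv_cancel_left _ _)⟩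
  rw [← Nat.card_eq_of_bijective f hf, Nat.card_prod, card_diag W hF, Nat.card_eq_fintype_card,
    Fintype.card_fin]

/-- A diagonal element commuting with a monomial element has fixed entries. -/
theorem fixB_of_comm {g t : Cfsg.SU 6 F 2} {p : Fin 6 → Fin 6} (hg : IsMonG p g) (ht : t ∈ diagSub F)
    (hc : g * t = t * g) {v : List ℕ} (hR : Rep W t (monC idP v)) (hv : v ∈ valList) :
    fixB (lstP p) v = true := by
  have hlen : v.length = 6 ∧ ∀ c ∈ v, c < 4 := by
    have h : (valList.all fun v => (v.length == 6) && v.all fun c => Nat.blt c 4) = true := by decide +kernel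
    simp only [List.all_eq_true, Bool.and_eq_true, beq_iff_eq, Nat.blt_eq] at h
    exact h v hv
  have he : ∀ j : Fin 6, dent t j = W.el (v.getD j.val 0) := fun j => by
    rw [dent, hR.2, monC, W.dec_code (fun e => by split_ifs <;> omega)]
    simp only [show (6 * j.val + j.val) / 6 = j.val by omega, show (6 * j.val + j.val) % 6 = j.val by omega]
    rw [show idP.getD j.val 9 = j.val by rw [← lstP_id, lstP_getD]; rfl, if_pos rfl, Nat.mod_eq_of_lt]
    rw [List.getD_eq_getElem _ _ (by omega)]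
    exact hlen.2 _ (List.getElem_mem _)
  simp only [fixB, List.all_eq_true, List.mem_range, Nat.beq_eq]
  intro j hj
  have hlt : ∀ k : Fin 6, v.getD k.val 0 < 4 := fun k => by
    rw [List.getD_eq_getElem _ _ (by omega)]; exact hlen.2 _ (List.getElem_mem _)
  rw [show j = (⟨j, hj⟩ : Fin 6).val from rfl, lstP_getD]
  refine W.el_inj (hlt _) (hlt _) ?_
  rw [← he, ← he]
  have h1 := hg.mul_apply ht ⟨j, hj⟩
  have h2 := (mem_diagSub.1 ht).mul_apply hg ⟨j, hj⟩
  simp only [id_eq] at h1 h2
  rw [hc, h2] at h1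
  exact mul_right_cancel₀ (hg.ne ⟨j, hj⟩) (h1.trans (mul_comm _ _))

include W in
/-- An abelian subgroup of order 243 in the Sylow subgroup is diagonal. -/
theorem eq_diag_of_le_sylQ [Fintype F] (hF : Fintype.card F = 4) {A : Subgroup (Cfsg.SU 6 F 2)}
    (hA : A ≤ sylQ F) (hcomm : ∀ a ∈ A, ∀ b ∈ A, a * b = b * a) (hcard : Nat.card ↥A = 243) :
    A = diagSub F := by
  classical
  by_contra hne
  obtain ⟨g₀, hg₀A, hg₀⟩ : ∃ g ∈ A, g ∉ diagSub F := by
    by_contra hc
    push Not at hc
    exact hne (Subgroup.eq_of_le_of_card_ge hc (by rw [card_diag W hF, hcard]))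
  choose pat hpat hpmem using fun a : ↥A => hA a.2
  set S := A ⊓ diagSub F with hS
  choose vc hvc hRv using fun s : ↥S => diag_code W s.2.2
  have hbound : ∀ (P : List ℕ → Bool), (∀ s : ↥S, P (vc s) = true) →
      Nat.card ↥S ≤ (valList.filter P).length := by
    intro P hP
    have hinj : Function.Injective vc := fun a b e =>
      Subtype.ext ((hRv a).inj (e ▸ hRv b))
    calc Nat.card ↥S = (Finset.univ.image vc).card := by
          rw [Finset.card_image_of_injective _ hinj, Finset.card_univ, Nat.card_eq_fintype_card]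
      _ ≤ (valList.filter P).toFinset.card := Finset.card_le_card fun x hx => by
          obtain ⟨s, -, rfl⟩ := Finset.mem_image.1 hx
          exact List.mem_toFinset.2 (List.mem_filter.2 ⟨valList_eq ▸ hvc s, hP s⟩)
      _ ≤ _ := List.toFinset_card_le _
  have hfix : ∀ a : ↥A, ∀ s : ↥S, fixB (lstP (pat a)) (vc s) = true := fun a s =>
    fixB_of_comm W (hpat a) s.2.2 (hcomm _ a.2 _ s.2.1) (hRv s) (valList_eq ▸ hvc s)
  set I := Finset.univ.image fun a : ↥A => lstP (pat a) with hI
  have hAle : Nat.card ↥A ≤ I.card * Nat.card ↥S := by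
    have hex : ∀ x : ↥I, ∃ a : ↥A, lstP (pat a) = x.1 := fun x => by
      obtain ⟨a, -, e⟩ := Finset.mem_image.1 x.2
      exact ⟨a, e⟩
    choose rep hrep using hex
    let π : ↥A → ↥I := fun a => ⟨lstP (pat a), Finset.mem_image.2 ⟨a, Finset.mem_univ _, rfl⟩⟩
    have hmem : ∀ a : ↥A, (rep (π a)).1⁻¹ * a.1 ∈ S := fun a => by
      refine ⟨A.mul_mem (A.inv_mem (rep (π a)).2) a.2, ?_⟩
      obtain ⟨r, hr, -, hrp⟩ := (hpat (rep (π a))).inv
      have e : pat (rep (π a)) = pat a := lstP_inj (hrep (π a))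
      have := hr.mul (hpat a)
      rwa [← e, show r ∘ pat (rep (π a)) = id from hrp] at this
    have hinj : Function.Injective fun a : ↥A => ((π a, ⟨_, hmem a⟩) : ↥I × ↥S) := fun a b e => by
      obtain ⟨e1, e2⟩ := Prod.mk.injEq _ _ _ _ ▸ e
      have e3 := congrArg Subtype.val e2
      simp only [e1] at e3
      exact Subtype.ext (mul_left_cancel e3)
    refine (Nat.card_le_card_of_injective _ hinj).trans (le_of_eq ?_)
    rw [Nat.card_prod, Nat.card_eq_fintype_card (α := ↥I), Fintype.card_coe]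
  have hsub : I ⊆ threePerms.toFinset := fun x hx => by
    obtain ⟨a, -, rfl⟩ := Finset.mem_image.1 hx
    exact List.mem_toFinset.2 (hpmem a)
  have h9 : threePerms.toFinset.card ≤ 9 := (List.toFinset_card_le _).trans three_closed.2.1.le
  have h27 : Nat.card ↥S ≤ 27 := by
    refine (hbound (fixB (lstP (pat ⟨g₀, hg₀A⟩))) (hfix _)).trans (three_facts.2.1 _ (hpmem _) fun e => ?_)
    have := hpat ⟨g₀, hg₀A⟩
    rw [lstP_inj (e.trans lstP_id.symm)] at this
    exact hg₀ this
  rw [hcard] at hAle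
  have hI9 : I.card = threePerms.toFinset.card ∧ 9 ≤ I.card := by
    have := Finset.card_le_card hsub
    have : 9 ≤ I.card := by nlinarith
    omega
  have hall := Finset.eq_of_subset_of_card_le hsub (by omega)
  have hget : ∀ k, k < 9 → ∃ a : ↥A, lstP (pat a) = threePerms.getD k [] := fun k hk => by
    have : threePerms.getD k [] ∈ I := by
      rw [hall, List.mem_toFinset, List.getD_eq_getElem _ _ (by rw [three_closed.2.1]; exact hk)]
      exact List.getElem_mem _
    obtain ⟨a, -, e⟩ := Finset.mem_image.1 this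
    exact ⟨a, e⟩
  obtain ⟨a, ea⟩ := hget 1 (by norm_num)
  obtain ⟨b, eb⟩ := hget 3 (by norm_num)
  have h9' : Nat.card ↥S ≤ 9 := (hbound _ fun s => by
    rw [← ea, ← eb, hfix a s, hfix b s]; rfl).trans three_facts.2.2.1
  nlinarith [Finset.card_le_card hsub]

include W in
/-- An abelian subgroup of order 243 is conjugate to the diagonal subgroup. -/
theorem exists_conj_diag [Fintype F] (hF : Fintype.card F = 4) {H A : Subgroup (Cfsg.SU 6 F 2)}
    (hd : diagSub F ≤ H) (h3 : HasThree H) {m : ℕ} (hm : Nat.card ↥H = 2187 * m) (hm3 : ¬ 3 ∣ m)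
    (hA : A ≤ H) (hcomm : ∀ a ∈ A, ∀ b ∈ A, a * b = b * a) (hcard : Nat.card ↥A = 243) :
    ∃ h ∈ H, A.map (MulAut.conj h).toMonoidHom = diagSub F := by
  have : Fact (Nat.Prime 3) := ⟨Nat.prime_three⟩
  have hQ : Nat.card ↥((sylQ F).subgroupOf H) = 2187 := by
    rw [Nat.card_congr (Subgroup.subgroupOfEquivOfLe (sylQ_le hd h3)).toEquiv, card_sylQ W hF]
  have hfac : (Nat.card ↥H).factorization 3 = 7 := by
    have hm0 : m ≠ 0 := fun e => hm3 (e ▸ dvd_zero 3)
    rw [hm, Nat.factorization_mul (by norm_num) hm0, Finsupp.add_apply,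
      show (2187 : ℕ) = 3 ^ 7 by norm_num, Nat.Prime.factorization_pow Nat.prime_three,
      Finsupp.single_eq_same, Nat.factorization_eq_zero_of_not_dvd hm3, add_zero]
  let P : Sylow 3 ↥H := Sylow.ofCard ((sylQ F).subgroupOf H) (by rw [hQ, hfac]; norm_num)
  have hAp : IsPGroup 3 ↥(A.subgroupOf H) := IsPGroup.of_card (n := 5) (by
    rw [Nat.card_congr (Subgroup.subgroupOfEquivOfLe hA).toEquiv, hcard]; norm_num)
  obtain ⟨S, hS⟩ := hAp.exists_le_sylow
  obtain ⟨k, hk⟩ := MulAction.exists_smul_eq ↥H S P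
  refine ⟨k.1, k.2, eq_diag_of_le_sylQ W hF ?_ ?_ ?_⟩
  · rintro _ ⟨a, ha, rfl⟩
    have hmem : k * (⟨a, hA ha⟩ : ↥H) * k⁻¹ ∈ (P : Subgroup ↥H) := by
      rw [← hk, Sylow.coe_subgroup_smul]
      exact Subgroup.smul_mem_pointwise_smul _ (MulAut.conj k) _ (hS (by exact ha))
    exact hmem
  · rintro _ ⟨a, ha, rfl⟩ _ ⟨b, hb, rfl⟩
    show (MulAut.conj k.1) a * (MulAut.conj k.1) b = (MulAut.conj k.1) b * (MulAut.conj k.1) a
    rw [← map_mul, ← map_mul, hcomm a ha b hb]
  · rw [Subgroup.card_map_of_injective (MulAut.conj k.1).injective, hcard]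

end CfsgLib.UnitarySix
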