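import Cfsg.Agent.Lib.UnitarySix.Points
import Cfsg.Agent.Lib.UnitarySix.Sylow
import Cfsg.Agent.Lib.Classical.HermOrder

/-!
# The three groups are triple covers and pairwise not conjugate
-/

set_option autoImplicit false
set_option maxRecDepth 100000

namespace CfsgLib.UnitarySix

open CfsgLib.UnitarySixData Subgroup
open CfsgLib.Schur.Tails.UFour (H4)

variable {F : Type*} [Field F] (W : Four F)

theorem twist_data {c : ℕ} (hc : c < 3) :
    isU (twists.getD c 0) = true ∧ monB idP (twists.getD c 0) = true ∧ (gensC c).length = 8 ∧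
      ∀ k, k < 8 → mulC (mulC (twists.getD c 0) ((gensC 0).getD k 0)) (starC (twists.getD c 0)) =
        (gensC c).getD k 0 := by
  have h := twist_checks
  simp only [twistB, List.all_eq_true, List.mem_range, Bool.and_eq_true, beq_iff_eq, Nat.beq_eq] at h
  obtain ⟨⟨⟨h1, h2⟩, h3⟩, h4⟩ := h c hc
  exact ⟨h1, h2, h3, h4⟩

open Matrix in
theorem dec_twist {c : ℕ} (hc : c < 3) :
    W.dec (starC (twists.getD c 0)) * W.dec (twists.getD c 0) = 1 ∧
      W.dec (twists.getD c 0) * W.dec (starC (twists.getD c 0)) = 1 ∧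
      ((W.dec (starC (twists.getD c 0))).map (· ^ 2))ᵀ * W.dec (starC (twists.getD c 0)) = 1 := by
  have h := (twist_data hc).1
  have h2 : ((List.range 3).all fun c => isU (starC (twists.getD c 0))) = true := by decide +kernel
  simp only [List.all_eq_true, List.mem_range] at h2
  have h2 := h2 c hc
  simp only [isU, force_eq, Bool.and_eq_true, Nat.beq_eq] at h h2
  have e1 : W.dec (starC (twists.getD c 0)) * W.dec (twists.getD c 0) = 1 := by
    rw [← W.dec_mulC, h.2, W.dec_oneC]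
  exact ⟨e1, mul_eq_one_comm.1 e1, by rw [← W.dec_starC, ← W.dec_mulC, h2.2, W.dec_oneC]⟩

open Matrix in
/-- Conjugation by a diagonal twist. -/
noncomputable def twistEquiv {c : ℕ} (hc : c < 3) : Cfsg.SU 6 F 2 ≃* Cfsg.SU 6 F 2 :=
  let D := W.dec (twists.getD c 0)
  let E := W.dec (starC (twists.getD c 0))
  have hED : E * D = 1 := (dec_twist W hc).1
  have hDE : D * E = 1 := (dec_twist W hc).2.1
  have hD : ∀ u v, Cfsg.hermForm 6 F 2 (D *ᵥ u) (D *ᵥ v) = Cfsg.hermForm 6 F 2 u v :=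
    W.herm_of_unitary (by rw [← W.dec_starC]; exact hED)
  have hE : ∀ u v, Cfsg.hermForm 6 F 2 (E *ᵥ u) (E *ᵥ v) = Cfsg.hermForm 6 F 2 u v :=
    W.herm_of_unitary (dec_twist W hc).2.2
  have hdet : ∀ g : Cfsg.SU 6 F 2, (D * g.1.1 * E).det = 1 ∧ (E * g.1.1 * D).det = 1 := fun g => by
    have := congrArg Matrix.det hDE
    rw [Matrix.det_mul, Matrix.det_one] at this
    constructor <;> rw [Matrix.det_mul, Matrix.det_mul, det_val] <;> linear_combination this
  { toFun := fun g => ⟨⟨D * g.1.1 * E, (hdet g).1⟩, fun u v => by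
      show Cfsg.hermForm 6 F 2 ((D * g.1.1 * E) *ᵥ u) ((D * g.1.1 * E) *ᵥ v) = _
      rw [← Matrix.mulVec_mulVec, ← Matrix.mulVec_mulVec, ← Matrix.mulVec_mulVec, ← Matrix.mulVec_mulVec,
        hD]
      exact (g.2 _ _).trans (hE u v)⟩
    invFun := fun g => ⟨⟨E * g.1.1 * D, (hdet g).2⟩, fun u v => by
      show Cfsg.hermForm 6 F 2 ((E * g.1.1 * D) *ᵥ u) ((E * g.1.1 * D) *ᵥ v) = _
      rw [← Matrix.mulVec_mulVec, ← Matrix.mulVec_mulVec, ← Matrix.mulVec_mulVec, ← Matrix.mulVec_mulVec,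
        hE]
      exact (g.2 _ _).trans (hD u v)⟩
    left_inv := fun g => su_ext (by
      show E * (D * g.1.1 * E) * D = g.1.1
      rw [← Matrix.mul_assoc, ← Matrix.mul_assoc, hED, Matrix.one_mul, Matrix.mul_assoc, hED, Matrix.mul_one])
    right_inv := fun g => su_ext (by
      show D * (E * g.1.1 * D) * E = g.1.1
      rw [← Matrix.mul_assoc, ← Matrix.mul_assoc, hDE, Matrix.one_mul, Matrix.mul_assoc, hDE, Matrix.mul_one])
    map_mul' := fun g h => su_ext (by
      show D * (g.1.1 * h.1.1) * E = D * g.1.1 * E * (D * h.1.1 * E)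
      calc D * (g.1.1 * h.1.1) * E = D * g.1.1 * (E * D) * h.1.1 * E := by
            rw [hED, Matrix.mul_one]
            simp only [Matrix.mul_assoc]
        _ = _ := by simp only [Matrix.mul_assoc]) }

theorem twist_rep {c : ℕ} (hc : c < 3) {g : Cfsg.SU 6 F 2} {C : ℕ} (hg : Rep W g C) :
    Rep W (twistEquiv W hc g) (mulC (mulC (twists.getD c 0) C) (starC (twists.getD c 0))) := by
  refine ⟨can_mulC _ _, ?_⟩
  rw [W.dec_mulC, W.dec_mulC, ← hg.2]
  rfl

theorem exists_gensC {c k : ℕ} (hc : c < 3) (hk : k < 8) : ∃ g, Rep W g ((gensC c).getD k 0) := by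
  have e : (gensC c).getD k 0 = if k < 5 then dCodes.getD k 0 else kg c (k - 5) := by
    simp only [gensC, kg]
    split_ifs with h5
    · rw [List.getD_append _ _ _ _ (by rw [data_lengths.1]; exact h5)]
    · rw [List.getD_append_right _ _ _ _ (by rw [data_lengths.1]; omega), data_lengths.1]
  rw [e]
  split_ifs with h5
  · obtain ⟨g, hg, -⟩ := rep_d W h5
    exact ⟨g, hg⟩
  · exact rep_kg W hc (by omega)

theorem map_twist {c : ℕ} (hc : c < 3) :
    (grpC W 0).map (twistEquiv W hc).toMonoidHom = grpC W c := by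
  obtain ⟨-, -, hlen, hk⟩ := twist_data hc
  show (Subgroup.closure _).map _ = Subgroup.closure _
  rw [MonoidHom.map_closure]
  refine congrArg Subgroup.closure (Set.ext fun y => ⟨?_, ?_⟩)
  · rintro ⟨x, ⟨C, hC, hR⟩, rfl⟩
    obtain ⟨k, hk0, rfl⟩ := List.getElem_of_mem hC
    rw [← List.getD_eq_getElem _ 0 hk0] at hR
    rw [gensC_length] at hk0
    refine ⟨_, ?_, (hk k hk0) ▸ twist_rep W hc hR⟩
    rw [List.getD_eq_getElem _ _ (by rw [hlen]; exact hk0)]
    exact List.getElem_mem _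
  · rintro ⟨C, hC, hR⟩
    obtain ⟨k, hk0, rfl⟩ := List.getElem_of_mem hC
    rw [← List.getD_eq_getElem _ 0 hk0] at hR
    rw [hlen] at hk0
    obtain ⟨g, hg⟩ := exists_gensC W (show 0 < 3 by norm_num) hk0
    refine ⟨g, ⟨_, ?_, hg⟩, ((hk k hk0) ▸ twist_rep W hc hg : Rep W _ _).inj hR⟩
    rw [List.getD_eq_getElem _ _ (by rw [gensC_length]; exact hk0)]
    exact List.getElem_mem _

theorem grp_spec [Fintype F] (hF : Fintype.card F = 4) {c : ℕ} (hc : c < 3) :
    Nat.card ↥(Subgroup.center ↥(grpC W c)) = 3 ∧ Nat.card ↥(grpC W c) = 3 * 3265920 ∧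
      Nonempty (↥(grpC W c) ⧸ Subgroup.center ↥(grpC W c) ≃* ↥H4) := by
  obtain ⟨h1, h2, ⟨e0⟩⟩ := grp_zero_spec W hF
  let e : ↥(grpC W 0) ≃* ↥(grpC W c) :=
    ((grpC W 0).equivMapOfInjective _ (twistEquiv W hc).injective).trans
      (MulEquiv.subgroupCongr (map_twist W hc))
  have hmap : (Subgroup.center ↥(grpC W 0)).map e.toMonoidHom = Subgroup.center ↥(grpC W c) := by
    ext y
    constructor
    · rintro ⟨x, hx, rfl⟩
      rw [Subgroup.mem_center_iff]
      intro z
      obtain ⟨w, rfl⟩ := e.surjective z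
      show e w * e x = e x * e w
      rw [← map_mul, ← map_mul, Subgroup.mem_center_iff.1 hx w]
    · intro hy
      refine ⟨e.symm y, ?_, e.apply_symm_apply y⟩
      rw [SetLike.mem_coe, Subgroup.mem_center_iff]
      intro z
      apply e.injective
      rw [map_mul, map_mul, e.apply_symm_apply, Subgroup.mem_center_iff.1 hy]
  refine ⟨?_, (Nat.card_congr e.toEquiv).symm.trans h2, ⟨(QuotientGroup.congr _ _ e hmap).symm.trans e0⟩⟩
  rw [← hmap, Subgroup.card_map_of_injective e.injective, h1]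

theorem card_su_six [Fintype F] (hF : Fintype.card F = 4) :
    Nat.card ↥(Cfsg.SU 6 F 2) = 2187 * 12615680 := by
  have h := CfsgLib.Classical.card_su (n := 6) (q := 2) (F := F) (by rw [hF]; norm_num) (by norm_num)
  rw [show CfsgLib.Classical.unitaryOrder 2 6 = 3 * (2187 * 12615680) by decide] at h
  omega

theorem not_conj [Fintype F] (hF : Fintype.card F = 4) {i j : ℕ} (hi : i < 3) (hj : j < 3) (hij : i < j)
    (g : Cfsg.SU 6 F 2) : (grpC W i).map (MulAut.conj g).toMonoidHom ≠ grpC W j := by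
  intro e
  obtain ⟨-, hcard, -⟩ := grp_spec W hF hj
  obtain ⟨k, hk, hkd⟩ := exists_conj_diag W hF (H := grpC W j)
    (A := (diagSub F).map (MulAut.conj g).toMonoidHom) (diag_le_grpC W j) (hasThree_of_ab W hj le_rfl)
    (m := 4480) (by rw [hcard]) (by norm_num) (e ▸ Subgroup.map_mono (diag_le_grpC W i)) (by
      rintro _ ⟨a, ha, rfl⟩ _ ⟨b, hb, rfl⟩
      show (MulAut.conj g) a * (MulAut.conj g) b = (MulAut.conj g) b * (MulAut.conj g) a
      rw [← map_mul, ← map_mul, diag_comm ha hb])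
    (by rw [Subgroup.card_map_of_injective (MulAut.conj g).injective, card_diag W hF])
  have hnorm : ∀ t ∈ diagSub F, (k * g) * t * (k * g)⁻¹ ∈ diagSub F := fun t ht =>
    hkd.le ⟨g * t * g⁻¹, ⟨t, ht, rfl⟩, by
      show k * (g * t * g⁻¹) * k⁻¹ = _
      group⟩
  obtain ⟨p, hp⟩ := exists_isMonG W hnorm
  have hsame : grpC W i = grpC W j := by
    have hN := mono_normalizes W hi hp
    refine le_antisymm (fun x hx => ?_) (fun y hy => ?_)
    · have hy := (Subgroup.mem_normalizer_iff.1 ((normalizer _).inv_mem hN) x).1 hx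
      have hz : g * ((k * g)⁻¹ * x * (k * g)⁻¹⁻¹) * g⁻¹ ∈ grpC W j := e ▸ ⟨_, hy, rfl⟩
      have := (grpC W j).mul_mem ((grpC W j).mul_mem hk hz) ((grpC W j).inv_mem hk)
      rwa [show k * (g * ((k * g)⁻¹ * x * (k * g)⁻¹⁻¹) * g⁻¹) * k⁻¹ = x by group] at this
    · have hy' : k⁻¹ * y * k ∈ grpC W j := (grpC W j).mul_mem ((grpC W j).mul_mem ((grpC W j).inv_mem hk) hy) hk
      rw [← e] at hy'
      obtain ⟨x, hx, ex⟩ := hy'
      have ex' : g * x * g⁻¹ = k⁻¹ * y * k := ex
      have := (Subgroup.mem_normalizer_iff.1 hN x).1 hx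
      rwa [show (k * g) * x * (k * g)⁻¹ = k * (g * x * g⁻¹) * k⁻¹ by group, ex',
        show k * (k⁻¹ * y * k) * k⁻¹ = y by group] at this
  have h := eleven_checks
  simp only [elevenB, Bool.and_eq_true, List.all_eq_true, List.any_eq_true, List.mem_range,
    Nat.beq_eq, Bool.not_eq_true', Nat.blt_eq] at h
  obtain ⟨d, hd, hdi, hdj⟩ := h.1 j hj i hij
  obtain ⟨⟨⟨⟨-, -⟩, hE⟩, hne⟩, hpow⟩ := h.2 d hd
  rw [hdi, hdj] at hne hpow
  obtain ⟨x, hx, hxr⟩ := expr_mem W (gs := [kg i 2, kg j 2, kg i 0, kg i 1])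
    (tgt := prodC (d.2.2.map (facC [kg i 2, kg j 2, kg i 0, kg i 1]))) (E := d.2.2) (by
      simp only [exprOK, Bool.and_eq_true, List.all_eq_true, Nat.beq_refl, and_true]
      intro n hn
      have := hE n hn
      rw [data_lengths.2.2.1]
      exact this)
    (diag_le_grpC W j) (fun n hn => by
      simp only [List.length_cons, List.length_nil] at hn
      interval_cases n
      · obtain ⟨z, hz⟩ := rep_kg W hi (show 2 < 3 by norm_num)
        exact ⟨z, hsame ▸ kg_mem W hi (by norm_num) hz, hz⟩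
      · obtain ⟨z, hz⟩ := rep_kg W hj (show 2 < 3 by norm_num)
        exact ⟨z, kg_mem W hj (by norm_num) hz, hz⟩
      · obtain ⟨z, hz⟩ := rep_kg W hi (show 0 < 3 by norm_num)
        exact ⟨z, hsame ▸ kg_mem W hi (by norm_num) hz, hz⟩
      · obtain ⟨z, hz⟩ := rep_kg W hi (show 1 < 3 by norm_num)
        exact ⟨z, hsame ▸ kg_mem W hi (by norm_num) hz, hz⟩)
  have h11 : x ^ 11 = 1 := (hxr.pow 11).inj (hpow.symm ▸ Rep.one)
  have hx1 : x ≠ 1 := fun e1 => by
    have := hxr.unique (e1.symm ▸ Rep.one)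
    rw [this, Nat.beq_refl] at hne
    exact Bool.false_ne_true hne.symm
  have : Fact (Nat.Prime 11) := ⟨by norm_num⟩
  have ho : orderOf (⟨x, hx⟩ : ↥(grpC W j)) = 11 :=
    orderOf_eq_prime (Subtype.ext h11) (fun e1 => hx1 (congrArg Subtype.val e1))
  have hdvd := orderOf_dvd_natCard (⟨x, hx⟩ : ↥(grpC W j))
  rw [ho, hcard] at hdvd
  norm_num at hdvd

end CfsgLib.UnitarySix
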