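import Cfsg.Agent.Lib.UnitarySix.Reduce
import Cfsg.Agent.Lib.UnitarySix.Cover

/-!
# Every triple cover is conjugate to one of the three groups
-/

set_option autoImplicit false
set_option maxRecDepth 100000

namespace CfsgLib.UnitarySix

open CfsgLib.UnitarySixData Subgroup
open CfsgLib.Schur.Tails.UFour (H4)

attribute [local irreducible] mulC smulC monC code force scals wordC valList permList solveC

variable {F : Type*} [Field F] {W : Four F}

theorem setE_ent {M p v q : ℕ} (hv : v < 4) :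
    ent (setE M p v) q = Nat.xor (ent M q) (if q = p then v else 0) := by
  rw [setE, ent_xor]
  congr 1
  simp only [ent, Nat.shiftRight_eq_div_pow, Nat.shiftLeft_eq]
  rcases lt_trichotomy q p with h | rfl | h
  · rw [if_neg h.ne, show 2 * p = 2 * q + (2 * (p - q - 1) + 2) by omega, pow_add, ← mul_assoc,
      mul_comm v, mul_assoc, Nat.mul_div_cancel_left _ (by positivity), pow_add, ← mul_assoc]
    exact Nat.mul_mod_left _ 4
  · rw [if_pos rfl, Nat.mul_div_cancel _ (by positivity)]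
    omega
  · rw [if_neg h.ne', show 2 * q = 2 * p + (2 * (q - p - 1) + 2) by omega, pow_add, mul_comm v,
      Nat.mul_div_mul_left _ _ (by positivity), pow_add]
    have : v / (2 ^ (2 * (q - p - 1)) * 2 ^ 2) = 0 :=
      Nat.div_eq_of_lt (lt_of_lt_of_le hv (Nat.le_mul_of_pos_left _ (by positivity)))
    rw [this]

/-- The entries at known positions. -/
def Agrees (M X : ℕ) (known : List ℕ) : Prop :=
  ∀ p < 36, (p ∈ known → ent M p = ent X p) ∧ (p ∉ known → ent M p = 0)

theorem agrees_set {M X p : ℕ} {known : List ℕ} (h : Agrees M X known) (hp : p < 36) (hn : p ∉ known) :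
    Agrees (setE M p (ent X p)) X (p :: known) := by
  intro q hq
  rw [setE_ent (ent_lt _ _)]
  obtain ⟨h1, h2⟩ := h q hq
  rcases eq_or_ne q p with rfl | hne
  · rw [if_pos rfl, h2 hn]
    exact ⟨fun _ => Nat.zero_xor _, fun hc => absurd List.mem_cons_self hc⟩
  · rw [if_neg hne, show Nat.xor (ent M q) 0 = ent M q from Nat.xor_zero _]
    exact ⟨fun hc => h1 ((List.mem_cons.1 hc).resolve_left hne),
      fun hc => h2 fun hk => hc (List.mem_cons_of_mem _ hk)⟩

theorem entry_eq (W : Four F) {A V X z r k k2 c : ℕ} (hz : z < 4) (hz0 : z ≠ 0)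
    (hr : r < 6) (hk : k < 6) (hk2 : k2 < 6) (hc : c < 6)
    (hA : ∀ u < 6, u ≠ k → ent A (6 * u + c) = 0) (hV : ∀ u < 6, u ≠ k2 → ent V (6 * r + u) = 0)
    (hV0 : ent V (6 * r + k2) ≠ 0) (e : mulC X A = smulC z (mulC V X)) :
    ent X (6 * k2 + c) = mt (mt (ent X (6 * r + k)) (ent A (6 * k + c)))
      (mt (mt z (ent V (6 * r + k2))) (mt z (ent V (6 * r + k2)))) := by
  refine W.el_inj (ent_lt _ _) (mt_lt _ _) ?_
  have h := congrFun₂ (congrArg W.dec e) (⟨r, hr⟩ : Fin 6) (⟨c, hc⟩ : Fin 6)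
  rw [W.dec_mulC, W.dec_smulC hz, W.dec_mulC, Matrix.smul_apply, Matrix.mul_apply, Matrix.mul_apply,
    Finset.sum_eq_single (⟨k, hk⟩ : Fin 6), Finset.sum_eq_single (⟨k2, hk2⟩ : Fin 6)] at h
  · change W.el (ent X (6 * r + k)) * W.el (ent A (6 * k + c)) =
      W.el z * (W.el (ent V (6 * r + k2)) * W.el (ent X (6 * k2 + c))) at h
    rw [W.el_mt (mt_lt _ _) (mt_lt _ _), W.el_mt (mt_lt _ _) (mt_lt _ _), W.el_mt (ent_lt _ _) (ent_lt _ _),
      W.el_mt hz (ent_lt _ _), h]
    have h3 := W.cube (mul_ne_zero (W.el_ne hz hz0) (W.el_ne (ent_lt _ _) hV0))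
    linear_combination (-(W.el (ent X (6 * k2 + c)))) * h3
  · intro u _ hu
    show W.el (ent V (6 * r + u.val)) * _ = 0
    rw [hV u.val u.isLt (fun e' => hu (Fin.ext e'))]
    exact zero_mul _
  · simp
  · intro u _ hu
    show _ * W.el (ent A (6 * u.val + c)) = 0
    rw [hA u.val u.isLt (fun e' => hu (Fin.ext e'))]
    exact mul_zero _
  · simp

theorem solve_sound (W : Four F) {i X z1 z2 : ℕ} (hz1 : z1 < 4 ∧ z1 ≠ 0) (hz2 : z2 < 4 ∧ z2 ≠ 0)
    (e1 : mulC X A0 = smulC z1 (mulC (wordC [A0, caseCode i] wA) X))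
    (e2 : mulC X (caseCode i) = smulC z2 (mulC (wordC [A0, caseCode i] wB) X)) :
    ∀ (L : List (ℕ × ℕ × ℕ × ℕ × ℕ)) (M : ℕ) (known : List ℕ), L.all (stepB i) = true →
      orderB known L = true → (∀ p ∈ known, p < 36) → Agrees M X known →
        ∀ p < 36, ent (L.foldl (stepVal i z1 z2) M) p = ent X p
  | [], M, known, _, ho, _, ha => fun p hp => by
    simp only [orderB, List.all_eq_true, List.mem_range, List.contains_iff_mem] at ho
    exact (ha p hp).1 (ho p hp)
  | s :: L, M, known, hs, ho, hk36, ha => by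
    simp only [List.all_cons, Bool.and_eq_true] at hs
    simp only [orderB, Bool.and_eq_true, List.contains_iff_mem, Bool.not_eq_true',
      ← Bool.not_eq_true] at ho
    obtain ⟨⟨hsrc, htgt⟩, ho'⟩ := ho
    obtain ⟨hb, hs'⟩ := hs
    simp only [stepB, Bool.and_eq_true, Nat.blt_eq, List.all_eq_true, List.mem_range, Bool.or_eq_true,
      Nat.beq_eq, Bool.not_eq_true'] at hb
    obtain ⟨⟨⟨⟨⟨⟨⟨he, hr⟩, hk⟩, hk2⟩, hc⟩, hA⟩, hV⟩, hV0⟩ := hb
    have htlt : stepTgt s < 36 := by simp only [stepTgt]; omega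
    rw [List.foldl_cons]
    refine solve_sound W hz1 hz2 e1 e2 L _ (stepTgt s :: known) hs' ho'
      (fun p hp => by
        rcases List.mem_cons.1 hp with rfl | hp
        exacts [htlt, hk36 p hp]) ?_
    suffices hval : stepVal i z1 z2 M s = setE M (stepTgt s) (ent X (stepTgt s)) by
      rw [hval]
      exact agrees_set ha htlt htgt
    simp only [stepVal, force_eq]
    have hsr : ent M (stepSrc s) = ent X (stepSrc s) := (ha _ (hk36 _ hsrc)).1 hsrc
    rw [hsr]
    refine congrArg _ ?_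
    obtain ⟨e, r, k, k2, c⟩ := s
    simp only [stepTgt, stepSrc] at hsr ⊢
    have hV0' := Nat.ne_of_beq_eq_false hV0
    simp only [eqSides] at hA hV hV0' ⊢
    rcases (by omega : e = 0 ∨ e = 1) with rfl | rfl
    · simp only [if_pos] at hA hV hV0' ⊢
      exact (entry_eq W hz1.1 hz1.2 hr hk hk2 hc (fun u hu hne => (hA u hu).resolve_left hne)
        (fun u hu hne => (hV u hu).resolve_left hne) hV0' e1).symm
    · simp only [Nat.one_ne_zero, if_false] at hA hV hV0' ⊢
      exact (entry_eq W hz2.1 hz2.2 hr hk hk2 hc (fun u hu hne => (hA u hu).resolve_left hne)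
        (fun u hu hne => (hV u hu).resolve_left hne) hV0' e2).symm

theorem can_stepVal {i z1 z2 : ℕ} : ∀ (L : List (ℕ × ℕ × ℕ × ℕ × ℕ)) (M : ℕ), L.all (stepB i) = true →
    M < 4 ^ 36 → L.foldl (stepVal i z1 z2) M < 4 ^ 36
  | [], _, _, h => h
  | s :: L, M, hs, h => by
    simp only [List.all_cons, Bool.and_eq_true] at hs
    obtain ⟨hb, hs'⟩ := hs
    simp only [stepB, Bool.and_eq_true, Nat.blt_eq] at hb
    have htlt : stepTgt s < 36 := by
      obtain ⟨⟨⟨⟨-, hk2⟩, hc⟩, -⟩, -⟩ := hb.1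
      simp only [stepTgt]
      omega
    rw [List.foldl_cons]
    refine can_stepVal L _ hs' ?_
    simp only [stepVal, force_eq, setE]
    have hv := mt_lt (mt (ent M (stepSrc s)) (ent (eqSides i s.1).1 (6 * s.2.2.1 + s.2.2.2.2)))
      (mt (mt (if s.1 = 0 then z1 else z2) (ent (eqSides i s.1).2 (6 * s.2.1 + s.2.2.2.1)))
        (mt (if s.1 = 0 then z1 else z2) (ent (eqSides i s.1).2 (6 * s.2.1 + s.2.2.2.1))))
    rw [show (4 : ℕ) ^ 36 = 2 ^ 72 by norm_num] at h ⊢
    refine Nat.xor_lt_two_pow h ?_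
    rw [Nat.shiftLeft_eq]
    calc _ < 4 * 2 ^ (2 * stepTgt s) := Nat.mul_lt_mul_of_lt_of_le hv le_rfl (by positivity)
      _ = 2 ^ (2 * stepTgt s + 2) := by rw [pow_add]; ring
      _ ≤ _ := Nat.pow_le_pow_right (by norm_num) (by omega)

theorem exists_solve (W : Four F) {i X z1 z2 : ℕ} (hi : i < 18) (hX : Can X)
    (hz1 : z1 < 4 ∧ z1 ≠ 0) (hz2 : z2 < 4 ∧ z2 ≠ 0)
    (e1 : mulC X A0 = smulC z1 (mulC (wordC [A0, caseCode i] wA) X))
    (e2 : mulC X (caseCode i) = smulC z2 (mulC (wordC [A0, caseCode i] wB) X)) :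
    ∃ v0 < 4, ∃ v1 < 4, solveC i z1 z2 v0 v1 = X := by
  have h := steps_checks
  simp only [List.all_eq_true, List.mem_range] at h
  have h := h i hi
  simp only [stepsB, Bool.and_eq_true, Nat.blt_eq, Bool.not_eq_true'] at h
  obtain ⟨⟨⟨⟨hall, hb0⟩, hb1⟩, hne⟩, hord⟩ := h
  set b0 := (caseBases.getD i []).getD 0 0
  set b1 := (caseBases.getD i []).getD 1 0
  refine ⟨ent X b0, ent_lt _ _, ent X b1, ent_lt _ _, ?_⟩
  have h0 : Agrees 0 X [] := fun p _ => ⟨fun hc => absurd hc List.not_mem_nil, fun _ => by simp [ent]⟩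
  have ha := agrees_set (agrees_set h0 hb0 List.not_mem_nil) hb1 (p := b1) (by
    rw [List.mem_singleton]; exact fun e => (Nat.ne_of_beq_eq_false hne) e.symm)
  have hord' : orderB [b1, b0] (caseSteps.getD i []) = true := by
    have : ∀ (L : List (ℕ × ℕ × ℕ × ℕ × ℕ)) (k k' : List ℕ), (∀ p, p ∈ k ↔ p ∈ k') →
        orderB k L = true → orderB k' L = true := by
      intro L
      induction L with
      | nil =>
        intro k k' hk h
        simp only [orderB, List.all_eq_true, List.contains_iff_mem] at h ⊢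
        exact fun p hp => (hk p).1 (h p hp)
      | cons s L ih =>
        intro k k' hk h
        simp only [orderB, Bool.and_eq_true, List.contains_iff_mem, Bool.not_eq_true',
          ← Bool.not_eq_true] at h ⊢
        exact ⟨⟨(hk _).1 h.1.1, fun hc => h.1.2 ((hk _).2 hc)⟩,
          ih _ _ (fun p => by simp only [List.mem_cons, hk p]) h.2⟩
    exact this _ _ _ (fun p => by simp [or_comm]) hord
  have hlast := solve_sound W hz1 hz2 e1 e2 _ _ [b1, b0] hall hord'
    (fun p hp => by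
      simp only [List.mem_cons, List.not_mem_nil, or_false] at hp
      rcases hp with rfl | rfl
      exacts [hb1, hb0]) ha
  refine Can.ext (can_of_lt ?_) hX ?_
  · unfold solveC
    refine can_stepVal _ _ hall ?_
    simp only [setE]
    have hb : ∀ {v b : ℕ}, v < 4 → b < 36 → v <<< (2 * b) < 2 ^ 72 := fun {v b} hv hb => by
      rw [Nat.shiftLeft_eq]
      calc _ < 4 * 2 ^ (2 * b) := Nat.mul_lt_mul_of_lt_of_le hv le_rfl (by positivity)
        _ = 2 ^ (2 * b + 2) := by rw [pow_add]; ring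
        _ ≤ _ := Nat.pow_le_pow_right (by norm_num) (by omega)
    rw [show (4 : ℕ) ^ 36 = 2 ^ 72 by norm_num]
    exact Nat.xor_lt_two_pow (Nat.xor_lt_two_pow (by norm_num) (hb (ent_lt _ _) hb0)) (hb (ent_lt _ _) hb1)
  · unfold solveC
    exact hlast

theorem Rep.mono_of_monAny {g : Cfsg.SU 6 F 2} {X : ℕ} (hg : Rep W g X) (h : monAny X = true) :
    ∃ p, IsMonG p g := by
  simp only [monAny, List.all_eq_true, List.mem_range, beq_iff_eq] at h
  have : ∀ j : Fin 6, ∃ i : Fin 6, ∀ k : Fin 6, k ≠ i → ent X (6 * k.val + j.val) = 0 := by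
    intro j
    obtain ⟨i, hi⟩ := List.length_eq_one_iff.1 (h j.val j.isLt)
    have hmem : i ∈ [i] := List.mem_singleton_self i
    rw [← hi, List.mem_filter, List.mem_range] at hmem
    refine ⟨⟨i, hmem.1⟩, fun k hk => ?_⟩
    by_contra hne
    have : k.val ∈ [i] := by
      rw [← hi, List.mem_filter, List.mem_range]
      refine ⟨k.isLt, ?_⟩
      simp only [Bool.not_eq_true', Bool.eq_false_iff]
      exact fun e => hne (Nat.eq_of_beq_eq_true e)
    exact hk (Fin.ext (List.mem_singleton.1 this))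
  choose p hp using this
  refine ⟨p, fun i j hij => ?_⟩
  rw [hg.2]
  show W.el (ent X (6 * i.val + j.val)) = 0
  rw [hp j i hij]
  rfl

theorem triple_mem {H : Subgroup (Cfsg.SU 6 F 2)} {a b x : Cfsg.SU 6 F 2} {A B X : ℕ} (ha : a ∈ H)
    (hA : Rep W a A) (hb : b ∈ H) (hB : Rep W b B) (hx : x ∈ H) (hX : Rep W x X) :
    ∀ n, n < [A, B, X].length → ∃ y ∈ H, Rep W y ([A, B, X].getD n 0)
  | 0, _ => ⟨a, ha, hA⟩
  | 1, _ => ⟨b, hb, hB⟩
  | 2, _ => ⟨x, hx, hX⟩
  | n + 3, h => absurd h (by simp)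

/-- A triple cover is conjugate to one of the three groups. -/
theorem exists_conj_grp [Fintype F] (W : Four F) (hF : Fintype.card F = 4)
    (K : Subgroup (Cfsg.SU 6 F 2)) (h3 : Nat.card ↥(Subgroup.center ↥K) = 3)
    (e : ↥K ⧸ Subgroup.center ↥K ≃* ↥H4) :
    ∃ g, ∃ c < 3, K.map (MulAut.conj g).toMonoidHom = grpC W c := by
  obtain ⟨-, hcard0, ⟨e0⟩⟩ := grp_zero_spec W hF
  let d : ↥K ⧸ Subgroup.center ↥K ≃* Q0 W :=
    e.trans (e0.symm.trans (QuotientGroup.quotientMulEquivOfEq (center_zero W)))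
  have hKcard : Nat.card ↥K = 3 * 3265920 := by
    have := (Subgroup.center ↥K).index_mul_card
    rw [h3, Subgroup.index_eq_card, Nat.card_congr e.toEquiv, CfsgLib.Schur.Tails.UFour.card_H4] at this
    omega
  let φ : ↥K →* Q0 W := d.toMonoidHom.comp (QuotientGroup.mk' _)
  obtain ⟨h, ⟨S0⟩⟩ := exists_sit hF (card_su_six (F := F) hF) (by norm_num) (φ := φ)
    (d.surjective.comp (QuotientGroup.mk'_surjective _)) (by
      ext x
      simp [φ, MonoidHom.mem_ker]) h3
  obtain ⟨h', S, a, b, a₀, b₀, p, q, A, B, ha, hb, hA', hB', hp, hq, -, -, hA, hB, hz, rfl, i, hi, rfl⟩ :=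
    exists_codes hF S0
  obtain ⟨x₀, hX'⟩ := exists_base W (show 2 < 3 by norm_num)
  obtain ⟨x₁, hx₁⟩ := S.exists_lift x₀
  have hx0sq : x₀.1 * x₀.1 = 1 := hX'.mul_eq hX' Rep.one (by rw [base_facts.2.2.1]; exact Nat.beq_refl _)
  have hzs : x₁ * x₁ ∈ scalSub F := (hz _).1 ((hx₁.mul hx₁).mem_center (by
    show x₀.1 * x₀.1 ∈ _
    rw [hx0sq]; exact one_mem _))
  set x := x₁ * x₁ * x₁ with hx_def
  have hx : S.Lift x x₀ := by
    rw [hx_def]
    exact lift_scal_mul hx₁ hz hzs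
  have hxx : x * x = 1 := by
    obtain ⟨c, hc, ec⟩ := hzs
    refine su_ext ?_
    have : (x * x).1.1 = (x₁ * x₁).1.1 * (x₁ * x₁).1.1 * (x₁ * x₁).1.1 := by
      simp only [hx_def, val_mul, Matrix.mul_assoc]
    rw [this, ec]
    simp only [Matrix.smul_mul, Matrix.mul_smul, Matrix.one_mul, Matrix.mul_one, smul_smul, val_one,
      show c * (c * c) = c ^ 3 by ring, W.cube hc, one_smul]
  obtain ⟨X, hX⟩ := exists_rep W x
  have key : ∀ {y : Cfsg.SU 6 F 2} {y₀ : ↥(grpC W 0)} {Y Y' : ℕ} (w : List ℕ), (∀ k ∈ w, k < 2) →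
      S.Lift y y₀ → Rep W y Y → Rep W y₀.1 Y' →
      mulC (mulC (kg 0 2) Y') (kg 0 2) = wordC [kg 0 0, kg 0 1] w →
      ∃ z, (z < 4 ∧ z ≠ 0) ∧ mulC X Y = smulC z (mulC (wordC [A0, caseCode i] w) X) := by
    intro y y₀ Y Y' w hw hy hY hY' e'
    obtain ⟨u, u₀, h1, h2, h3', -⟩ := Sit.Lift.word ha hb hA hB hA' hB' w hw
    have hl := ((hx.mul hy).mul hx).mul h1.inv
    have hs : ((x₀ * y₀) * x₀ * u₀⁻¹).1 = 1 := by
      have := ((hX'.mul hY').mul hX')
      rw [e'] at this
      show (x₀.1 * y₀.1) * x₀.1 * u₀.1⁻¹ = 1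
      rw [this.inj h3', mul_inv_cancel]
    obtain ⟨c, hc, hc0, hR⟩ := scal_code W ((hz _).1 (hl.mem_center (by rw [hs]; exact one_mem _)))
    refine ⟨c, ⟨hc, hc0⟩, W.dec_inj (can_mulC _ _) (can_smulC _ _) ?_⟩
    rw [W.dec_mulC, W.dec_smulC hc, W.dec_mulC, ← hX.2, ← hY.2, ← h2.2]
    have e2 : x * y = ((x * y) * x * u⁻¹) * (u * x) := by
      rw [mul_assoc (x * y * x), inv_mul_cancel_left, mul_assoc (x * y), hxx, mul_one]
    have h4 := congrArg (fun t : ↥(Cfsg.SU 6 F 2) => t.1.1) e2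
    simp only [val_mul] at h4
    rw [h4, show (x.1.1 * y.1.1 * x.1.1 * (u⁻¹).1.1) = W.el c • (1 : Matrix (Fin 6) (Fin 6) F) by
      rw [← W.dec_scal hc, ← hR.2]; simp only [val_mul], Matrix.smul_mul, Matrix.one_mul]
  obtain ⟨z1, hz1, e1⟩ := key wA base_facts.2.2.2.2.2.2.2.1 ha hA hA' base_facts.2.2.2.2.2.1
  obtain ⟨z2, hz2, e2⟩ := key wB base_facts.2.2.2.2.2.2.2.2 hb hB hB' base_facts.2.2.2.2.2.2.1
  obtain ⟨v0, hv0, v1, hv1, hsol⟩ := exists_solve W hi hX.1 hz1 hz2 e1 e2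
  have hxc : xCaseB i = true := by
    rcases lt_or_ge i 9 with h9 | h9
    · have := xCase_checks_one
      simp only [List.all_eq_true, List.mem_range] at this
      exact this i h9
    · have := xCase_checks_two
      simp only [List.all_eq_true, List.mem_range'_1] at this
      exact this i ⟨h9, by omega⟩
  simp only [xCaseB, force_eq, List.all_eq_true, Bool.or_eq_true, List.mem_range] at hxc
  have hmem : ∀ {z : ℕ}, z < 4 ∧ z ≠ 0 → z ∈ [1, 2, 3] := fun {z} hz => by
    obtain ⟨h4, h0⟩ := hz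
    interval_cases z <;> simp at h0 ⊢
  have hxc := hxc z1 (hmem hz1) z2 (hmem hz2) v0 hv0 v1 hv1
  rw [hsol] at hxc
  have hnm : ∀ r, ¬ IsMonG r x := by
    intro r hr
    obtain ⟨d₀, hd, hdd⟩ := exists_baseD W (show 0 < 5 by norm_num)
    obtain ⟨t, ht⟩ := S.exists_lift d₀
    have hl := (hx.mul ht).mul hx
    have hmem' : x * t * x ∈ diagSub F := by
      have hinv : x⁻¹ = x := inv_eq_of_mul_eq_one_right hxx
      have := hr.conj_diag (ht.mem_diag_iff.2 hdd)
      rwa [hinv] at this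
    have := monB_of_diag (hl.mem_diag_iff.1 hmem') ((hX'.mul hd).mul hX')
    rw [base_facts.2.2.2.2.1] at this
    exact Bool.false_ne_true this
  have hXU : mulC (starC X) X = oneC := by
    refine W.dec_inj (can_mulC _ _) can_oneC ?_
    rw [W.dec_mulC, W.dec_starC, ← hX.2, Four.unitary_of_mem, W.dec_oneC]
  have hXX : mulC X X = oneC := (hX.mul hX).unique (hxx.symm ▸ Rep.one)
  have hfin : X = caseSol.getD i 0 ∧ X ≠ 0 := by
    rcases hxc with ((((h | h) | h) | h) | h) | h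
    · rw [e1, Nat.beq_refl] at h; exact absurd h (by decide)
    · rw [e2, Nat.beq_refl] at h; exact absurd h (by decide)
    · rw [hXX, Nat.beq_refl] at h; exact absurd h (by decide)
    · rw [hXU, Nat.beq_refl] at h; exact absurd h (by decide)
    · obtain ⟨r, hr⟩ := hX.mono_of_monAny h
      exact absurd hr (hnm r)
    · simp only [Bool.and_eq_true, Nat.beq_eq, Bool.not_eq_true'] at h
      exact ⟨h.1, Nat.ne_of_beq_eq_false h.2⟩
  have ht := target_checks
  simp only [targetB, List.all_eq_true, List.mem_range, Bool.or_eq_true, Bool.and_eq_true, Nat.beq_eq,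
    Nat.blt_eq] at ht
  obtain ⟨hc, hk⟩ := (ht i hi).resolve_left (fun e => hfin.2 (hfin.1.trans e))
  set c := (caseTarget.getD i (0, [])).1
  refine ⟨h' * h, c, hc, ?_⟩
  rw [← map_map_conj]
  have hX3 : Rep W x (caseSol.getD i 0) := by rw [← hfin.1]; exact hX
  have hgs := triple_mem (W := W) (H := (K.map (MulAut.conj h).toMonoidHom).map (MulAut.conj h').toMonoidHom)
    ha.mem hA hb.mem hB hx.mem hX3
  have hle : grpC W c ≤ ((K.map (MulAut.conj h).toMonoidHom).map (MulAut.conj h').toMonoidHom) := by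
    refine (Subgroup.closure_le _).2 ?_
    rintro y ⟨C, hC, hR⟩
    rcases List.mem_append.1 hC with hC | hC
    · obtain ⟨k, hk5, rfl⟩ := List.getElem_of_mem hC
      obtain ⟨d, hd, hdd⟩ := rep_d W (k := k) (by rw [← data_lengths.1]; exact hk5)
      rw [List.getD_eq_getElem _ _ hk5] at hd
      rw [hR.inj hd]
      exact S.diag_le hdd
    · obtain ⟨k, hk3, rfl⟩ := List.getElem_of_mem hC
      rw [← List.getD_eq_getElem _ 0 hk3] at hR
      rw [data_lengths.2.2.2 c hc] at hk3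
      obtain ⟨y', hy', hyr⟩ := expr_mem W (hk k hk3) S.diag_le hgs
      rw [hR.inj hyr]
      exact hy'
  refine (Subgroup.eq_of_le_of_card_ge hle (le_of_eq ?_)).symm
  rw [(grp_spec W hF hc).2.1, Subgroup.card_map_of_injective (MulAut.conj h').injective,
    Subgroup.card_map_of_injective (MulAut.conj h).injective, hKcard]

end CfsgLib.UnitarySix
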