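import Mathlib
import Cfsg.Prelude.Def_Classical

/-!
# Six by six matrices over the field with four elements as natural numbers

An entry takes two bits: `1` is one, `2` is a root `w` of `x² + x + 1`, `3` is `w + 1`; the entry in
row `i` and column `j` has position `6 * i + j`.
-/

set_option autoImplicit false

namespace CfsgLib.UnitarySix

open Matrix

/-- The product of two entries. -/
def mt (a b : ℕ) : ℕ := (0x9c78e400 >>> (2 * (4 * a + b))) % 4

/-- Applying a function to an evaluated number. -/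
def force {α : Type*} (n : ℕ) (k : ℕ → α) : α :=
  match n with
  | 0 => k 0
  | m + 1 => k (m + 1)

theorem force_eq {α : Type*} (n : ℕ) (k : ℕ → α) : force n k = k n := by cases n <;> rfl

/-- The entry at a position. -/
def ent (M p : ℕ) : ℕ := (M >>> (2 * p)) % 4

/-- The code with given entries from position `k` on. -/
def bld (f : ℕ → ℕ) : ℕ → ℕ → ℕ
  | _, 0 => 0
  | k, n + 1 => f k + 4 * bld f (k + 1) n

/-- A code from its entries. -/
def code (f : ℕ → ℕ) : ℕ := bld f 0 36

/-- Six digits in base `4096`. -/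
def dig (f : ℕ → ℕ) : ℕ → ℕ → ℕ
  | _, 0 => 0
  | i, n + 1 => f i + 4096 * dig f (i + 1) n

/-- Bit `s` of every row. -/
def colBits (A s : ℕ) : ℕ := dig (fun i => (A >>> (12 * i + s)) % 2) 0 6

/-- The root times a row. -/
def wmul (r : ℕ) : ℕ :=
  Nat.lor (Nat.land (r >>> 1) 0x555) ((Nat.land (Nat.xor r (r >>> 1)) 0x555) <<< 1)

/-- The contribution of a column and a row to a product. -/
def outerC (A B k : ℕ) : ℕ :=
  force ((B >>> (12 * k)) % 4096) fun r =>
    Nat.xor (colBits A (2 * k) * r) (colBits A (2 * k + 1) * wmul r)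

/-- An entry of a product. -/
def dot (A B i j : ℕ) : ℕ :=
  Nat.xor (mt (ent A (6 * i)) (ent B j))
    (Nat.xor (mt (ent A (6 * i + 1)) (ent B (6 + j)))
      (Nat.xor (mt (ent A (6 * i + 2)) (ent B (12 + j)))
        (Nat.xor (mt (ent A (6 * i + 3)) (ent B (18 + j)))
          (Nat.xor (mt (ent A (6 * i + 4)) (ent B (24 + j))) (mt (ent A (6 * i + 5)) (ent B (30 + j)))))))

/-- The product. -/
def mulC (A B : ℕ) : ℕ :=
  force A fun A => force B fun B =>
    Nat.xor (outerC A B 0) (Nat.xor (outerC A B 1) (Nat.xor (outerC A B 2)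
      (Nat.xor (outerC A B 3) (Nat.xor (outerC A B 4) (outerC A B 5)))))

/-- A scalar code. -/
def scal (c : ℕ) : ℕ := code fun p => if p / 6 = p % 6 then c % 4 else 0

/-- The identity. -/
def oneC : ℕ := scal 1

/-- A scalar times a code. -/
def smulC (c M : ℕ) : ℕ := force M fun M => code fun p => mt (c % 4) (ent M p)

/-- The conjugate transpose. -/
def starC (M : ℕ) : ℕ :=
  force M fun M => code fun p => mt (ent M (6 * (p % 6) + p / 6)) (ent M (6 * (p % 6) + p / 6))

/-- A product of a list. -/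
def prodC : List ℕ → ℕ
  | [] => oneC
  | a :: L => mulC a (prodC L)

/-- A power. -/
def powC (M : ℕ) : ℕ → ℕ
  | 0 => oneC
  | n + 1 => mulC M (powC M n)

/-- The diagonal code of a list. -/
def diagC (v : List ℕ) : ℕ := code fun p => if p / 6 = p % 6 then v.getD (p % 6) 0 % 4 else 0

/-- The monomial code of a list of images and a list of entries. -/
def monC (q v : List ℕ) : ℕ :=
  code fun p => if q.getD (p % 6) 9 = p / 6 then v.getD (p % 6) 0 % 4 else 0

theorem mt_lt (a b : ℕ) : mt a b < 4 := Nat.mod_lt _ (by norm_num)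

theorem ent_lt (M p : ℕ) : ent M p < 4 := Nat.mod_lt _ (by norm_num)

theorem xor_lt {a b : ℕ} (ha : a < 4) (hb : b < 4) : Nat.xor a b < 4 :=
  Nat.xor_lt_two_pow (n := 2) ha hb

theorem dot_lt (A B i j : ℕ) : dot A B i j < 4 :=
  xor_lt (mt_lt _ _) (xor_lt (mt_lt _ _) (xor_lt (mt_lt _ _) (xor_lt (mt_lt _ _)
    (xor_lt (mt_lt _ _) (mt_lt _ _)))))

theorem ent_bld {f : ℕ → ℕ} (hf : ∀ p, f p < 4) :
    ∀ (n k p : ℕ), p < n → ent (bld f k n) p = f (k + p)
  | 0, k, p, h => absurd h (Nat.not_lt_zero p)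
  | n + 1, k, 0, _ => by
    have := hf k
    simp only [ent, bld, Nat.mul_zero, Nat.shiftRight_zero, Nat.add_zero]
    omega
  | n + 1, k, p + 1, h => by
    have hk := hf k
    have ih := ent_bld hf n (k + 1) p (by omega)
    simp only [ent, bld, Nat.shiftRight_eq_div_pow] at ih ⊢
    rw [show k + (p + 1) = k + 1 + p by omega, ← ih, show 2 * (p + 1) = 2 + 2 * p by omega, pow_add,
      ← Nat.div_div_eq_div_mul, show (f k + 4 * bld f (k + 1) n) / 2 ^ 2 = bld f (k + 1) n by omega]

theorem ent_code {f : ℕ → ℕ} (hf : ∀ p, f p < 4) {p : ℕ} (hp : p < 36) : ent (code f) p = f p := by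
  rw [code, ent_bld hf 36 0 p hp, Nat.zero_add]

theorem bld_congr {f g : ℕ → ℕ} : ∀ (n k : ℕ), (∀ p < n, f (k + p) = g (k + p)) → bld f k n = bld g k n
  | 0, _, _ => rfl
  | n + 1, k, h => by
    have h0 := h 0 (by omega)
    rw [Nat.add_zero] at h0
    have hn := bld_congr (f := f) (g := g) n (k + 1) fun p hp => by
      rw [show k + 1 + p = k + (p + 1) by omega]; exact h (p + 1) (by omega)
    show f k + 4 * bld f (k + 1) n = g k + 4 * bld g (k + 1) n
    rw [h0, hn]

theorem code_congr {f g : ℕ → ℕ} (h : ∀ p < 36, f p = g p) : code f = code g :=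
  bld_congr 36 0 fun p hp => by rw [Nat.zero_add]; exact h p hp

/-- A code in normal form. -/
def Can (M : ℕ) : Prop := code (ent M) = M

theorem can_code {f : ℕ → ℕ} (hf : ∀ p, f p < 4) : Can (code f) :=
  code_congr fun _ hp => ent_code hf hp

theorem Can.ext {A B : ℕ} (hA : Can A) (hB : Can B) (h : ∀ p < 36, ent A p = ent B p) : A = B := by
  rw [← hA, ← hB]
  exact code_congr h

theorem bld_ent : ∀ (n k M : ℕ), M / 4 ^ k < 4 ^ n → bld (ent M) k n = M / 4 ^ k
  | 0, k, M, h => by
    rw [pow_zero, Nat.lt_one_iff] at h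
    simp only [bld, h]
  | n + 1, k, M, h => by
    have e : M / 4 ^ (k + 1) = M / 4 ^ k / 4 := by rw [pow_succ, Nat.div_div_eq_div_mul]
    have ih := bld_ent n (k + 1) M (by rw [e]; rw [pow_succ] at h; omega)
    have e2 : (2 : ℕ) ^ (2 * k) = 4 ^ k := by rw [pow_mul]; norm_num
    simp only [bld, ih, ent, Nat.shiftRight_eq_div_pow, e, e2]
    omega

theorem can_of_lt {M : ℕ} (h : M < 4 ^ 36) : Can M := by
  have := bld_ent 36 0 M (by simpa using h)
  simpa [Can, code] using this

theorem dig_lt {f : ℕ → ℕ} (hf : ∀ i, f i < 4096) : ∀ n k, dig f k n < 4096 ^ n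
  | 0, _ => by simp [dig]
  | n + 1, k => by
    have := dig_lt hf n (k + 1)
    have := hf k
    simp only [dig, pow_succ]
    omega

theorem dig_mul (f : ℕ → ℕ) (r : ℕ) : ∀ n k, dig f k n * r = dig (fun i => f i * r) k n
  | 0, _ => by simp [dig]
  | n + 1, k => by
    simp only [dig, ← dig_mul f r n (k + 1)]
    ring

theorem ent_xor (x y p : ℕ) : ent (Nat.xor x y) p = Nat.xor (ent x p) (ent y p) := by
  show ((x ^^^ y) >>> (2 * p)) % 2 ^ 2 = ((x >>> (2 * p)) % 2 ^ 2) ^^^ ((y >>> (2 * p)) % 2 ^ 2)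
  rw [Nat.shiftRight_xor_distrib, Nat.xor_mod_two_pow]

theorem ent_add_high {d : ℕ} (hd : d < 4096) (R : ℕ) {p : ℕ} (hp : p < 6) :
    ent (d + 4096 * R) p = ent d p := by
  simp only [ent, Nat.shiftRight_eq_div_pow]
  interval_cases p <;> norm_num <;> omega

theorem ent_add_low {d : ℕ} (hd : d < 4096) (R p : ℕ) : ent (d + 4096 * R) (p + 6) = ent R p := by
  simp only [ent, Nat.shiftRight_eq_div_pow]
  rw [show 2 * (p + 6) = 12 + 2 * p by omega, pow_add, ← Nat.div_div_eq_div_mul,
    show (d + 4096 * R) / 2 ^ 12 = R by norm_num; omega]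

theorem ent_dig {f : ℕ → ℕ} (hf : ∀ i, f i < 4096) :
    ∀ (n k i j : ℕ), i < n → j < 6 → ent (dig f k n) (6 * i + j) = ent (f (k + i)) j
  | 0, _, i, _, h, _ => absurd h (Nat.not_lt_zero i)
  | n + 1, k, 0, j, _, hj => by
    simp only [dig, Nat.mul_zero, Nat.zero_add, Nat.add_zero]
    exact ent_add_high (hf k) _ hj
  | n + 1, k, i + 1, j, h, hj => by
    have ih := ent_dig hf n (k + 1) i j (by omega) hj
    rw [show 6 * (i + 1) + j = 6 * i + j + 6 by omega, show k + (i + 1) = k + 1 + i by omega, ← ih]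
    exact ent_add_low (hf k) _ _

theorem wmul_spec : ((List.range 4096).all fun r => Nat.blt (wmul r) 4096 &&
    (List.range 6).all fun j => (ent (wmul r) j).beq (mt 2 (ent r j))) = true := by
  decide +kernel

theorem mt_bits : ((List.range 4).all fun a => (List.range 4).all fun b =>
    (mt a b).beq (Nat.xor (a % 2 * b) ((a >>> 1) % 2 * mt 2 b))) = true := by
  decide +kernel

theorem wmul_ok {r : ℕ} (hr : r < 4096) :
    wmul r < 4096 ∧ ∀ j, j < 6 → ent (wmul r) j = mt 2 (ent r j) := by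
  have := wmul_spec
  simp only [List.all_eq_true, List.mem_range, Bool.and_eq_true, Nat.blt_eq, Nat.beq_eq] at this
  exact this r hr

theorem bit_mul_lt {b r : ℕ} (hb : b < 2) (hr : r < 4096) : b * r < 4096 := by
  interval_cases b <;> omega

theorem colBits_lt (A s r : ℕ) (hr : r < 4096) : colBits A s * r < 4 ^ 36 := by
  rw [colBits, dig_mul]
  calc dig _ 0 6 < 4096 ^ 6 := dig_lt (fun i => bit_mul_lt (Nat.mod_lt _ (by norm_num)) hr) 6 0
    _ = 4 ^ 36 := by norm_num

theorem outerC_lt (A B k : ℕ) : outerC A B k < 4 ^ 36 := by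
  simp only [outerC, force_eq]
  have hr : (B >>> (12 * k)) % 4096 < 4096 := Nat.mod_lt _ (by norm_num)
  have h := Nat.xor_lt_two_pow (n := 72) (show colBits A (2 * k) * ((B >>> (12 * k)) % 4096) < 2 ^ 72 from
      lt_of_lt_of_eq (colBits_lt A _ _ hr) (by norm_num))
    (show colBits A (2 * k + 1) * wmul ((B >>> (12 * k)) % 4096) < 2 ^ 72 from
      lt_of_lt_of_eq (colBits_lt A _ _ (wmul_ok hr).1) (by norm_num))
  exact lt_of_lt_of_eq h (by norm_num)

theorem ent_outerC (A B : ℕ) {k i j : ℕ} (hi : i < 6) (hj : j < 6) (hk : k < 6) :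
    ent (outerC A B k) (6 * i + j) = mt (ent A (6 * i + k)) (ent B (6 * k + j)) := by
  simp only [outerC, force_eq]
  set r := (B >>> (12 * k)) % 4096 with hr'
  have hr : r < 4096 := Nat.mod_lt _ (by norm_num)
  have hb : ∀ s, ∀ x, x < 4096 → ∀ i, (A >>> (12 * i + s)) % 2 * x < 4096 := fun s x hx i =>
    bit_mul_lt (Nat.mod_lt _ (by norm_num)) hx
  have hrj : ent r j = ent B (6 * k + j) := by
    simp only [hr', ent, Nat.shiftRight_eq_div_pow]
    rw [show 2 * (6 * k + j) = 12 * k + 2 * j by omega, pow_add, ← Nat.div_div_eq_div_mul]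
    interval_cases j <;> norm_num <;> omega
  have hmul : ∀ {b x : ℕ}, b < 2 → ent (b * x) j = b * ent x j := fun {b x} hb' => by
    interval_cases b <;> simp [ent]
  rw [ent_xor, colBits, colBits, dig_mul, dig_mul, ent_dig (hb _ _ hr) 6 0 i j hi hj,
    ent_dig (hb _ _ (wmul_ok hr).1) 6 0 i j hi hj, hmul (Nat.mod_lt _ (by norm_num)),
    hmul (Nat.mod_lt _ (by norm_num)), (wmul_ok hr).2 j hj, hrj, Nat.zero_add]
  have h0 : (A >>> (12 * i + 2 * k)) % 2 = ent A (6 * i + k) % 2 := by
    simp only [ent, show 2 * (6 * i + k) = 12 * i + 2 * k by omega]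
    omega
  have h1 : (A >>> (12 * i + (2 * k + 1))) % 2 = (ent A (6 * i + k) >>> 1) % 2 := by
    simp only [ent, show 2 * (6 * i + k) = 12 * i + 2 * k by omega,
      show 12 * i + (2 * k + 1) = 12 * i + 2 * k + 1 by omega, Nat.shiftRight_eq_div_pow, pow_succ,
      ← Nat.div_div_eq_div_mul, pow_zero]
    omega
  have hm := mt_bits
  simp only [List.all_eq_true, List.mem_range, Nat.beq_eq] at hm
  rw [h0, h1, ← hm _ (ent_lt _ _) _ (ent_lt _ _)]

theorem can_mulC (A B : ℕ) : Can (mulC A B) := by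
  refine can_of_lt ?_
  simp only [mulC, force_eq]
  have h := fun k => lt_of_lt_of_eq (outerC_lt A B k) (show (4 : ℕ) ^ 36 = 2 ^ 72 by norm_num)
  refine lt_of_lt_of_eq ?_ (show (2 : ℕ) ^ 72 = 4 ^ 36 by norm_num)
  exact Nat.xor_lt_two_pow (h 0) (Nat.xor_lt_two_pow (h 1) (Nat.xor_lt_two_pow (h 2)
    (Nat.xor_lt_two_pow (h 3) (Nat.xor_lt_two_pow (h 4) (h 5)))))

theorem ent_mulC (A B : ℕ) {i j : ℕ} (hi : i < 6) (hj : j < 6) :
    ent (mulC A B) (6 * i + j) = dot A B i j := by
  simp only [mulC, force_eq, ent_xor, ent_outerC A B hi hj (show 0 < 6 by norm_num),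
    ent_outerC A B hi hj (show 1 < 6 by norm_num), ent_outerC A B hi hj (show 2 < 6 by norm_num),
    ent_outerC A B hi hj (show 3 < 6 by norm_num), ent_outerC A B hi hj (show 4 < 6 by norm_num),
    ent_outerC A B hi hj (show 5 < 6 by norm_num), dot, Nat.mul_zero, Nat.zero_add, Nat.add_zero,
    Nat.reduceMul]

theorem can_scal (c : ℕ) : Can (scal c) :=
  can_code fun p => by split_ifs <;> omega

theorem can_oneC : Can oneC := can_scal 1

theorem can_smulC (c M : ℕ) : Can (smulC c M) := by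
  simp only [smulC, force_eq]
  exact can_code fun _ => mt_lt _ _

theorem can_starC (M : ℕ) : Can (starC M) := by
  simp only [starC, force_eq]
  exact can_code fun _ => mt_lt _ _

theorem can_prodC : ∀ L : List ℕ, Can (prodC L)
  | [] => can_oneC
  | _ :: _ => can_mulC _ _

theorem can_powC (M : ℕ) : ∀ n, Can (powC M n)
  | 0 => can_oneC
  | _ + 1 => can_mulC _ _

theorem can_diagC (v : List ℕ) : Can (diagC v) :=
  can_code fun p => by split_ifs <;> omega

theorem can_monC (q v : List ℕ) : Can (monC q v) :=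
  can_code fun p => by split_ifs <;> omega

/-- A field with four elements and a chosen root. -/
structure Four (F : Type*) [Field F] where
  /-- The root. -/
  w : F
  hw : w * w = w + 1
  two : (2 : F) = 0
  surj : ∀ x : F, x = 0 ∨ x = 1 ∨ x = w ∨ x = w + 1

theorem exists_four {F : Type*} [Field F] [Fintype F] (hF : Fintype.card F = 4) : Nonempty (Four F) := by
  classical
  have h4 : (4 : F) = 0 := by
    have := Nat.cast_card_eq_zero F
    rw [hF] at this
    exact_mod_cast this
  have h2 : (2 : F) = 0 := by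
    have : (2 : F) * 2 = 0 := by rw [← h4]; norm_num
    exact (mul_self_eq_zero.1 this)
  have hcard : ∀ x : F, x ≠ 0 → x ^ 3 = 1 := fun x hx => by
    have := FiniteField.pow_card_sub_one_eq_one x hx
    rwa [hF] at this
  obtain ⟨w, hw0, hw1⟩ : ∃ w : F, w ≠ 0 ∧ w ≠ 1 := by
    by_contra hc
    push Not at hc
    have : (Finset.univ : Finset F) ⊆ {0, 1} := fun x _ => by
      rcases eq_or_ne x 0 with h | h <;> simp [h, hc]
    have h2' := Finset.card_le_card this
    rw [Finset.card_univ, hF] at h2'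
    have := Finset.card_le_two (a := (0 : F)) (b := 1)
    omega
  have hw : w * w = w + 1 := by
    have h3 := hcard w hw0
    have : (w - 1) * (w * w + w + 1) = 0 := by linear_combination h3
    have h := (mul_eq_zero.1 this).resolve_left (sub_ne_zero.2 hw1)
    linear_combination h - (w + 1) * h2
  have hw2 : w + 1 ≠ 0 := fun h => hw0 (by
    have : w * w = 0 := by rw [hw, h]
    exact mul_self_eq_zero.1 this)
  refine ⟨⟨w, hw, h2, fun x => ?_⟩⟩
  have hu : (Finset.univ : Finset F) = {0, 1, w, w + 1} := by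
    refine (Finset.eq_univ_of_card _ ?_).symm
    rw [hF]
    have n1 : (0 : F) ∉ ({1, w, w + 1} : Finset F) := by
      simp only [Finset.mem_insert, Finset.mem_singleton, not_or]
      exact ⟨zero_ne_one, hw0.symm, hw2.symm⟩
    have n2 : (1 : F) ∉ ({w, w + 1} : Finset F) := by
      simp only [Finset.mem_insert, Finset.mem_singleton, not_or]
      exact ⟨hw1.symm, fun h => hw0 (by simpa using h.symm)⟩
    have n3 : w ∉ ({w + 1} : Finset F) := by
      simp only [Finset.mem_singleton]
      exact fun h => one_ne_zero (α := F) (by simpa using h.symm)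
    rw [Finset.card_insert_of_notMem n1, Finset.card_insert_of_notMem n2,
      Finset.card_insert_of_notMem n3, Finset.card_singleton]
  have := Finset.mem_univ x
  rw [hu] at this
  simpa using this

namespace Four

variable {F : Type*} [Field F] (W : Four F)

/-- The element of an entry. -/
def el (c : ℕ) : F :=
  match c with
  | 1 => 1
  | 2 => W.w
  | 3 => W.w + 1
  | _ => 0

theorem el_zero : W.el 0 = 0 := rfl

theorem el_one : W.el 1 = 1 := rfl

include W in
theorem add_self (x : F) : x + x = 0 := by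
  have := W.two
  linear_combination x * this

theorem el_xor {a b : ℕ} (ha : a < 4) (hb : b < 4) : W.el (Nat.xor a b) = W.el a + W.el b := by
  have h2 := W.two
  have key : ∀ x y : ℕ, Nat.xor x y = x ^^^ y := fun x y => rfl
  rw [key]
  interval_cases a <;> interval_cases b <;> simp only [el, Nat.reduceXor] <;>
    first
      | rfl
      | simp
      | ring1
      | linear_combination (-1 : F) * h2
      | linear_combination (-W.w) * h2
      | linear_combination (-1 - W.w) * h2

theorem el_mt {a b : ℕ} (ha : a < 4) (hb : b < 4) : W.el (mt a b) = W.el a * W.el b := by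
  have := W.hw
  interval_cases a <;> interval_cases b <;> simp only [el, mt, Nat.reduceShiftRight, Nat.reduceMod,
    Nat.reduceMul, Nat.reduceAdd] <;>
    first
      | rfl
      | simp
      | linear_combination (-1 : F) * this
      | linear_combination (-1 : F) * this - W.w * W.two
      | linear_combination (-1 : F) * this - (1 + W.w) * W.two

theorem el_ne {c : ℕ} (hc : c < 4) (h0 : c ≠ 0) : W.el c ≠ 0 := by
  have hw := W.hw
  interval_cases c
  · exact absurd rfl h0
  · exact one_ne_zero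
  · intro h
    simp only [el] at h
    rw [h] at hw
    simp at hw
  · intro h
    simp only [el] at h
    rw [h] at hw
    exact one_ne_zero (α := F) (by
      have : W.w = 0 := mul_self_eq_zero.1 hw
      rw [this] at h; simpa using h)

theorem el_inj {a b : ℕ} (ha : a < 4) (hb : b < 4) (h : W.el a = W.el b) : a = b := by
  by_contra hne
  refine W.el_ne (xor_lt ha hb) (fun e => hne ((Nat.xor_eq_zero_iff).1 e)) ?_
  rw [W.el_xor ha hb, h, W.add_self]

theorem exists_el (x : F) : ∃ c, c < 4 ∧ W.el c = x := by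
  rcases W.surj x with h | h | h | h
  · exact ⟨0, by norm_num, h.symm⟩
  · exact ⟨1, by norm_num, h.symm⟩
  · exact ⟨2, by norm_num, h.symm⟩
  · exact ⟨3, by norm_num, h.symm⟩

include W in
theorem sq_add (x y : F) : (x + y) ^ 2 = x ^ 2 + y ^ 2 := by linear_combination x * y * W.two

include W in
theorem cube {x : F} (hx : x ≠ 0) : x ^ 3 = 1 := by
  have hw := W.hw
  rcases W.surj x with h | h | h | h
  · exact absurd h hx
  · rw [h, one_pow]
  · rw [h]; linear_combination (W.w + 1) * hw + W.w * W.two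
  · rw [h]; linear_combination (W.w + 4) * hw + (4 * W.w + 2) * W.two

/-- The matrix of a code. -/
def dec (M : ℕ) : Matrix (Fin 6) (Fin 6) F := Matrix.of fun i j => W.el (ent M (6 * i.val + j.val))

theorem dec_code {f : ℕ → ℕ} (hf : ∀ p, f p < 4) (i j : Fin 6) :
    W.dec (code f) i j = W.el (f (6 * i.val + j.val)) := by
  show W.el (ent (code f) (6 * i.val + j.val)) = _
  rw [ent_code hf (by omega)]

theorem dec_mulC (A B : ℕ) : W.dec (mulC A B) = W.dec A * W.dec B := by
  ext i j
  show W.el (ent (mulC A B) (6 * i.val + j.val)) = _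
  rw [ent_mulC A B i.isLt j.isLt, Matrix.mul_apply]
  simp only [dot]
  have hm := fun a b => W.el_mt (ent_lt A a) (ent_lt B b)
  rw [W.el_xor (mt_lt _ _) (xor_lt (mt_lt _ _) (xor_lt (mt_lt _ _) (xor_lt (mt_lt _ _)
      (xor_lt (mt_lt _ _) (mt_lt _ _))))),
    W.el_xor (mt_lt _ _) (xor_lt (mt_lt _ _) (xor_lt (mt_lt _ _) (xor_lt (mt_lt _ _) (mt_lt _ _)))),
    W.el_xor (mt_lt _ _) (xor_lt (mt_lt _ _) (xor_lt (mt_lt _ _) (mt_lt _ _))),
    W.el_xor (mt_lt _ _) (xor_lt (mt_lt _ _) (mt_lt _ _)),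
    W.el_xor (mt_lt _ _) (mt_lt _ _)]
  simp only [hm, Fin.sum_univ_six, dec, Matrix.of_apply]
  norm_num
  ring

theorem dec_scal {c : ℕ} (hc : c < 4) : W.dec (scal c) = W.el c • (1 : Matrix (Fin 6) (Fin 6) F) := by
  ext i j
  rw [scal, W.dec_code (fun p => by split_ifs <;> omega)]
  simp only [show (6 * i.val + j.val) / 6 = i.val by omega, show (6 * i.val + j.val) % 6 = j.val by omega,
    Nat.mod_eq_of_lt hc, Matrix.smul_apply, Matrix.one_apply, Fin.ext_iff]
  split_ifs <;> simp [el_zero]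

theorem dec_oneC : W.dec oneC = 1 := by
  rw [oneC, W.dec_scal (by norm_num), el_one, one_smul]

theorem dec_smulC {c : ℕ} (hc : c < 4) (M : ℕ) : W.dec (smulC c M) = W.el c • W.dec M := by
  ext i j
  simp only [smulC, force_eq]
  rw [W.dec_code (fun _ => mt_lt _ _), Nat.mod_eq_of_lt hc, W.el_mt hc (ent_lt _ _)]
  rfl

theorem dec_starC (M : ℕ) : W.dec (starC M) = ((W.dec M).map (· ^ 2))ᵀ := by
  ext i j
  simp only [starC, force_eq]
  rw [W.dec_code (fun _ => mt_lt _ _), W.el_mt (ent_lt _ _) (ent_lt _ _)]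
  simp only [show (6 * i.val + j.val) / 6 = i.val by omega, show (6 * i.val + j.val) % 6 = j.val by omega,
    Matrix.transpose_apply, Matrix.map_apply, dec, Matrix.of_apply, sq]

theorem dec_inj {A B : ℕ} (hA : Can A) (hB : Can B) (h : W.dec A = W.dec B) : A = B := by
  refine hA.ext hB fun p hp => W.el_inj (ent_lt _ _) (ent_lt _ _) ?_
  have := congrFun₂ h ⟨p / 6, by omega⟩ ⟨p % 6, by omega⟩
  simpa only [dec, Matrix.of_apply, Nat.div_add_mod] using this

theorem exists_dec (M : Matrix (Fin 6) (Fin 6) F) : ∃ C, Can C ∧ W.dec C = M := by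
  choose c hc4 hc using fun i j => W.exists_el (M i j)
  refine ⟨code fun p => if h : p / 6 < 6 then c ⟨p / 6, h⟩ ⟨p % 6, by omega⟩ else 0,
    can_code fun p => by split_ifs <;> simp [hc4], ?_⟩
  ext i j
  rw [W.dec_code (fun p => by split_ifs <;> simp [hc4])]
  simp only [show (6 * i.val + j.val) / 6 = i.val by omega, show (6 * i.val + j.val) % 6 = j.val by omega,
    dif_pos i.isLt, hc]

include W in
theorem det_eq_one_of_pow {M : Matrix (Fin 6) (Fin 6) F} {n : ℕ} (hn : n % 3 ≠ 0) (h : M ^ n = 1) :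
    M.det = 1 := by
  have h1 : M.det ^ n = 1 := by rw [← Matrix.det_pow, h, Matrix.det_one]
  have h0 : M.det ≠ 0 := fun e => by
    rw [e, zero_pow (by omega)] at h1
    exact zero_ne_one h1
  have h3 := W.cube h0
  rcases (by omega : n % 3 = 1 ∨ n % 3 = 2) with e | e
  · rw [← Nat.div_add_mod n 3, e, pow_add, pow_mul, h3, one_pow, one_mul, pow_one] at h1
    exact h1
  · rw [← Nat.div_add_mod n 3, e, pow_add, pow_mul, h3, one_pow, one_mul] at h1
    have : M.det * (M.det ^ 2) = 1 := by linear_combination h3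
    rw [h1, mul_one] at this
    exact this

include W in
theorem herm_of_unitary {M : Matrix (Fin 6) (Fin 6) F} (h : (M.map (· ^ 2))ᵀ * M = 1)
    (u v : Fin 6 → F) : Cfsg.hermForm 6 F 2 (M *ᵥ u) (M *ᵥ v) = Cfsg.hermForm 6 F 2 u v := by
  have hsum : ∀ i, (M *ᵥ v) i ^ 2 = (M.map (· ^ 2) *ᵥ fun j => v j ^ 2) i := fun i => by
    simp only [Matrix.mulVec, dotProduct, Fin.sum_univ_six, W.sq_add, mul_pow, Matrix.map_apply]
  have hT : Mᵀ * M.map (· ^ 2) = 1 := by
    have := congrArg Matrix.transpose h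
    rwa [Matrix.transpose_mul, Matrix.transpose_transpose, Matrix.transpose_one] at this
  simp only [Cfsg.hermForm, hsum]
  show (M *ᵥ u) ⬝ᵥ (M.map (· ^ 2) *ᵥ fun j => v j ^ 2) = u ⬝ᵥ fun j => v j ^ 2
  rw [Matrix.dotProduct_mulVec, Matrix.vecMul_mulVec, hT, Matrix.vecMul_one]

theorem unitary_of_mem (g : Cfsg.SU 6 F 2) :
    ((g.1.1).map (· ^ 2))ᵀ * g.1.1 = 1 := by
  have hT : g.1.1ᵀ * (g.1.1).map (· ^ 2) = 1 := by
    ext i j
    have h := g.2 (Pi.single i 1) (Pi.single j 1)
    simp only [Cfsg.hermForm] at h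
    have hs : ∀ (a : Fin 6) (k : Fin 6), (g.1.1 *ᵥ Pi.single a 1) k = g.1.1 k a := fun a k => by
      simp [Matrix.mulVec_single]
    change ∑ k, (g.1.1 *ᵥ Pi.single i 1) k * (g.1.1 *ᵥ Pi.single j 1) k ^ 2 = _ at h
    simp only [hs] at h
    rw [Matrix.mul_apply]
    simp only [Matrix.transpose_apply, Matrix.map_apply]
    rw [h, Matrix.one_apply]
    rcases eq_or_ne i j with rfl | hne
    · rw [if_pos rfl, Finset.sum_eq_single i] <;> simp +contextual
    · rw [if_neg hne]
      refine Finset.sum_eq_zero fun k _ => ?_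
      rcases eq_or_ne k i with rfl | hk
      · simp [Pi.single_eq_of_ne hne]
      · simp [Pi.single_eq_of_ne hk]
  have := congrArg Matrix.transpose hT
  rwa [Matrix.transpose_mul, Matrix.transpose_transpose, Matrix.transpose_one] at this

end Four

/-- `g` has code `C`. -/
def Rep {F : Type*} [Field F] (W : Four F) (g : Cfsg.SU 6 F 2) (C : ℕ) : Prop :=
  Can C ∧ g.1.1 = W.dec C

variable {F : Type*} [Field F] {W : Four F}

theorem exists_rep (W : Four F) (g : Cfsg.SU 6 F 2) : ∃ C, Rep W g C := by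
  obtain ⟨C, hC, e⟩ := W.exists_dec g.1.1
  exact ⟨C, hC, e.symm⟩

theorem Rep.unique {g : Cfsg.SU 6 F 2} {A B : ℕ} (hA : Rep W g A) (hB : Rep W g B) : A = B :=
  W.dec_inj hA.1 hB.1 (hA.2.symm.trans hB.2)

theorem Rep.inj {g h : Cfsg.SU 6 F 2} {A : ℕ} (hg : Rep W g A) (hh : Rep W h A) : g = h :=
  Subtype.ext (Subtype.ext (hg.2.trans hh.2.symm))

theorem Rep.one : Rep W 1 oneC := ⟨can_oneC, W.dec_oneC.symm⟩

theorem Rep.mul {g h : Cfsg.SU 6 F 2} {A B : ℕ} (hg : Rep W g A) (hh : Rep W h B) :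
    Rep W (g * h) (mulC A B) := by
  refine ⟨can_mulC _ _, ?_⟩
  rw [W.dec_mulC, ← hg.2, ← hh.2]
  rfl

theorem Rep.mul_eq {g h k : Cfsg.SU 6 F 2} {A B C : ℕ} (hg : Rep W g A) (hh : Rep W h B)
    (hk : Rep W k C) (e : (mulC A B).beq C = true) : g * h = k := by
  have := hg.mul hh
  rw [Nat.eq_of_beq_eq_true e] at this
  exact this.inj hk

theorem Rep.pow {g : Cfsg.SU 6 F 2} {A : ℕ} (hg : Rep W g A) : ∀ n, Rep W (g ^ n) (powC A n)
  | 0 => by rw [pow_zero]; exact Rep.one
  | n + 1 => by rw [pow_succ']; exact hg.mul (hg.pow n)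

theorem Rep.inv {g : Cfsg.SU 6 F 2} {A : ℕ} (hg : Rep W g A) : Rep W g⁻¹ (starC A) := by
  obtain ⟨B, hB⟩ := exists_rep W g⁻¹
  have h1 := Four.unitary_of_mem g
  rw [hg.2, ← W.dec_starC] at h1
  have h2 : W.dec A * W.dec B = 1 := by
    rw [← hg.2, ← hB.2]
    exact congrArg (fun x : Cfsg.SU 6 F 2 => x.1.1) (mul_inv_cancel g)
  refine ⟨can_starC _, ?_⟩
  rw [hB.2, ← one_mul (W.dec B), ← h1, Matrix.mul_assoc, h2, Matrix.mul_one]

/-- The codes of unitary matrices. -/
def isU (A : ℕ) : Bool :=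
  force A fun A => (code (ent A)).beq A && (mulC (starC A) A).beq oneC

/-- The code of an element of the group, from its power. -/
def isSU (n A : ℕ) : Bool := isU A && (n % 3 != 0) && (powC A n).beq oneC

theorem dec_powC (W : Four F) (A : ℕ) : ∀ n, W.dec (powC A n) = W.dec A ^ n
  | 0 => by rw [powC, W.dec_oneC, pow_zero]
  | n + 1 => by rw [powC, W.dec_mulC, dec_powC W A n, pow_succ']

theorem exists_su_of_det (W : Four F) {A : ℕ} (h : isU A = true) (hd : (W.dec A).det = 1) :
    ∃ g, Rep W g A := by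
  simp only [isU, force_eq, Bool.and_eq_true, Nat.beq_eq] at h
  obtain ⟨hc, hu⟩ := h
  have hu' : ((W.dec A).map (· ^ 2))ᵀ * W.dec A = 1 := by
    rw [← W.dec_starC, ← W.dec_mulC, hu, W.dec_oneC]
  exact ⟨⟨⟨W.dec A, hd⟩, W.herm_of_unitary hu'⟩, hc, rfl⟩

theorem exists_su (W : Four F) {n A : ℕ} (h : isSU n A = true) : ∃ g, Rep W g A := by
  simp only [isSU, Bool.and_eq_true, Nat.beq_eq, bne_iff_ne] at h
  refine exists_su_of_det W h.1.1 (W.det_eq_one_of_pow h.1.2 ?_)
  rw [← dec_powC, h.2, W.dec_oneC]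

end CfsgLib.UnitarySix
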