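import Cfsg.Agent.Lib.UnitarySix.Checks

/-!
# Three groups generated by monomial elements and one further involution

For `c < 3` the group `grpC W c` is generated by the diagonal elements and three further elements.
-/

set_option autoImplicit false
set_option maxRecDepth 100000

namespace CfsgLib.UnitarySix

open CfsgLib.UnitarySixData Matrix Subgroup

variable {F : Type*} [Field F] (W : Four F)

theorem exists_dnum {i : ℕ} (hi : i < 243) :
    ∃ g, Rep W g (dnum i) ∧ g ∈ diagSub F := by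
  have hl : valList.length = 243 := by decide +kernel
  have hall : (valList.all fun v => isU (monC idP v) && monB idP (monC idP v) &&
      (v.length == 6) && (v.all fun c => Nat.blt c 4 && !c.beq 0) && (prodE v).beq 1) = true := by
    decide +kernel
  simp only [List.all_eq_true, Bool.and_eq_true, beq_iff_eq, Nat.blt_eq, Bool.not_eq_true',
    Nat.beq_eq] at hall
  obtain ⟨⟨⟨⟨hu, hm⟩, hlen⟩, hne⟩, hp⟩ := hall (valList.getD i []) (by
    rw [List.getD_eq_getElem _ _ (by omega)]; exact List.getElem_mem _)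
  suffices hd : (W.dec (dnum i)).det = 1 by
    obtain ⟨g, hg⟩ := exists_su_of_det W hu hd
    exact ⟨g, hg, hg.mem_diag hm⟩
  set v := valList.getD i [] with hv
  have e : W.dec (dnum i) = Matrix.diagonal fun j : Fin 6 => W.el (v.getD j.val 0) := by
    ext a b
    rw [dnum, ← hv, monC, W.dec_code (fun p => by split_ifs <;> omega)]
    simp only [show (6 * a.val + b.val) / 6 = a.val by omega, show (6 * a.val + b.val) % 6 = b.val by omega]
    have hid : idP.getD b.val 9 = b.val := by
      have := lstP_getD id b 9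
      rwa [lstP_id] at this
    rw [hid, Matrix.diagonal_apply]
    rcases eq_or_ne a b with rfl | hab
    · rw [if_pos rfl, if_pos rfl, Nat.mod_eq_of_lt]
      have hmem : v.getD a.val 0 ∈ v := by
        rw [List.getD_eq_getElem _ _ (by omega)]; exact List.getElem_mem _
      exact (hne _ hmem).1
    · rw [if_neg hab, if_neg (fun h => hab (Fin.ext h.symm))]; rfl
  obtain ⟨-, h2⟩ := el_prodE W (v := v) fun c hc => (hne c hc).1
  rw [e, Matrix.det_diagonal, ← List.prod_ofFn, ← W.el_one, ← hp, h2]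
  refine congrArg List.prod (List.ext_getElem (by simp [hlen]) fun n h h' => ?_)
  simp only [List.getElem_ofFn, List.getElem_map]
  rw [List.getD_eq_getElem _ _ (by simp at h; omega)]

/-- The group generated by given codes. -/
def grp (L : List ℕ) : Subgroup (Cfsg.SU 6 F 2) :=
  Subgroup.closure {g | ∃ C ∈ L, Rep W g C}

/-- One of the three groups. -/
abbrev grpC (c : ℕ) : Subgroup (Cfsg.SU 6 F 2) := grp W (gensC c)

theorem rep_d {k : ℕ} (hk : k < 5) :
    ∃ g, Rep W g (dCodes.getD k 0) ∧ g ∈ diagSub F := by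
  have h := gens_checks
  simp only [gensB, Bool.and_eq_true, beq_iff_eq, List.all_eq_true, List.any_eq_true, List.mem_range,
    Nat.beq_eq] at h
  obtain ⟨i, hi, e⟩ := h.1.1.1.1.1.1 (dCodes.getD k 0) (by
    rw [List.getD_eq_getElem _ _ (by omega)]; exact List.getElem_mem _)
  rw [← e]
  exact exists_dnum W hi

theorem rep_kg {c k : ℕ} (hc : c < 3) (hk : k < 3) : ∃ g, Rep W g (kg c k) := by
  have h := gens_checks
  simp only [gensB, Bool.and_eq_true, List.all_eq_true, List.mem_range] at h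
  exact exists_su W (h.1.1.1.1.1.2 c hc k hk)

theorem rep_swap : ∃ g, Rep W g swapC := by
  have h := gens_checks
  simp only [gensB, Bool.and_eq_true] at h
  exact exists_su W h.1.1.1.1.2

theorem data_lengths : dCodes.length = 5 ∧ kGens.length = 3 ∧ valList.length = 243 ∧
    ∀ c, c < 3 → (kGens.getD c []).length = 3 := by
  have h := gens_checks
  simp only [gensB, Bool.and_eq_true, beq_iff_eq, List.all_eq_true] at h
  refine ⟨h.1.1.1.2, h.1.2, h.2, fun c hc => h.1.1.2 _ ?_⟩
  rw [List.getD_eq_getElem _ _ (by rw [h.1.2]; exact hc)]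
  exact List.getElem_mem _

theorem dCode_mem (c : ℕ) {k : ℕ} (hk : k < 5) : dCodes.getD k 0 ∈ gensC c := by
  refine List.mem_append.2 (Or.inl ?_)
  rw [List.getD_eq_getElem _ _ (by rw [data_lengths.1]; exact hk)]
  exact List.getElem_mem _

theorem kg_mem_gensC {c k : ℕ} (hc : c < 3) (hk : k < 3) : kg c k ∈ gensC c := by
  refine List.mem_append.2 (Or.inr ?_)
  show (kGens.getD c []).getD k 0 ∈ _
  rw [List.getD_eq_getElem (kGens.getD c []) 0 (by rw [data_lengths.2.2.2 c hc]; exact hk)]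
  exact List.getElem_mem _

theorem kg_mem {c k : ℕ} (hc : c < 3) (hk : k < 3) {g : Cfsg.SU 6 F 2} (hg : Rep W g (kg c k)) :
    g ∈ grpC W c :=
  Subgroup.subset_closure ⟨_, kg_mem_gensC hc hk, hg⟩

theorem rep_word {gs : List ℕ} {H : Subgroup (Cfsg.SU 6 F 2)} {P : ℕ → Prop}
    (hgs : ∀ n, P n → ∃ g ∈ H, Rep W g (gs.getD n 0)) : ∀ w : List ℕ, (∀ n ∈ w, P n) →
      ∃ g ∈ H, Rep W g (wordC gs w)
  | [], _ => ⟨1, H.one_mem, Rep.one⟩
  | n :: w, h => by
    obtain ⟨g, hg, hr⟩ := hgs n (h n List.mem_cons_self)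
    obtain ⟨g', hg', hr'⟩ := rep_word hgs w fun m hm => h m (List.mem_cons_of_mem _ hm)
    exact ⟨g * g', H.mul_mem hg hg', hr.mul hr'⟩

theorem diag_le_grp [Fintype F] {L : List ℕ} (hL : ∀ k, k < 5 → dCodes.getD k 0 ∈ L) :
    diagSub F ≤ grp W L := by
  intro g hg
  obtain ⟨v, hv, hR⟩ := diag_code W hg
  rw [valList_eq] at hv
  have h := span_checks
  simp only [spanB, List.all_eq_true, Nat.beq_eq] at h
  have key : ∀ l : List ℕ, (∀ i ∈ l, i < 5) →
      ∃ x ∈ grp W L, Rep W x (prodC (l.map fun i => powC (dCodes.getD i 0) (dExp v i))) := by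
    intro l
    induction l with
    | nil => exact fun _ => ⟨1, one_mem _, Rep.one⟩
    | cons i l ih =>
      intro hl
      obtain ⟨d, hd, -⟩ := rep_d W (hl i List.mem_cons_self)
      obtain ⟨x, hx, hxr⟩ := ih fun m hm => hl m (List.mem_cons_of_mem _ hm)
      exact ⟨d ^ dExp v i * x, mul_mem (pow_mem (show d ∈ grp W L from Subgroup.subset_closure ⟨_, hL i (hl i List.mem_cons_self), hd⟩) _) hx,
        (hd.pow _).mul hxr⟩
  obtain ⟨x, hx, hxr⟩ := key (List.range 5) fun i hi => List.mem_range.1 hi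
  rw [h v hv] at hxr
  rwa [hR.inj hxr]

theorem diag_le_grpC [Fintype F] (c : ℕ) : diagSub F ≤ grpC W c :=
  diag_le_grp W fun _ hk => dCode_mem c hk

/-- An expression in some elements and diagonal elements gives a member. -/
theorem expr_mem {gs : List ℕ} {tgt : ℕ} {E : List ℕ}
    (h : exprOK gs tgt E = true) {H : Subgroup (Cfsg.SU 6 F 2)} (hd : diagSub F ≤ H)
    (hgs : ∀ n, n < gs.length → ∃ g ∈ H, Rep W g (gs.getD n 0)) : ∃ g ∈ H, Rep W g tgt := by
  simp only [exprOK, Bool.and_eq_true, Nat.beq_eq, List.all_eq_true] at h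
  rw [← h.2]
  obtain ⟨hE, -⟩ := h
  induction E with
  | nil => exact ⟨1, H.one_mem, Rep.one⟩
  | cons n E ih =>
    obtain ⟨g', hg', hr'⟩ := ih fun m hm => hE m (List.mem_cons_of_mem _ hm)
    have hn := hE n List.mem_cons_self
    obtain ⟨g, hg, hr⟩ : ∃ g ∈ H, Rep W g (facC gs n) := by
      by_cases hlt : n < 10
      · rw [if_pos hlt, Nat.blt_eq] at hn
        rw [facC, if_pos hlt]
        exact hgs n hn
      · rw [if_neg hlt, Nat.blt_eq] at hn
        rw [facC, if_neg hlt]
        obtain ⟨g, hg, hm⟩ := exists_dnum W (i := n - 10) (by rw [← data_lengths.2.2.1]; exact hn)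
        exact ⟨g, hd hm, hg⟩
    exact ⟨g * g', H.mul_mem hg hg', hr.mul hr'⟩

/-! ### Images -/

/-- The images of the monomial elements of a subgroup. -/
def permsOf (H : Subgroup (Cfsg.SU 6 F 2)) : Subgroup (Equiv.Perm (Fin 6)) where
  carrier := {σ | ∃ h ∈ H, IsMonG σ h}
  one_mem' := ⟨1, H.one_mem, by rw [Equiv.Perm.coe_one]; exact IsMonG.one⟩
  mul_mem' := by
    rintro σ τ ⟨g, hg, hσ⟩ ⟨h, hh, hτ⟩
    exact ⟨g * h, H.mul_mem hg hh, by rw [Equiv.Perm.coe_mul]; exact hσ.mul hτ⟩
  inv_mem' := by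
    rintro σ ⟨g, hg, hσ⟩
    obtain ⟨q, hq, hpq, -⟩ := hσ.inv
    refine ⟨g⁻¹, H.inv_mem hg, ?_⟩
    have e : (⇑σ⁻¹ : Fin 6 → Fin 6) = q := funext fun i => by
      refine σ.injective ?_
      exact (σ.apply_symm_apply i).trans (congrFun hpq i).symm
    rw [e]
    exact hq

theorem fnP_cmpW {H : Subgroup (Cfsg.SU 6 F 2)} {ps : List (List ℕ)}
    (hps : ∀ n, n < ps.length → ∃ σ ∈ permsOf H, lstP σ = ps.getD n []) : ∀ w : List ℕ,
      (∀ n ∈ w, n < ps.length) → ∃ σ ∈ permsOf H, lstP σ = cmpW ps w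
  | [], _ => ⟨1, one_mem _, by rw [Equiv.Perm.coe_one, lstP_id]; rfl⟩
  | n :: w, h => by
    obtain ⟨σ, hσ, e⟩ := hps n (h n List.mem_cons_self)
    obtain ⟨τ, hτ, e'⟩ := fnP_cmpW hps w fun m hm => h m (List.mem_cons_of_mem _ hm)
    exact ⟨σ * τ, mul_mem hσ hτ, by rw [Equiv.Perm.coe_mul, lstP_comp, e, e', cmpW]⟩

theorem images : (∀ c, c < 3 → monB pA (kg c 0) = true ∧ monB pB (kg c 1) = true) ∧
    monB pS swapC = true ∧ cmpW [pA, pB, pS] cycWord = [1, 2, 3, 4, 5, 0] ∧
    ∀ k ∈ cycWord, k < 3 := by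
  have h := images_checks
  simp only [imagesB, Bool.and_eq_true, List.all_eq_true, List.mem_range, beq_iff_eq, Nat.blt_eq] at h
  exact ⟨fun c hc => h.1.1.1 c hc, h.1.1.2, h.1.2, h.2⟩

theorem mem_permsOf_of_monB {H : Subgroup (Cfsg.SU 6 F 2)} {g : Cfsg.SU 6 F 2} {C : ℕ} {q : List ℕ}
    (hg : g ∈ H) (hr : Rep W g C) (h : monB q C = true) (hq : lstP (fnP q) = q) :
    ∃ σ ∈ permsOf H, lstP σ = q := by
  have hm := hr.isMonG h
  exact ⟨Equiv.ofBijective _ hm.bijective, ⟨g, hg, hm⟩, hq⟩

theorem pA_pB_mem {c : ℕ} (hc : c < 3) {H : Subgroup (Cfsg.SU 6 F 2)} (hle : grpC W c ≤ H) :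
    ∀ n, n < [pA, pB].length → ∃ σ ∈ permsOf H, lstP σ = [pA, pB].getD n [] := by
  intro n hn
  obtain ⟨hA, hB⟩ := images.1 c hc
  obtain ⟨a, ha⟩ := rep_kg W hc (show 0 < 3 by norm_num)
  obtain ⟨b, hb⟩ := rep_kg W hc (show 1 < 3 by norm_num)
  simp only [List.length_cons, List.length_nil] at hn
  interval_cases n
  · exact mem_permsOf_of_monB W (hle (kg_mem W hc (by norm_num) ha)) ha hA (by decide)
  · exact mem_permsOf_of_monB W (hle (kg_mem W hc (by norm_num) hb)) hb hB (by decide)

/-- Every monomial element normalises each of the three groups. -/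
theorem mono_normalizes [Fintype F] {c : ℕ} (hc : c < 3) {g : Cfsg.SU 6 F 2} {p : Fin 6 → Fin 6}
    (hg : IsMonG p g) : g ∈ normalizer (grpC W c : Set (Cfsg.SU 6 F 2)) := by
  set N := normalizer (grpC W c : Set (Cfsg.SU 6 F 2))
  obtain ⟨s, hs⟩ := rep_swap W
  have hsD : ∀ x ∈ diagSub F, s * x * s⁻¹ ∈ diagSub F := fun x hx =>
    (hs.isMonG images.2.1).conj_diag hx
  have hsN : s ∈ N := by
    have hle : (grpC W c).map (MulAut.conj s).toMonoidHom ≤ grpC W c := by
      show (Subgroup.closure _).map _ ≤ _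
      rw [MonoidHom.map_closure, closure_le]
      rintro _ ⟨x, ⟨C, hC, hxC⟩, rfl⟩
      show s * x * s⁻¹ ∈ grpC W c
      rcases List.mem_append.1 hC with hC | hC
      · obtain ⟨k, hk, rfl⟩ := List.getElem_of_mem hC
        obtain ⟨d, hd, hdd⟩ := rep_d W (k := k) (by rw [← data_lengths.1]; exact hk)
        rw [List.getD_eq_getElem _ _ hk] at hd
        rw [hxC.inj hd]
        exact diag_le_grpC W c (hsD d hdd)
      · obtain ⟨k, hk, rfl⟩ := List.getElem_of_mem hC
        have hk3 : k < 3 := by rw [data_lengths.2.2.2 c hc] at hk; exact hk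
        have h := swap_checks
        simp only [swapB, List.all_eq_true, List.mem_range] at h
        obtain ⟨y, hy, hyr⟩ := expr_mem W (h c hc k hk3) (diag_le_grpC W c) (fun n hn => by
          rw [data_lengths.2.2.2 c hc] at hn
          obtain ⟨z, hz⟩ := rep_kg W hc hn
          exact ⟨z, kg_mem W hc hn hz, hz⟩)
        have hinv : s⁻¹ = s := by
          refine inv_eq_of_mul_eq_one_right ((hs.mul_eq hs Rep.one ?_))
          decide +kernel
        have hx : Rep W x (kg c k) := by rw [show kg c k = _ from List.getD_eq_getElem _ _ hk]; exact hxC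
        have e : s * x * s⁻¹ = y := by
          rw [hinv]
          exact ((hs.mul hx).mul hs).inj hyr
        rw [e]
        exact hy
    have : Finite ↥(grpC W c) := inferInstance
    have e := Subgroup.eq_of_le_of_card_ge hle
      (le_of_eq (Subgroup.card_map_of_injective (MulAut.conj s).injective).symm)
    exact mem_normalizer_iff.2 fun x => ⟨fun hx => e.le ⟨x, hx, rfl⟩, fun hx => by
      obtain ⟨y, hy, hxy⟩ := e.ge hx
      have : y = x := (MulAut.conj s).injective hxy
      exact this ▸ hy⟩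
  have htop : permsOf N = ⊤ := by
    have hall : ∀ n, n < [pA, pB, pS].length → ∃ σ ∈ permsOf N, lstP σ = [pA, pB, pS].getD n [] := by
      intro n hn
      simp only [List.length_cons, List.length_nil] at hn
      interval_cases n
      · exact pA_pB_mem W hc le_normalizer 0 (by norm_num)
      · exact pA_pB_mem W hc le_normalizer 1 (by norm_num)
      · exact mem_permsOf_of_monB W hsN hs images.2.1 (by decide)
    obtain ⟨σ, hσ, e⟩ := fnP_cmpW hall cycWord images.2.2.2
    obtain ⟨τ, hτ, e'⟩ := hall 2 (by norm_num)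
    rw [images.2.2.1] at e
    have eσ : σ = finRotate 6 := Equiv.ext (congrFun (lstP_inj (e.trans (by decide))))
    have eτ : τ = Equiv.swap 0 ((finRotate 6) 0) := Equiv.ext (congrFun (lstP_inj (e'.trans (by decide))))
    rw [eq_top_iff, ← Equiv.Perm.closure_cycle_adjacent_swap (σ := finRotate 6) isCycle_finRotate
      support_finRotate 0, closure_le]
    rintro x (rfl | rfl)
    · exact eσ ▸ hσ
    · exact eτ ▸ hτ
  obtain ⟨h, hh, hσ⟩ : Equiv.ofBijective p hg.bijective ∈ permsOf N := htop ▸ mem_top _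
  obtain ⟨q, hq, hpq, -⟩ := hσ.inv
  have hd : g * h⁻¹ ∈ diagSub F := by
    have := hg.mul hq
    rwa [show p ∘ q = id from hpq] at this
  have := N.mul_mem (le_normalizer (diag_le_grpC W c hd)) hh
  rwa [inv_mul_cancel_right] at this

include W in
/-- Monomial elements of every pattern exist. -/
theorem exists_mono [Fintype F] (σ : Equiv.Perm (Fin 6)) : ∃ g : Cfsg.SU 6 F 2, IsMonG σ g := by
  set N : Subgroup (Cfsg.SU 6 F 2) := ⊤
  obtain ⟨s, hs⟩ := rep_swap W
  have hall : ∀ n, n < [pA, pB, pS].length → ∃ σ ∈ permsOf N, lstP σ = [pA, pB, pS].getD n [] := by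
    intro n hn
    simp only [List.length_cons, List.length_nil] at hn
    interval_cases n
    · exact pA_pB_mem W (c := 0) (by norm_num) le_top 0 (by norm_num)
    · exact pA_pB_mem W (c := 0) (by norm_num) le_top 1 (by norm_num)
    · exact mem_permsOf_of_monB W (mem_top s) hs images.2.1 (by decide)
  obtain ⟨ρ, hρ, e⟩ := fnP_cmpW hall cycWord images.2.2.2
  obtain ⟨τ, hτ, e'⟩ := hall 2 (by norm_num)
  rw [images.2.2.1] at e
  have eσ : ρ = finRotate 6 := Equiv.ext (congrFun (lstP_inj (e.trans (by decide))))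
  have eτ : τ = Equiv.swap 0 ((finRotate 6) 0) := Equiv.ext (congrFun (lstP_inj (e'.trans (by decide))))
  have htop : permsOf N = ⊤ := by
    rw [eq_top_iff, ← Equiv.Perm.closure_cycle_adjacent_swap (σ := finRotate 6) isCycle_finRotate
      support_finRotate 0, closure_le]
    rintro x (rfl | rfl)
    · exact eσ ▸ hρ
    · exact eτ ▸ hτ
  obtain ⟨g, -, hg⟩ : σ ∈ permsOf N := htop ▸ mem_top _
  exact ⟨g, hg⟩

end CfsgLib.UnitarySix
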