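import Cfsg.Agent.Lib.UnitarySix.Sylow

/-!
# Triple covers of the quotient of the first group with diagonal preimage

`Sit W K` records a homomorphism from `K` onto the quotient of the first group by its scalars whose
kernel is the centre of order three and under which the diagonal elements are the preimage of the
diagonal image.
-/

set_option autoImplicit false
set_option maxRecDepth 100000

namespace CfsgLib.UnitarySix

open CfsgLib.UnitarySixData Subgroup

variable {F : Type*} [Field F] (W : Four F)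

/-- The scalars in the first group. -/
def zSub : Subgroup ↥(grpC W 0) := (scalSub F).subgroupOf (grpC W 0)

instance zSub_normal : (zSub W).Normal :=
  ⟨fun z hz g => by
    rw [zSub, mem_subgroupOf] at hz ⊢
    show g.1 * z.1 * g.1⁻¹ ∈ scalSub F
    rwa [← scal_comm hz, mul_inv_cancel_right]⟩

/-- The quotient of the first group. -/
abbrev Q0 := ↥(grpC W 0) ⧸ zSub W

/-- The projection. -/
abbrev pr : ↥(grpC W 0) →* Q0 W := QuotientGroup.mk' (zSub W)

/-- The image of the diagonal elements. -/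
def UQ : Subgroup (Q0 W) := ((diagSub F).subgroupOf (grpC W 0)).map (pr W)

theorem pr_eq_one {g : ↥(grpC W 0)} : pr W g = 1 ↔ g.1 ∈ scalSub F := QuotientGroup.eq_one_iff g

theorem pr_mem_UQ {g : ↥(grpC W 0)} : pr W g ∈ UQ W ↔ g.1 ∈ diagSub F := by
  constructor
  · rintro ⟨t, ht, e⟩
    have h : t⁻¹ * g ∈ zSub W := QuotientGroup.eq.1 e
    have := (diagSub F).mul_mem (mem_subgroupOf.1 ht) (scal_le_diag (mem_subgroupOf.1 h))
    simpa using this
  · exact fun h => ⟨g, mem_subgroupOf.2 h, rfl⟩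

theorem card_UQ [Fintype F] (hF : Fintype.card F = 4) : Nat.card ↥(UQ W) = 81 := by
  let f : ↥(diagSub F) →* Q0 W := (pr W).comp (Subgroup.inclusion (diag_le_grpC W 0))
  have hr : f.range = UQ W := by
    ext y
    constructor
    · rintro ⟨t, rfl⟩
      exact (pr_mem_UQ W).2 t.2
    · rintro ⟨t, ht, rfl⟩
      exact ⟨⟨t.1, mem_subgroupOf.1 ht⟩, rfl⟩
  have hk : f.ker = (scalSub F).subgroupOf (diagSub F) := by
    ext t
    rw [MonoidHom.mem_ker, mem_subgroupOf]
    exact pr_eq_one W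
  have h := f.ker.index_mul_card
  rw [card_diag W hF, Subgroup.index_ker, hr, hk,
    Nat.card_congr (Subgroup.subgroupOfEquivOfLe scal_le_diag).toEquiv, card_scal W hF] at h
  omega

/-- An element of the first group with a code of its list. -/
theorem exists_base {k : ℕ} (hk : k < 3) : ∃ g : ↥(grpC W 0), Rep W g.1 (kg 0 k) := by
  obtain ⟨g, hg⟩ := rep_kg W (show 0 < 3 by norm_num) hk
  exact ⟨⟨g, kg_mem W (by norm_num) hk hg⟩, hg⟩

theorem exists_baseD {k : ℕ} (hk : k < 5) :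
    ∃ g : ↥(grpC W 0), Rep W g.1 (dCodes.getD k 0) ∧ g.1 ∈ diagSub F := by
  obtain ⟨g, hg, hd⟩ := rep_d W hk
  exact ⟨⟨g, Subgroup.subset_closure ⟨_, dCode_mem 0 hk, hg⟩⟩, hg, hd⟩

/-! ### The abelian preimage -/

variable {W}

theorem comm_of_swap {G : Type*} [Group G] {n a b z z' : G} (hz : z ∈ Subgroup.center G)
    (hz' : z' ∈ Subgroup.center G) (hc : a * b * a⁻¹ * b⁻¹ ∈ Subgroup.center G)
    (h3 : (a * b * a⁻¹ * b⁻¹) ^ 3 = 1) (ha : n * a * n⁻¹ = b * z) (hb : n * b * n⁻¹ = a * z') :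
    a * b = b * a := by
  set c := a * b * a⁻¹ * b⁻¹ with hc'
  have h1 : n * c * n⁻¹ = c := by
    rw [Subgroup.mem_center_iff.1 hc n, mul_inv_cancel_right]
  have h2 : n * c * n⁻¹ = (n * a * n⁻¹) * (n * b * n⁻¹) * (n * a * n⁻¹)⁻¹ * (n * b * n⁻¹)⁻¹ := by
    rw [hc']
    group
  have ez := fun y => Subgroup.mem_center_iff.1 hz y
  have ez' := fun y => Subgroup.mem_center_iff.1 hz' y
  have h4 : b * z * (a * z') * (b * z)⁻¹ * (a * z')⁻¹ = b * a * b⁻¹ * a⁻¹ := by
    have e1 : b * z * (a * z') * (b * z)⁻¹ = b * (a * z') * b⁻¹ := by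
      rw [mul_inv_rev, mul_assoc b z, ← ez (a * z')]
      group
    have e2 : b * (a * z') * b⁻¹ = b * a * b⁻¹ * z' := by
      rw [← mul_assoc b a, mul_assoc (b * a) z', ← ez' b⁻¹, ← mul_assoc]
    rw [e1, e2, mul_inv_rev]
    group
  rw [h1, ha, hb, h4, show b * a * b⁻¹ * a⁻¹ = c⁻¹ by rw [hc']; group] at h2
  have h2' : c ^ 2 = 1 := by rw [sq]; nth_rewrite 2 [h2]; exact mul_inv_cancel c
  have : c = 1 := by
    have := h3
    rwa [show (3 : ℕ) = 2 + 1 from rfl, pow_add, h2', one_mul, pow_one] at this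
  calc a * b = c * (b * a) := by rw [hc']; group
    _ = b * a := by rw [this, one_mul]

theorem preimage_spec [Fintype F] (hF : Fintype.card F = 4) {K : Subgroup (Cfsg.SU 6 F 2)}
    {φ : ↥K →* Q0 W} (hs : Function.Surjective φ) (hk : φ.ker = Subgroup.center ↥K)
    (h3 : Nat.card ↥(Subgroup.center ↥K) = 3) :
    Nat.card ↥((UQ W).comap φ) = 243 ∧ ∀ a ∈ (UQ W).comap φ, ∀ b ∈ (UQ W).comap φ, a * b = b * a := by
  constructor
  · let f : ↥((UQ W).comap φ) →* ↥(UQ W) := φ.subgroupComap (UQ W)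
    have hsurj : Function.Surjective f := fun y => by
      obtain ⟨k, hk'⟩ := hs y.1
      exact ⟨⟨k, mem_comap.2 (hk'.symm ▸ y.2)⟩, Subtype.ext hk'⟩
    have hle : Subgroup.center ↥K ≤ (UQ W).comap φ := fun z hz => by
      rw [← hk, MonoidHom.mem_ker] at hz
      rw [mem_comap, hz]
      exact one_mem _
    have hker : f.ker = (Subgroup.center ↥K).subgroupOf ((UQ W).comap φ) := by
      ext t
      rw [MonoidHom.mem_ker, mem_subgroupOf, ← hk, MonoidHom.mem_ker]
      exact Subtype.ext_iff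
    have h := f.ker.index_mul_card
    rw [Subgroup.index_ker, MonoidHom.range_eq_top.2 hsurj, Subgroup.card_top, card_UQ W hF, hker,
      Nat.card_congr (Subgroup.subgroupOfEquivOfLe hle).toEquiv, h3] at h
    omega
  have hd : ∀ i : Fin 5, ∃ g : ↥(grpC W 0), Rep W g.1 (dCodes.getD i.val 0) ∧ g.1 ∈ diagSub F :=
    fun i => exists_baseD W i.isLt
  choose d hdr hdd using hd
  choose l hl using fun i : Fin 5 => hs (pr W (d i))
  have hcen : ∀ x : ↥K, φ x = 1 → x ∈ Subgroup.center ↥K := fun x hx => by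
    rw [← hk, MonoidHom.mem_ker]; exact hx
  have hpair : ∀ i j : Fin 5, l i * l j = l j * l i := by
    have key : ∀ i j : Fin 5, i < j → l i * l j = l j * l i := by
      intro i j hij
      have h := pair_checks
      simp only [pairB, Bool.and_eq_true, List.all_eq_true, List.any_eq_true, List.mem_range,
        Nat.beq_eq, Nat.blt_eq] at h
      obtain ⟨e, he, hei, hej⟩ := h.1 j.val j.isLt i.val (Fin.lt_def.1 hij)
      obtain ⟨⟨hw, h1⟩, h2⟩ := h.2 e he
      rw [hei, hej] at h1 h2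
      obtain ⟨m, hmK, hm⟩ := rep_word W (H := grpC W 0) (gs := [kg 0 0, kg 0 1]) (P := fun n => n < 2)
        (fun n hn => by
          obtain ⟨g, hg⟩ := exists_base W (k := n) (by omega)
          refine ⟨g.1, g.2, ?_⟩
          interval_cases n <;> exact hg) e.2.2 hw
      obtain ⟨n, hn⟩ := hs (pr W ⟨m, hmK⟩)
      have conj_eq : ∀ {p q : Fin 5}, mulC (wordC [kg 0 0, kg 0 1] e.2.2) (dCodes.getD p.val 0) =
          mulC (dCodes.getD q.val 0) (wordC [kg 0 0, kg 0 1] e.2.2) →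
          (l q)⁻¹ * (n * l p * n⁻¹) ∈ Subgroup.center ↥K := by
        intro p q hpq
        refine hcen _ ?_
        have em : (⟨m, hmK⟩ : ↥(grpC W 0)) * d p = d q * ⟨m, hmK⟩ :=
          Subtype.ext ((hm.mul (hdr p)).inj (hpq ▸ (hdr q).mul hm))
        rw [map_mul, map_mul, map_mul, map_inv, map_inv, hl, hl, hn, ← map_mul, em, map_mul,
          mul_inv_cancel_right, inv_mul_cancel]
      have hcomm : l i * l j * (l i)⁻¹ * (l j)⁻¹ ∈ Subgroup.center ↥K := by
        refine hcen _ ?_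
        have ed : d i * d j = d j * d i := Subtype.ext (diag_comm (hdd i) (hdd j))
        rw [map_mul, map_mul, map_mul, map_inv, map_inv, hl, hl, ← map_mul, ed, map_mul,
          mul_inv_cancel_right, mul_inv_cancel]
      refine comm_of_swap (conj_eq (p := i) (q := j) h1) (conj_eq (p := j) (q := i) h2) hcomm ?_
        (mul_inv_cancel_left _ _).symm (mul_inv_cancel_left _ _).symm
      have := pow_card_eq_one' (x := (⟨_, hcomm⟩ : ↥(Subgroup.center ↥K)))
      rw [h3] at this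
      exact congrArg Subtype.val this
    intro i j
    rcases lt_trichotomy i j with h | h | h
    exacts [key i j h, h ▸ rfl, (key j i h).symm]
  set C : Subgroup ↥K := Subgroup.closure (Set.range l ∪ ↑(Subgroup.center ↥K)) with hC
  have hCc : IsMulCommutative ↥C := Subgroup.isMulCommutative_closure (by
    rintro x (⟨i, rfl⟩ | hx) y (⟨j, rfl⟩ | hy)
    · exact hpair i j
    · exact Subgroup.mem_center_iff.1 hy _
    · exact (Subgroup.mem_center_iff.1 hx _).symm
    · exact Subgroup.mem_center_iff.1 hy _)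
  have hdC : diagSub F ≤ ((C.map φ).comap (pr W)).map (grpC W 0).subtype := by
    refine (diag_le_grp W (L := dCodes) fun k hk5 => ?_).trans ((Subgroup.closure_le _).2 ?_)
    · rw [List.getD_eq_getElem _ _ (by rw [data_lengths.1]; exact hk5)]
      exact List.getElem_mem _
    rintro x ⟨D, hD, hR⟩
    obtain ⟨k, hk5, rfl⟩ := List.getElem_of_mem hD
    rw [← List.getD_eq_getElem _ 0 hk5] at hR
    rw [data_lengths.1] at hk5
    exact ⟨d ⟨k, hk5⟩, ⟨l ⟨k, hk5⟩, Subgroup.subset_closure (Or.inl ⟨_, rfl⟩), hl _⟩,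
      (hdr ⟨k, hk5⟩).inj hR⟩
  have hle : (UQ W).comap φ ≤ C := by
    intro k hk'
    obtain ⟨t, ht, e⟩ := hk'
    obtain ⟨t', ⟨c, hc, ec⟩, e'⟩ := hdC (mem_subgroupOf.1 ht)
    obtain rfl : t' = t := Subtype.ext e'
    have : c⁻¹ * k ∈ Subgroup.center ↥K := hcen _ (by rw [map_mul, map_inv, ec, e, inv_mul_cancel])
    have := C.mul_mem hc (Subgroup.subset_closure (Or.inr this))
    rwa [mul_inv_cancel_left] at this
  intro a ha b hb
  exact congrArg Subtype.val (hCc.is_comm.comm (⟨a, hle ha⟩ : ↥C) ⟨b, hle hb⟩)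

/-! ### Situations -/

variable (W)

/-- A triple cover with diagonal preimage. -/
structure Sit (K : Subgroup (Cfsg.SU 6 F 2)) where
  /-- The map onto the quotient. -/
  φ : ↥K →* Q0 W
  surj : Function.Surjective φ
  ker : φ.ker = Subgroup.center ↥K
  three : Nat.card ↥(Subgroup.center ↥K) = 3
  diag_le : diagSub F ≤ K
  pre : ∀ k : ↥K, k.1 ∈ diagSub F ↔ φ k ∈ UQ W

variable {W}

namespace Sit

variable {K : Subgroup (Cfsg.SU 6 F 2)} (S : Sit W K)

/-- An element maps to the image of an element of the first group. -/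
def Lift (g : Cfsg.SU 6 F 2) (g₀ : ↥(grpC W 0)) : Prop := ∃ h : g ∈ K, S.φ ⟨g, h⟩ = pr W g₀

theorem exists_lift (g₀ : ↥(grpC W 0)) : ∃ g, S.Lift g g₀ := by
  obtain ⟨k, hk⟩ := S.surj (pr W g₀)
  exact ⟨k.1, k.2, hk⟩

variable {S}

theorem Lift.mul {g h : Cfsg.SU 6 F 2} {g₀ h₀ : ↥(grpC W 0)} (hg : S.Lift g g₀) (hh : S.Lift h h₀) :
    S.Lift (g * h) (g₀ * h₀) := by
  obtain ⟨hgK, eg⟩ := hg
  obtain ⟨hhK, eh⟩ := hh
  refine ⟨K.mul_mem hgK hhK, ?_⟩
  rw [map_mul, ← eg, ← eh, ← map_mul]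
  rfl

theorem Lift.one : S.Lift 1 1 := ⟨K.one_mem, by rw [map_one, ← map_one S.φ]; rfl⟩

theorem Lift.inv {g : Cfsg.SU 6 F 2} {g₀ : ↥(grpC W 0)} (hg : S.Lift g g₀) :
    S.Lift g⁻¹ g₀⁻¹ := by
  obtain ⟨hgK, eg⟩ := hg
  refine ⟨K.inv_mem hgK, ?_⟩
  rw [map_inv, ← eg, ← map_inv]
  rfl

theorem Lift.mem {g : Cfsg.SU 6 F 2} {g₀ : ↥(grpC W 0)} (hg : S.Lift g g₀) : g ∈ K := hg.1

theorem Lift.mem_diag_iff {g : Cfsg.SU 6 F 2} {g₀ : ↥(grpC W 0)} (hg : S.Lift g g₀) :
    g ∈ diagSub F ↔ g₀.1 ∈ diagSub F := by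
  obtain ⟨hgK, eg⟩ := hg
  rw [← pr_mem_UQ W, ← eg, ← S.pre]

theorem Lift.mem_center {g : Cfsg.SU 6 F 2} {g₀ : ↥(grpC W 0)} (hg : S.Lift g g₀)
    (h₀ : g₀.1 ∈ scalSub F) : (⟨g, hg.1⟩ : ↥K) ∈ Subgroup.center ↥K := by
  obtain ⟨hgK, eg⟩ := hg
  rw [← S.ker, MonoidHom.mem_ker, eg]
  exact (pr_eq_one W).2 h₀

theorem center_le_diag (S : Sit W K) {z : ↥K} (hz : z ∈ Subgroup.center ↥K) : z.1 ∈ diagSub F := by
  rw [S.pre]
  rw [← S.ker, MonoidHom.mem_ker] at hz
  rw [hz]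
  exact one_mem _

theorem Lift.monomial [Finite F] {g : Cfsg.SU 6 F 2} {g₀ : ↥(grpC W 0)} (hg : S.Lift g g₀)
    {p : Fin 6 → Fin 6} (hp : IsMonG p g₀.1) : ∃ q, IsMonG q g := by
  refine exists_isMonG W fun t ht => ?_
  obtain ⟨u, hu, e⟩ := (S.pre ⟨t, S.diag_le ht⟩).1 ht
  have hl := (hg.mul (show S.Lift t u from ⟨S.diag_le ht, e.symm⟩)).mul hg.inv
  rw [hl.mem_diag_iff]
  exact hp.conj_diag (mem_subgroupOf.1 hu)

theorem Lift.word {a b : Cfsg.SU 6 F 2} {a₀ b₀ : ↥(grpC W 0)} (ha : S.Lift a a₀) (hb : S.Lift b b₀)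
    {A B A' B' : ℕ} (hA : Rep W a A) (hB : Rep W b B) (hA' : Rep W a₀.1 A') (hB' : Rep W b₀.1 B') :
    ∀ w : List ℕ, (∀ k ∈ w, k < 2) → ∃ g g₀, S.Lift g g₀ ∧ Rep W g (wordC [A, B] w) ∧
      Rep W g₀.1 (wordC [A', B'] w) ∧ ∀ p q : Fin 6 → Fin 6, IsMonG p a → IsMonG q b →
        ∃ r, IsMonG r g ∧ lstP r = cmpW [lstP p, lstP q] w
  | [], _ => ⟨1, 1, Lift.one, Rep.one, Rep.one, fun p q _ _ => ⟨id, IsMonG.one, by rw [lstP_id]; rfl⟩⟩
  | k :: w, h => by
    obtain ⟨g, g₀, h1, h2, h3, h4⟩ := Lift.word ha hb hA hB hA' hB' w fun m hm => h m (List.mem_cons_of_mem _ hm)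
    have hk := h k List.mem_cons_self
    interval_cases k
    · exact ⟨a * g, a₀ * g₀, ha.mul h1, hA.mul h2, hA'.mul h3, fun p q hp hq => by
        obtain ⟨r, hr, e⟩ := h4 p q hp hq
        exact ⟨p ∘ r, hp.mul hr, by rw [lstP_comp, e]; rfl⟩⟩
    · exact ⟨b * g, b₀ * g₀, hb.mul h1, hB.mul h2, hB'.mul h3, fun p q hp hq => by
        obtain ⟨r, hr, e⟩ := h4 p q hp hq
        exact ⟨q ∘ r, hq.mul hr, by rw [lstP_comp, e]; rfl⟩⟩

/-- Transporting by an element normalising the diagonal subgroup. -/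
noncomputable def conj (S : Sit W K) (h : Cfsg.SU 6 F 2)
    (hh : ∀ x, h * x * h⁻¹ ∈ diagSub F ↔ x ∈ diagSub F) : Sit W (K.map (MulAut.conj h).toMonoidHom) :=
  let e := Subgroup.equivMapOfInjective K (MulAut.conj h).toMonoidHom (MulAut.conj h).injective
  { φ := S.φ.comp e.symm.toMonoidHom
    surj := S.surj.comp e.symm.surjective
    ker := by
      ext x
      rw [MonoidHom.mem_ker]
      show S.φ (e.symm x) = 1 ↔ _
      rw [← MonoidHom.mem_ker, S.ker, Subgroup.mem_center_iff, Subgroup.mem_center_iff]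
      constructor
      · intro hc y
        have := congrArg e (hc (e.symm y))
        rwa [map_mul, map_mul, e.apply_symm_apply, e.apply_symm_apply] at this
      · intro hc y
        have := congrArg e.symm (hc (e y))
        rwa [map_mul, map_mul, e.symm_apply_apply] at this
    three := by rw [← S.three]; exact Nat.card_congr (Subgroup.centerCongr e).symm.toEquiv
    diag_le := fun t ht => by
      refine ⟨h⁻¹ * t * h, S.diag_le ((hh _).1 ?_), ?_⟩
      · rwa [show h * (h⁻¹ * t * h) * h⁻¹ = t by group]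
      · show h * (h⁻¹ * t * h) * h⁻¹ = t
        group
    pre := fun k => by
      obtain ⟨k', rfl⟩ := e.surjective k
      show h * k'.1 * h⁻¹ ∈ diagSub F ↔ S.φ (e.symm (e k')) ∈ UQ W
      rw [e.symm_apply_apply, hh, S.pre] }

theorem Lift.conj {g : Cfsg.SU 6 F 2} {g₀ : ↥(grpC W 0)} (hg : S.Lift g g₀) {h : Cfsg.SU 6 F 2}
    (hh : ∀ x, h * x * h⁻¹ ∈ diagSub F ↔ x ∈ diagSub F) : (S.conj h hh).Lift (h * g * h⁻¹) g₀ := by
  obtain ⟨hgK, eg⟩ := hg
  refine ⟨⟨g, hgK, rfl⟩, ?_⟩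
  rw [← eg]
  show S.φ _ = S.φ _
  refine congrArg S.φ ((MulEquiv.symm_apply_eq _).2 ?_)
  rfl

end Sit

theorem IsMonG.conj_iff {p : Fin 6 → Fin 6} {h : Cfsg.SU 6 F 2} (hp : IsMonG p h) (x : Cfsg.SU 6 F 2) :
    h * x * h⁻¹ ∈ diagSub F ↔ x ∈ diagSub F := by
  refine ⟨fun hx => ?_, hp.conj_diag⟩
  obtain ⟨q, hq, -, -⟩ := hp.inv
  have := hq.conj_diag hx
  rwa [show h⁻¹ * (h * x * h⁻¹) * h⁻¹⁻¹ = x by group] at this

/-- A triple cover is conjugate to one with diagonal preimage. -/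
theorem exists_sit [Fintype F] (hF : Fintype.card F = 4) {m : ℕ}
    (hm : Nat.card ↥(Cfsg.SU 6 F 2) = 2187 * m) (hm3 : ¬ 3 ∣ m) {K : Subgroup (Cfsg.SU 6 F 2)}
    {φ : ↥K →* Q0 W} (hs : Function.Surjective φ) (hk : φ.ker = Subgroup.center ↥K)
    (h3 : Nat.card ↥(Subgroup.center ↥K) = 3) :
    ∃ h, Nonempty (Sit W (K.map (MulAut.conj h).toMonoidHom)) := by
  obtain ⟨hc, hcomm⟩ := preimage_spec hF hs hk h3
  obtain ⟨h, -, hh⟩ := exists_conj_diag W hF (H := ⊤) (A := ((UQ W).comap φ).map K.subtype) le_top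
    (hasThree_of_ab W (c := 0) (by norm_num) le_top) (by rw [Subgroup.card_top, hm]) hm3 le_top (by
      rintro _ ⟨a, ha, rfl⟩ _ ⟨b, hb, rfl⟩
      exact congrArg Subtype.val (hcomm a ha b hb))
    (by rw [Subgroup.card_map_of_injective K.subtype_injective, hc])
  refine ⟨h, ⟨?_⟩⟩
  let e := Subgroup.equivMapOfInjective K (MulAut.conj h).toMonoidHom (MulAut.conj h).injective
  refine
    { φ := φ.comp e.symm.toMonoidHom
      surj := hs.comp e.symm.surjective
      ker := ?_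
      three := by rw [← h3]; exact Nat.card_congr (Subgroup.centerCongr e).symm.toEquiv
      diag_le := ?_
      pre := ?_ }
  · ext x
    rw [MonoidHom.mem_ker]
    show φ (e.symm x) = 1 ↔ _
    rw [← MonoidHom.mem_ker, hk, Subgroup.mem_center_iff, Subgroup.mem_center_iff]
    constructor
    · intro hc y
      have := congrArg e (hc (e.symm y))
      rwa [map_mul, map_mul, e.apply_symm_apply, e.apply_symm_apply] at this
    · intro hc y
      have := congrArg e.symm (hc (e y))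
      rwa [map_mul, map_mul, e.symm_apply_apply] at this
  · rw [← hh]
    exact Subgroup.map_mono (Subgroup.map_subtype_le _)
  · intro k
    obtain ⟨k', rfl⟩ := e.surjective k
    show h * k'.1 * h⁻¹ ∈ diagSub F ↔ φ (e.symm (e k')) ∈ UQ W
    rw [e.symm_apply_apply, ← hh]
    constructor
    · rintro ⟨_, ⟨y, hy, rfl⟩, e'⟩
      have : y = k' := Subtype.ext ((MulAut.conj h).injective e')
      exact this ▸ hy
    · exact fun hy => ⟨k'.1, ⟨k', hy, rfl⟩, rfl⟩

end CfsgLib.UnitarySix
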