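import Cfsg.Agent.Lib.UnitarySix.Mono

/-!
# Monomial elements as lists
-/

set_option autoImplicit false

namespace CfsgLib.UnitarySix

open Matrix

/-- All lists of nonzero entries of a length. -/
def allV : ℕ → List (List ℕ)
  | 0 => [[]]
  | n + 1 => [1, 2, 3].flatMap fun c => (allV n).map (c :: ·)

/-- The product of entries. -/
def prodE : List ℕ → ℕ
  | [] => 1
  | c :: L => mt c (prodE L)

/-- The entry lists of determinant one. -/
def vals : List (List ℕ) := (allV 6).filter fun v => (prodE v).beq 1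

/-- All lists of images. -/
def perms : List (List ℕ) := (List.range 6).permutations'

/-- The identity list of images. -/
def idP : List ℕ := [0, 1, 2, 3, 4, 5]

/-- The composite. -/
def cmp (p q : List ℕ) : List ℕ := q.map fun j => p.getD j 9

/-- The list of a function. -/
def lstP (p : Fin 6 → Fin 6) : List ℕ := List.ofFn fun j => (p j).val

/-- The function of a list. -/
def fnP (q : List ℕ) (j : Fin 6) : Fin 6 := ⟨q.getD j.val 0 % 6, Nat.mod_lt _ (by norm_num)⟩

/-- The code vanishes outside the images. -/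
def monB (q : List ℕ) (C : ℕ) : Bool :=
  (List.range 36).all fun e => (q.getD (e % 6) 9).beq (e / 6) || (ent C e).beq 0

theorem mem_allV : ∀ {v : List ℕ}, (∀ c ∈ v, c < 4 ∧ c ≠ 0) → v ∈ allV v.length
  | [], _ => List.mem_singleton.2 rfl
  | c :: v, h => by
    have hc := h c List.mem_cons_self
    refine List.mem_flatMap.2 ⟨c, ?_, List.mem_map.2 ⟨v, mem_allV fun d hd =>
      h d (List.mem_cons_of_mem _ hd), rfl⟩⟩
    obtain ⟨h4, h0⟩ := hc
    interval_cases c <;> simp at h0 ⊢

theorem lstP_getD (p : Fin 6 → Fin 6) (j : Fin 6) (d : ℕ) : (lstP p).getD j.val d = (p j).val := by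
  rw [lstP, List.getD_eq_getElem _ _ (by rw [List.length_ofFn]; exact j.isLt), List.getElem_ofFn]

theorem lstP_inj {p q : Fin 6 → Fin 6} (h : lstP p = lstP q) : p = q :=
  funext fun j => Fin.ext (congrFun (List.ofFn_injective h) j)

theorem lstP_id : lstP id = idP := by decide

theorem lstP_comp (p q : Fin 6 → Fin 6) : lstP (p ∘ q) = cmp (lstP p) (lstP q) := by
  have : cmp (lstP p) (lstP q) = List.ofFn fun j => (lstP p).getD (q j).val 9 := by
    simp only [cmp, lstP, List.map_ofFn, Function.comp_def]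
  rw [this]
  simp only [lstP_getD]
  rfl

theorem lstP_mem {p : Fin 6 → Fin 6} (hp : Function.Bijective p) : lstP p ∈ perms := by
  rw [perms, List.mem_permutations']
  refine (List.perm_ext_iff_of_nodup ?_ List.nodup_range).2 fun a => ?_
  · exact List.nodup_ofFn.2 (Fin.val_injective.comp hp.1)
  · rw [List.mem_range, lstP, List.mem_ofFn]
    refine ⟨fun ⟨j, e⟩ => e ▸ (p j).isLt, fun ha => ?_⟩
    obtain ⟨j, e⟩ := hp.2 ⟨a, ha⟩
    exact ⟨j, congrArg Fin.val e⟩

theorem fnP_lstP (p : Fin 6 → Fin 6) : fnP (lstP p) = p :=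
  funext fun j => Fin.ext (by simp only [fnP, lstP_getD]; exact Nat.mod_eq_of_lt (p j).isLt)

variable {F : Type*} [Field F] {W : Four F}

theorem Rep.isMonG {g : Cfsg.SU 6 F 2} {C : ℕ} (hg : Rep W g C) {q : List ℕ} (h : monB q C = true) :
    IsMonG (fnP q) g := by
  intro i j hij
  simp only [monB, List.all_eq_true, List.mem_range, Bool.or_eq_true, Nat.beq_eq] at h
  rw [hg.2]
  show W.el (ent C (6 * i.val + j.val)) = 0
  rcases h (6 * i.val + j.val) (by omega) with e | e
  · refine absurd (Fin.ext ?_) hij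
    rw [show (6 * i.val + j.val) % 6 = j.val by omega, show (6 * i.val + j.val) / 6 = i.val by omega] at e
    show i.val = q.getD j.val 0 % 6
    have hlt : j.val < q.length := by
      by_contra hc
      rw [List.getD_eq_default _ _ (not_lt.1 hc)] at e
      omega
    rw [List.getD_eq_getElem _ _ hlt] at e ⊢
    omega
  · rw [e]; rfl

theorem el_prodE (W : Four F) : ∀ {v : List ℕ}, (∀ c ∈ v, c < 4) →
    prodE v < 4 ∧ W.el (prodE v) = (v.map W.el).prod
  | [], _ => ⟨by decide, rfl⟩
  | c :: v, h => by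
    obtain ⟨h1, h2⟩ := el_prodE W (v := v) fun d hd => h d (List.mem_cons_of_mem _ hd)
    refine ⟨mt_lt _ _, ?_⟩
    rw [prodE, W.el_mt (h c List.mem_cons_self) h1, h2, List.map_cons, List.prod_cons]

theorem IsMonG.exists_code (W : Four F) {p : Fin 6 → Fin 6} {g : Cfsg.SU 6 F 2} (hg : IsMonG p g) :
    ∃ v ∈ vals, Rep W g (monC (lstP p) v) := by
  choose c hc4 hc using fun j => W.exists_el (g.1.1 (p j) j)
  have hv : List.ofFn c ∈ allV 6 := by
    have := mem_allV (v := List.ofFn c) fun x hx => by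
      obtain ⟨j, rfl⟩ := List.mem_ofFn.1 hx
      exact ⟨hc4 j, fun e => hg.ne j (by rw [← hc j, e]; rfl)⟩
    rwa [List.length_ofFn] at this
  have hprod : ∏ j, g.1.1 (p j) j = 1 := by
    have hb := hg.bijective
    have e : g.1.1.submatrix (Equiv.ofBijective p hb) id = Matrix.diagonal fun j => g.1.1 (p j) j := by
      ext a b
      rcases eq_or_ne a b with rfl | hab
      · rw [Matrix.diagonal_apply_eq]; rfl
      · rw [Matrix.diagonal_apply_ne _ hab]
        exact hg _ _ fun h => hab (hb.1 h)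
    have h2 := congrArg Matrix.det e
    rw [Matrix.det_permute, det_val, mul_one, Matrix.det_diagonal] at h2
    rw [← h2]
    rcases Int.units_eq_one_or (Equiv.Perm.sign (Equiv.ofBijective p hb)) with h | h <;> rw [h]
    · simp
    · simp only [Units.val_neg, Units.val_one, Int.cast_neg, Int.cast_one]
      linear_combination (-1 : F) * W.two
  have hlt : ∀ x ∈ List.ofFn c, x < 4 := fun x hx => by
    obtain ⟨j, rfl⟩ := List.mem_ofFn.1 hx
    exact hc4 j
  refine ⟨List.ofFn c, List.mem_filter.2 ⟨hv, ?_⟩, can_monC _ _, ?_⟩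
  · rw [Nat.beq_eq]
    obtain ⟨h1, h2⟩ := el_prodE W hlt
    refine W.el_inj h1 (by norm_num) ?_
    rw [h2, List.map_ofFn, List.prod_ofFn, Four.el_one, ← hprod]
    exact Finset.prod_congr rfl fun j _ => hc j
  · ext i j
    rw [monC, W.dec_code (fun e => by split_ifs <;> omega)]
    simp only [show (6 * i.val + j.val) / 6 = i.val by omega, show (6 * i.val + j.val) % 6 = j.val by omega,
      lstP_getD]
    rw [List.getD_eq_getElem _ _ (by rw [List.length_ofFn]; exact j.isLt), List.getElem_ofFn,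
      Nat.mod_eq_of_lt (hc4 j)]
    split_ifs with h
    · rw [← Fin.ext h, hc]
    · rw [hg i j (fun e => h (by rw [e]))]; rfl

theorem diag_code (W : Four F) {g : Cfsg.SU 6 F 2} (hg : g ∈ diagSub F) :
    ∃ v ∈ vals, Rep W g (monC idP v) := by
  rw [← lstP_id]
  exact IsMonG.exists_code W hg

theorem Rep.mem_diag {g : Cfsg.SU 6 F 2} {C : ℕ} (hg : Rep W g C) (h : monB idP C = true) :
    g ∈ diagSub F := by
  have := hg.isMonG h
  rwa [← lstP_id, fnP_lstP] at this

theorem scal_code (W : Four F) {g : Cfsg.SU 6 F 2} (hg : g ∈ scalSub F) :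
    ∃ c, c < 4 ∧ c ≠ 0 ∧ Rep W g (scal c) := by
  obtain ⟨x, hx, e⟩ := hg
  obtain ⟨c, hc, rfl⟩ := W.exists_el x
  exact ⟨c, hc, fun e0 => hx (by rw [e0]; rfl), can_scal _, by rw [W.dec_scal hc, e]⟩

/-- The nonzero scalar codes. -/
def scals : List ℕ := [scal 1, scal 2, scal 3]

theorem scal_code_mem (W : Four F) {g : Cfsg.SU 6 F 2} (hg : g ∈ scalSub F) :
    ∃ C ∈ scals, Rep W g C := by
  obtain ⟨c, hc, h0, hR⟩ := scal_code W hg
  refine ⟨scal c, ?_, hR⟩
  interval_cases c <;> simp [scals] at h0 ⊢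

theorem Rep.mem_scal {g : Cfsg.SU 6 F 2} {C : ℕ} (hg : Rep W g C) (h : scals.contains C = true) :
    g ∈ scalSub F := by
  rw [List.contains_iff_mem] at h
  simp only [scals, List.mem_cons, List.not_mem_nil, or_false] at h
  rcases h with rfl | rfl | rfl
  all_goals exact ⟨_, W.el_ne (by norm_num) (by norm_num), hg.2.trans (W.dec_scal (by norm_num))⟩

end CfsgLib.UnitarySix
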