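import Cfsg.Agent.Lib.UnitarySix.Code

/-!
# Diagonal and monomial elements of the unitary group of dimension six over four elements
-/

set_option autoImplicit false

namespace CfsgLib.UnitarySix

open Matrix

variable {F : Type*} [Field F]


/-- `g` is monomial with images `p`. -/
def IsMonG (p : Fin 6 → Fin 6) (g : Cfsg.SU 6 F 2) : Prop := ∀ i j, i ≠ p j → g.1.1 i j = 0

theorem det_val (g : Cfsg.SU 6 F 2) : g.1.1.det = 1 := g.1.2

theorem val_mul (g h : Cfsg.SU 6 F 2) : (g * h).1.1 = g.1.1 * h.1.1 := rfl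

theorem val_one : (1 : ↥(Cfsg.SU 6 F 2)).1.1 = 1 := rfl

theorem su_ext {g h : Cfsg.SU 6 F 2} (e : g.1.1 = h.1.1) : g = h := Subtype.ext (Subtype.ext e)

namespace IsMonG

variable {p q : Fin 6 → Fin 6} {g h : Cfsg.SU 6 F 2}

theorem ne (hg : IsMonG p g) (j : Fin 6) : g.1.1 (p j) j ≠ 0 := fun e => by
  refine one_ne_zero (α := F) ?_
  rw [← det_val g]
  exact det_eq_zero_of_column_eq_zero j fun i => by
    rcases eq_or_ne i (p j) with rfl | hi
    exacts [e, hg i j hi]

theorem eq_iff (hg : IsMonG p g) {i j : Fin 6} : g.1.1 i j ≠ 0 ↔ i = p j :=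
  ⟨fun h => by_contra fun hi => h (hg i j hi), fun h => h ▸ hg.ne j⟩

theorem unique (hg : IsMonG p g) (hq : IsMonG q g) : p = q :=
  funext fun j => hq.eq_iff.1 (hg.ne j)

theorem bijective (hg : IsMonG p g) : Function.Bijective p := by
  refine Finite.surjective_iff_bijective.1 fun i => ?_
  by_contra hc
  push Not at hc
  refine one_ne_zero (α := F) ?_
  rw [← det_val g]
  exact det_eq_zero_of_row_eq_zero i fun j => hg i j (Ne.symm (hc j))

theorem mul (hg : IsMonG p g) (hh : IsMonG q h) : IsMonG (p ∘ q) (g * h) := fun i j hij => by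
  rw [val_mul, Matrix.mul_apply]
  refine Finset.sum_eq_zero fun k _ => ?_
  rcases eq_or_ne k (q j) with rfl | hk
  · rw [hg i (q j) hij, zero_mul]
  · rw [hh k j hk, mul_zero]

theorem mul_apply (hg : IsMonG p g) (hh : IsMonG q h) (j : Fin 6) :
    (g * h).1.1 (p (q j)) j = g.1.1 (p (q j)) (q j) * h.1.1 (q j) j := by
  rw [val_mul, Matrix.mul_apply, Finset.sum_eq_single (q j)]
  · intro k _ hk
    rw [hh k j hk, mul_zero]
  · simp

theorem one : IsMonG id (1 : ↥(Cfsg.SU 6 F 2)) := fun i j h => by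
  rw [val_one, Matrix.one_apply_ne]
  exact h

end IsMonG

/-- The diagonal elements. -/
def diagSub (F : Type*) [Field F] : Subgroup (Cfsg.SU 6 F 2) where
  carrier := {g | IsMonG id g}
  one_mem' := IsMonG.one
  mul_mem' := fun {a b} ha hb => by
    have := IsMonG.mul ha hb
    exact this
  inv_mem' := fun {a} ha => by
    have hT := Four.unitary_of_mem a
    have e : (a⁻¹).1.1 = ((a.1.1).map (· ^ 2))ᵀ := by
      have h2 : a.1.1 * (a⁻¹).1.1 = 1 := by rw [← val_mul, mul_inv_cancel, val_one]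
      rw [← Matrix.one_mul (a⁻¹).1.1, ← hT, Matrix.mul_assoc, h2, Matrix.mul_one]
    intro i j hij
    show (a⁻¹).1.1 i j = 0
    rw [e, Matrix.transpose_apply, Matrix.map_apply, ha j i (Ne.symm hij), zero_pow (by norm_num)]

theorem mem_diagSub {g : Cfsg.SU 6 F 2} : g ∈ diagSub F ↔ IsMonG id g := Iff.rfl

theorem IsMonG.inv {p : Fin 6 → Fin 6} {g : Cfsg.SU 6 F 2} (hg : IsMonG p g) :
    ∃ q : Fin 6 → Fin 6, IsMonG q g⁻¹ ∧ p ∘ q = id ∧ q ∘ p = id := by
  obtain ⟨q, hl, hr⟩ : ∃ q, Function.LeftInverse q p ∧ Function.RightInverse q p :=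
    Function.bijective_iff_has_inverse.1 hg.bijective
  refine ⟨q, fun i j hij => ?_, funext hr, funext hl⟩
  have e : (g⁻¹).1.1 = ((g.1.1).map (· ^ 2))ᵀ := by
    have h2 : g.1.1 * (g⁻¹).1.1 = 1 := by rw [← val_mul, mul_inv_cancel, val_one]
    rw [← Matrix.one_mul (g⁻¹).1.1, ← Four.unitary_of_mem g, Matrix.mul_assoc, h2, Matrix.mul_one]
  show (g⁻¹).1.1 i j = 0
  rw [e, Matrix.transpose_apply, Matrix.map_apply, hg j i (fun h => hij (by rw [h, hl i])),
    zero_pow (by norm_num)]

theorem IsMonG.conj_diag {p : Fin 6 → Fin 6} {g t : Cfsg.SU 6 F 2} (hg : IsMonG p g) (ht : t ∈ diagSub F) :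
    g * t * g⁻¹ ∈ diagSub F := by
  obtain ⟨q, hq, hpq, -⟩ := hg.inv
  have := (hg.mul (mem_diagSub.1 ht)).mul hq
  rw [Function.comp_id, hpq] at this
  exact this

/-- The diagonal entries of an element. -/
def dent (g : Cfsg.SU 6 F 2) (i : Fin 6) : F := g.1.1 i i

theorem diag_eq {g : Cfsg.SU 6 F 2} (hg : g ∈ diagSub F) : g.1.1 = Matrix.diagonal (dent g) := by
  ext i j
  rcases eq_or_ne i j with rfl | h
  · rw [Matrix.diagonal_apply_eq]; rfl
  · rw [Matrix.diagonal_apply_ne _ h]; exact hg i j h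

theorem prod_dent {g : Cfsg.SU 6 F 2} (hg : g ∈ diagSub F) : ∏ i, dent g i = 1 := by
  rw [← det_val g, diag_eq hg, Matrix.det_diagonal]

theorem dent_ne {g : Cfsg.SU 6 F 2} (hg : g ∈ diagSub F) (i : Fin 6) : dent g i ≠ 0 := (mem_diagSub.1 hg).ne i

theorem dent_mul {g h : Cfsg.SU 6 F 2} (hg : g ∈ diagSub F) (hh : h ∈ diagSub F) (i : Fin 6) :
    dent (g * h) i = dent g i * dent h i := by
  unfold dent
  exact (mem_diagSub.1 hg).mul_apply hh i

theorem diag_comm {g h : Cfsg.SU 6 F 2} (hg : g ∈ diagSub F) (hh : h ∈ diagSub F) : g * h = h * g := by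
  refine su_ext ?_
  rw [val_mul, val_mul, diag_eq hg, diag_eq hh, Matrix.diagonal_mul_diagonal,
    Matrix.diagonal_mul_diagonal]
  exact congrArg _ (funext fun i => mul_comm _ _)

theorem exists_diag (W : Four F) (v : Fin 6 → F) (hv : ∀ i, v i ≠ 0) (h1 : ∏ i, v i = 1) :
    ∃ g ∈ diagSub F, dent g = v ∧ g.1.1 = Matrix.diagonal v := by
  have hd : (Matrix.diagonal v).det = 1 := by rw [Matrix.det_diagonal, h1]
  have hu : ((Matrix.diagonal v).map (· ^ 2))ᵀ * Matrix.diagonal v = 1 := by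
    rw [Matrix.diagonal_map (f := fun x : F => x ^ 2) (show (0 : F) ^ 2 = 0 by norm_num), Matrix.diagonal_transpose,
      Matrix.diagonal_mul_diagonal, ← Matrix.diagonal_one]
    refine congrArg _ (funext fun i => ?_)
    rw [← W.cube (hv i)]
    ring
  refine ⟨⟨⟨Matrix.diagonal v, hd⟩, W.herm_of_unitary hu⟩, fun i j h => Matrix.diagonal_apply_ne _ h,
    funext fun i => Matrix.diagonal_apply_eq _ i, rfl⟩

theorem exists_diagOf (W : Four F) (v : Fin 5 → Fˣ) :
    ∃ g ∈ diagSub F, (∀ i : Fin 5, dent g i.castSucc = (v i : F)) := by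
  obtain ⟨g, hg, e, -⟩ := exists_diag W (Fin.snoc (fun i => (v i : F)) ((↑(∏ i, v i)⁻¹ : Fˣ) : F))
    (fun i => by
      induction i using Fin.lastCases with
      | last => rw [Fin.snoc_last]; exact Units.ne_zero _
      | cast i => rw [Fin.snoc_castSucc]; exact Units.ne_zero _)
    (by
      rw [Fin.prod_univ_castSucc]
      simp only [Fin.snoc_castSucc, Fin.snoc_last]
      rw [← Units.coe_prod, ← Units.val_mul, mul_inv_cancel, Units.val_one])
  exact ⟨g, hg, fun i => by rw [e, Fin.snoc_castSucc]⟩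

theorem diag_ext {g h : Cfsg.SU 6 F 2} (hg : g ∈ diagSub F) (hh : h ∈ diagSub F)
    (e : ∀ i : Fin 5, dent g i.castSucc = dent h i.castSucc) : g = h := by
  refine su_ext ?_
  rw [diag_eq hg, diag_eq hh]
  refine congrArg _ (funext fun i => ?_)
  induction i using Fin.lastCases with
  | last =>
    have hp := prod_dent hg
    have hq := prod_dent hh
    rw [Fin.prod_univ_castSucc] at hp hq
    simp only [e] at hp
    refine mul_left_cancel₀ ?_ (hp.trans hq.symm)
    exact Finset.prod_ne_zero_iff.2 fun i _ => dent_ne hh _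
  | cast i => exact e i

theorem card_diag [Fintype F] (W : Four F) (hF : Fintype.card F = 4) : Nat.card ↥(diagSub F) = 243 := by
  have hb : Function.Bijective (fun (g : ↥(diagSub F)) (i : Fin 5) =>
      Units.mk0 (dent g.1 i.castSucc) (dent_ne g.2 _)) := by
    constructor
    · intro g h e
      exact Subtype.ext (diag_ext g.2 h.2 fun i => congrArg Units.val (congrFun e i))
    · intro v
      obtain ⟨g, hg, e⟩ := exists_diagOf W v
      exact ⟨⟨g, hg⟩, funext fun i => Units.ext (e i)⟩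
  rw [Nat.card_eq_of_bijective _ hb, Nat.card_fun, Nat.card_units, Nat.card_eq_fintype_card, hF,
    Nat.card_eq_fintype_card, Fintype.card_fin]
  norm_num

/-- An element normalising the diagonal subgroup is monomial. -/
theorem exists_isMonG [Finite F] (W : Four F) {g : Cfsg.SU 6 F 2} (h : ∀ t ∈ diagSub F, g * t * g⁻¹ ∈ diagSub F) :
    ∃ p, IsMonG p g := by
  have hcol : ∀ j, ∃ i, g.1.1 i j ≠ 0 := fun j => by
    by_contra hc
    push Not at hc
    exact one_ne_zero (α := F) ((det_val g).symm.trans (det_eq_zero_of_column_eq_zero j hc))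
  choose p hp using hcol
  refine ⟨p, fun i j hij => ?_⟩
  by_contra hne
  let c : ↥(diagSub F) → ↥(diagSub F) := fun t => ⟨g * t * g⁻¹, h t t.2⟩
  have hinj : Function.Injective c := fun a b e => by
    have := congrArg Subtype.val e
    exact Subtype.ext (by simpa [c] using this)
  have hsep : ∀ s ∈ diagSub F, dent s i = dent s (p j) := by
    intro s hs
    obtain ⟨⟨t, ht⟩, e⟩ := Finite.injective_iff_surjective.1 hinj ⟨s, hs⟩
    have e' : g * t = s * g := by
      have := congrArg Subtype.val e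
      simp only [c] at this
      rw [← this, inv_mul_cancel_right]
    have hm : ∀ k, dent s k * g.1.1 k j = g.1.1 k j * dent t j := fun k => by
      have := congrFun₂ (congrArg (fun x : ↥(Cfsg.SU 6 F 2) => x.1.1) e') k j
      rw [val_mul, val_mul, diag_eq hs, diag_eq ht, Matrix.diagonal_mul, Matrix.mul_diagonal] at this
      exact this.symm
    have h1 := hm i
    have h2 := hm (p j)
    have e1 : dent s i = dent t j := mul_right_cancel₀ hne (by rw [h1, mul_comm])
    have e2 : dent s (p j) = dent t j := mul_right_cancel₀ (hp j) (by rw [h2, mul_comm])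
    rw [e1, e2]
  have hw0 : W.w ≠ 0 := fun e => by
    have := W.hw
    rw [e] at this
    simp at this
  let v : Fin 6 → F := fun k => if k = i then W.w else if k = p j then W.w⁻¹ else 1
  have hv : ∀ k, v k ≠ 0 := fun k => by simp only [v]; split_ifs <;> simp [hw0]
  have hv1 : ∏ k, v k = 1 := by
    rw [Fintype.prod_eq_mul i (p j) hij (fun l hl => by simp [v, hl.1, hl.2])]
    simp [v, hij.symm, hw0]
  obtain ⟨s, hs, hsv, -⟩ := exists_diag W v hv hv1
  have := hsep s hs
  rw [hsv] at this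
  simp only [v, if_pos, if_neg hij.symm] at this
  have hw2 : W.w * W.w = 1 := by
    nth_rewrite 1 [this]
    exact inv_mul_cancel₀ hw0
  have := W.hw
  rw [hw2] at this
  exact hw0 (by linear_combination (-1 : F) * this)

/-- The scalar elements. -/
def scalSub (F : Type*) [Field F] : Subgroup (Cfsg.SU 6 F 2) where
  carrier := {g | ∃ c : F, c ≠ 0 ∧ g.1.1 = c • (1 : Matrix (Fin 6) (Fin 6) F)}
  one_mem' := ⟨1, one_ne_zero, by rw [val_one, one_smul]⟩
  mul_mem' := by
    rintro a b ⟨c, hc, ea⟩ ⟨d, hd, eb⟩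
    exact ⟨c * d, mul_ne_zero hc hd, by rw [val_mul, ea, eb, Matrix.smul_mul, Matrix.one_mul, smul_smul]⟩
  inv_mem' := by
    rintro a ⟨c, hc, ea⟩
    refine ⟨c⁻¹, inv_ne_zero hc, ?_⟩
    have h2 : a.1.1 * (a⁻¹).1.1 = 1 := by rw [← val_mul, mul_inv_cancel, val_one]
    rw [ea, Matrix.smul_mul, Matrix.one_mul] at h2
    rw [← h2, smul_smul, inv_mul_cancel₀ hc, one_smul]

theorem mem_scalSub {g : Cfsg.SU 6 F 2} :
    g ∈ scalSub F ↔ ∃ c : F, c ≠ 0 ∧ g.1.1 = c • (1 : Matrix (Fin 6) (Fin 6) F) := Iff.rfl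

theorem scal_comm {z : Cfsg.SU 6 F 2} (hz : z ∈ scalSub F) (g : Cfsg.SU 6 F 2) : z * g = g * z := by
  obtain ⟨c, -, e⟩ := hz
  exact su_ext (by rw [val_mul, val_mul, e, Matrix.smul_mul, Matrix.mul_smul, Matrix.one_mul,
    Matrix.mul_one])

theorem scal_le_diag : scalSub F ≤ diagSub F := by
  rintro z ⟨c, -, e⟩ i j hij
  rw [e, Matrix.smul_apply, Matrix.one_apply_ne (show i ≠ j from hij), smul_zero]

theorem card_scal [Fintype F] (W : Four F) (hF : Fintype.card F = 4) : Nat.card ↥(scalSub F) = 3 := by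
  have hd : ∀ c : Fˣ, ((c : F) • (1 : Matrix (Fin 6) (Fin 6) F)).det = 1 := fun c => by
    rw [Matrix.det_smul, Matrix.det_one, mul_one, Fintype.card_fin, show (6 : ℕ) = 3 * 2 by norm_num,
      pow_mul, W.cube c.ne_zero, one_pow]
  have hu : ∀ c : Fˣ, (((c : F) • (1 : Matrix (Fin 6) (Fin 6) F)).map (· ^ 2))ᵀ *
      ((c : F) • (1 : Matrix (Fin 6) (Fin 6) F)) = 1 := fun c => by
    rw [Matrix.smul_one_eq_diagonal, Matrix.diagonal_map (f := fun x : F => x ^ 2) (show (0 : F) ^ 2 = 0 by norm_num),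
      Matrix.diagonal_transpose, Matrix.diagonal_mul_diagonal, ← Matrix.diagonal_one]
    refine congrArg _ (funext fun i => ?_)
    rw [← W.cube c.ne_zero]
    ring
  let f : Fˣ → ↥(scalSub F) := fun c =>
    ⟨⟨⟨_, hd c⟩, W.herm_of_unitary (hu c)⟩, (c : F), c.ne_zero, rfl⟩
  have hf : Function.Bijective f := by
    constructor
    · intro a b e
      have := congrFun₂ (congrArg (fun x : ↥(scalSub F) => x.1.1.1) e) 0 0
      simpa [f, Units.ext_iff] using this
    · rintro ⟨g, c, hc, e⟩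
      exact ⟨Units.mk0 c hc, Subtype.ext (su_ext e.symm)⟩
  rw [← Nat.card_eq_of_bijective f hf, Nat.card_units, Nat.card_eq_fintype_card, hF]

end CfsgLib.UnitarySix
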