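import Cfsg.Agent.Lib.UnitarySix.Groups
import Cfsg.Agent.Lib.Tails.UFourModel

/-!
# The three groups are triple covers of the unitary group of dimension four over nine elements

The first group permutes 126 points of the projective space; the other two are its conjugates by
diagonal matrices.
-/

set_option autoImplicit false
set_option maxRecDepth 100000

namespace CfsgLib.UnitarySix

open CfsgLib.UnitarySixData CfsgLib.Golay Matrix Subgroup
open CfsgLib.Schur.Tails.OEight (permC permC_apply)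
open CfsgLib.Schur.Tails.UFour (H4)
open CfsgLib.TailsData (uFourBase)

variable {F : Type*} [Field F] (W : Four F)

/-- The vector of a code. -/
def vecV (v : ℕ) : Fin 6 → F := fun i => W.el (entV v i.val)

/-- A point. -/
def pt (i : Fin 126) : Fin 6 → F := vecV W (pts.getD i.val 0)

theorem entV_bld {f : ℕ → ℕ} (hf : ∀ p, f p < 4) (j : Fin 6) : entV (bld f 0 6) j.val = f j.val := by
  rw [entV, ent_bld hf 6 0 j.val j.isLt, Nat.zero_add]

theorem vec_actV (M v : ℕ) : vecV W (actV M v) = W.dec M *ᵥ vecV W v := by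
  funext i
  simp only [vecV, actV, force_eq]
  rw [entV_bld (fun p => xor_lt (mt_lt _ _) (xor_lt (mt_lt _ _) (xor_lt (mt_lt _ _) (xor_lt (mt_lt _ _)
    (xor_lt (mt_lt _ _) (mt_lt _ _))))))]
  simp only [Matrix.mulVec, dotProduct, Fin.sum_univ_six, Four.dec, Matrix.of_apply]
  have hm := fun a b => W.el_mt (ent_lt M a) (ent_lt v b)
  simp only [entV]
  rw [W.el_xor (mt_lt _ _) (xor_lt (mt_lt _ _) (xor_lt (mt_lt _ _) (xor_lt (mt_lt _ _)
      (xor_lt (mt_lt _ _) (mt_lt _ _))))),
    W.el_xor (mt_lt _ _) (xor_lt (mt_lt _ _) (xor_lt (mt_lt _ _) (xor_lt (mt_lt _ _) (mt_lt _ _)))),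
    W.el_xor (mt_lt _ _) (xor_lt (mt_lt _ _) (xor_lt (mt_lt _ _) (mt_lt _ _))),
    W.el_xor (mt_lt _ _) (xor_lt (mt_lt _ _) (mt_lt _ _)),
    W.el_xor (mt_lt _ _) (mt_lt _ _)]
  simp only [hm, vecV, entV]
  norm_num
  ring

theorem vec_smulV {c : ℕ} (hc : c < 4) (v : ℕ) : vecV W (smulV c v) = W.el c • vecV W v := by
  funext i
  simp only [vecV, smulV, force_eq, Pi.smul_apply, smul_eq_mul]
  rw [entV_bld (fun p => mt_lt _ _), Nat.mod_eq_of_lt hc]
  exact W.el_mt hc (ent_lt _ _)

theorem pt_inj {i j : Fin 126} {c : F} (hc : c ≠ 0) (h : c • pt W i = pt W j) : i = j := by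
  by_contra hne
  have hd := distinct_checks
  simp only [distinctB, List.all_eq_true, List.mem_range, Bool.or_eq_true, Bool.not_eq_true',
    Nat.beq_eq] at hd
  obtain ⟨k, hk, rfl⟩ := W.exists_el c
  have hk0 : k ≠ 0 := fun e => hc (by rw [e]; rfl)
  have := (hd i.val i.isLt j.val j.isLt).resolve_left (fun e => hne (Fin.ext e)) k (by
    interval_cases k <;> simp at hk0 ⊢)
  refine absurd ?_ (Nat.ne_of_beq_eq_false this)
  simp only [smulV, force_eq]
  refine bld_congr 6 0 fun p hp => ?_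
  have := congrFun h ⟨p, hp⟩
  simp only [pt, vecV, Pi.smul_apply, smul_eq_mul] at this
  rw [Nat.zero_add, Nat.mod_eq_of_lt hk]
  refine W.el_inj (mt_lt _ _) (ent_lt _ _) ?_
  rw [W.el_mt hk (show entV _ p < 4 from ent_lt _ _), this]

/-- An element permutes the points as given. -/
def Moves (g : Cfsg.SU 6 F 2) (σ : Equiv.Perm (Fin 126)) : Prop :=
  ∀ i, ∃ c : F, c ≠ 0 ∧ g.1.1 *ᵥ pt W i = c • pt W (σ i)

theorem moves_unique {g : Cfsg.SU 6 F 2} {σ τ : Equiv.Perm (Fin 126)} (h : Moves W g σ)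
    (h' : Moves W g τ) : σ = τ := by
  refine Equiv.ext fun i => ?_
  obtain ⟨c, hc, e⟩ := h i
  obtain ⟨d, hd, e'⟩ := h' i
  refine pt_inj W (mul_ne_zero (inv_ne_zero hd) hc) ?_
  rw [mul_smul, ← e, e', smul_smul, inv_mul_cancel₀ hd, one_smul]

theorem moves_one : Moves W 1 1 := fun i => ⟨1, one_ne_zero, by
  rw [val_one, Matrix.one_mulVec, one_smul]; rfl⟩

theorem moves_mul {g h : Cfsg.SU 6 F 2} {σ τ : Equiv.Perm (Fin 126)} (hg : Moves W g σ)
    (hh : Moves W h τ) : Moves W (g * h) (σ * τ) := fun i => by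
  obtain ⟨c, hc, e⟩ := hh i
  obtain ⟨d, hd, e'⟩ := hg (τ i)
  exact ⟨c * d, mul_ne_zero hc hd, by
    rw [val_mul, ← Matrix.mulVec_mulVec, e, Matrix.mulVec_smul, e', smul_smul]; rfl⟩

theorem moves_inv {g : Cfsg.SU 6 F 2} {σ : Equiv.Perm (Fin 126)} (hg : Moves W g σ) :
    Moves W g⁻¹ σ⁻¹ := fun i => by
  obtain ⟨c, hc, e⟩ := hg (σ⁻¹ i)
  refine ⟨c⁻¹, inv_ne_zero hc, ?_⟩
  rw [show σ (σ⁻¹ i) = i from σ.apply_symm_apply i] at e
  have h1 : (g⁻¹).1.1 * g.1.1 = 1 := by rw [← val_mul, inv_mul_cancel, val_one]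
  have := congrArg (fun v => c⁻¹ • ((g⁻¹).1.1 *ᵥ v)) e
  simp only [Matrix.mulVec_mulVec, h1, Matrix.one_mulVec, Matrix.mulVec_smul, smul_smul,
    inv_mul_cancel₀ hc, one_smul] at this
  exact this.symm

theorem gperm_ok {k : ℕ} (hk : k < 8) : PackPerm.okP 126 (gPerms.getD k 0) = true := by
  have h := act_checks
  simp only [actB, Bool.and_eq_true, List.all_eq_true, List.mem_range] at h
  exact (h.1 k hk).1

theorem moves_gen {k : ℕ} (hk : k < 8) {g : Cfsg.SU 6 F 2} (hg : Rep W g ((gensC 0).getD k 0)) :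
    Moves W g (permC 126 (gPerms.getD k 0)) := by
  intro i
  have h := act_checks
  simp only [actB, Bool.and_eq_true, List.all_eq_true, List.mem_range, List.any_eq_true,
    Nat.beq_eq] at h
  obtain ⟨c, hc, e⟩ := (h.1 k hk).2 i.val i.isLt
  have hc4 : c < 4 ∧ c ≠ 0 := by
    simp only [List.mem_cons, List.not_mem_nil, or_false] at hc
    omega
  refine ⟨W.el c, W.el_ne hc4.1 hc4.2, ?_⟩
  rw [pt, pt, hg.2, ← vec_actV, e, vec_smulV W hc4.1, permC_apply (gperm_ok hk)]

theorem gensC_length : (gensC 0).length = 8 := by decide +kernel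

theorem exists_moves {g : Cfsg.SU 6 F 2} (hg : g ∈ grpC W 0) : ∃ σ, Moves W g σ := by
  induction hg using Subgroup.closure_induction with
  | mem x hx =>
    obtain ⟨C, hC, hR⟩ := hx
    obtain ⟨k, hk, rfl⟩ := List.getElem_of_mem hC
    rw [← List.getD_eq_getElem _ 0 hk] at hR
    exact ⟨_, moves_gen W (gensC_length ▸ hk) hR⟩
  | one => exact ⟨1, moves_one W⟩
  | mul x y _ _ hx hy =>
    obtain ⟨σ, hσ⟩ := hx
    obtain ⟨τ, hτ⟩ := hy
    exact ⟨σ * τ, moves_mul W hσ hτ⟩
  | inv x _ hx =>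
    obtain ⟨σ, hσ⟩ := hx
    exact ⟨σ⁻¹, moves_inv W hσ⟩

/-- The action on the points. -/
noncomputable def psi : ↥(grpC W 0) →* Equiv.Perm (Fin 126) where
  toFun g := (exists_moves W g.2).choose
  map_one' := moves_unique W (exists_moves W (1 : ↥(grpC W 0)).2).choose_spec (moves_one W)
  map_mul' g h := moves_unique W (exists_moves W (g * h).2).choose_spec
    (moves_mul W (exists_moves W g.2).choose_spec (exists_moves W h.2).choose_spec)

theorem psi_spec (g : ↥(grpC W 0)) : Moves W g.1 (psi W g) := (exists_moves W g.2).choose_spec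

theorem exists_gen {k : ℕ} (hk : k < 8) :
    ∃ g : ↥(grpC W 0), psi W g = permC 126 (gPerms.getD k 0) := by
  obtain ⟨g, hg⟩ : ∃ g, Rep W g ((gensC 0).getD k 0) := by
    have e : (gensC 0).getD k 0 = if k < 5 then dCodes.getD k 0 else kg 0 (k - 5) := by
      simp only [gensC, kg]
      split_ifs with h5
      · rw [List.getD_append _ _ _ _ (by rw [data_lengths.1]; exact h5)]
      · rw [List.getD_append_right _ _ _ _ (by rw [data_lengths.1]; omega), data_lengths.1]
    rw [e]
    split_ifs with h5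
    · obtain ⟨g, hg, -⟩ := rep_d W h5
      exact ⟨g, hg⟩
    · exact rep_kg W (by norm_num) (by omega)
  refine ⟨⟨g, Subgroup.subset_closure ⟨_, ?_, hg⟩⟩, moves_unique W (psi_spec W _) (moves_gen W hk hg)⟩
  rw [List.getD_eq_getElem _ _ (by rw [gensC_length]; exact hk)]
  exact List.getElem_mem _

theorem applyW_eq {ps : List ℕ} {P : ℕ → Prop} (hok : ∀ k, P k → PackPerm.okP 126 (ps.getD k 0) = true) :
    ∀ (w : List ℕ), (∀ k ∈ w, P k) → ∀ x : Fin 126,
      applyW ps w x.val = ((w.map fun k => permC 126 (ps.getD k 0)).prod x).val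
  | [], _, x => rfl
  | k :: w, h, x => by
    rw [List.map_cons, List.prod_cons, Equiv.Perm.mul_apply,
      permC_apply (hok k (h k List.mem_cons_self))]
    show PackPerm.getP (ps.getD k 0) (applyW ps w x.val) = _
    rw [applyW_eq hok w (fun m hm => h m (List.mem_cons_of_mem _ hm)) x]

theorem range_psi : (psi W).range = H4 := by
  have hw := words_checks
  simp only [wordsB, Bool.and_eq_true, List.all_eq_true, List.mem_range, beq_iff_eq, Nat.beq_eq,
    Nat.blt_eq] at hw
  obtain ⟨⟨⟨⟨⟨-, -⟩, hlen⟩, hok⟩, hto⟩, hfrom⟩ := hw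
  have hokH : ∀ k, k < 2 → PackPerm.okP 126 (uFourBase.getD k 0) = true := fun k hk => hok _ (by
    rw [List.getD_eq_getElem _ _ (by rw [hlen]; exact hk)]; exact List.getElem_mem _)
  have hH : ∀ k, k < 2 → permC 126 (uFourBase.getD k 0) ∈ H4 := fun k hk =>
    Subgroup.subset_closure ⟨_, by
      rw [List.getD_eq_getElem _ _ (by rw [hlen]; exact hk)]; exact List.getElem_mem _, rfl⟩
  have hG : ∀ k, k < 8 → permC 126 (gPerms.getD k 0) ∈ (psi W).range := fun k hk => exists_gen W hk
  refine le_antisymm ?_ ((Subgroup.closure_le _).2 ?_)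
  · rintro _ ⟨g, rfl⟩
    have hall : ∀ k, k < 8 → permC 126 (gPerms.getD k 0) ∈ H4 := by
      intro k hk
      obtain ⟨hl, he⟩ := hto k hk
      have : permC 126 (gPerms.getD k 0) =
          ((wordsToH.getD k []).map fun l => permC 126 (uFourBase.getD l 0)).prod := Equiv.ext fun x =>
        Fin.ext (by rw [permC_apply (gperm_ok hk), ← he x.val x.isLt, applyW_eq hokH _ hl x])
      rw [this]
      exact list_prod_mem (fun y hy => by
        obtain ⟨l, hl', rfl⟩ := List.mem_map.1 hy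
        exact hH l (hl l hl'))
    have key : grpC W 0 ≤ (H4.comap (psi W)).map (grpC W 0).subtype := by
      refine (Subgroup.closure_le _).2 ?_
      rintro x ⟨C, hC, hR⟩
      obtain ⟨k, hk, rfl⟩ := List.getElem_of_mem hC
      refine ⟨⟨x, Subgroup.subset_closure ⟨_, hC, hR⟩⟩, ?_, rfl⟩
      rw [← List.getD_eq_getElem _ 0 hk] at hR
      rw [SetLike.mem_coe, mem_comap,
        moves_unique W (psi_spec W _) (moves_gen W (gensC_length ▸ hk) hR)]
      exact hall k (gensC_length ▸ hk)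
    obtain ⟨y, hy, e⟩ := key g.2
    rwa [show y = g from Subtype.ext e, SetLike.mem_coe, mem_comap] at hy
  · rintro _ ⟨b, hb, rfl⟩
    obtain ⟨k, hk, rfl⟩ := List.getElem_of_mem hb
    rw [hlen] at hk
    rw [← List.getD_eq_getElem _ 0 (by rw [hlen]; exact hk)]
    obtain ⟨hl, he⟩ := hfrom k hk
    have : permC 126 (uFourBase.getD k 0) =
        ((wordsToG.getD k []).map fun l => permC 126 (gPerms.getD l 0)).prod := Equiv.ext fun x =>
      Fin.ext (by rw [permC_apply (hokH k hk), ← he x.val x.isLt, applyW_eq (fun l hl => gperm_ok hl) _ hl x])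
    rw [SetLike.mem_coe, this]
    exact list_prod_mem (fun y hy => by
      obtain ⟨l, hl', rfl⟩ := List.mem_map.1 hy
      exact hG l (hl l hl'))

theorem scal_le (c : ℕ) [Fintype F] : scalSub F ≤ grpC W c := scal_le_diag.trans (diag_le_grpC W c)

theorem ker_psi [Fintype F] : (psi W).ker = (scalSub F).subgroupOf (grpC W 0) := by
  ext g
  rw [MonoidHom.mem_ker, mem_subgroupOf]
  constructor
  · intro hg
    have hfix : ∀ i, ∃ c : F, g.1.1.1 *ᵥ pt W i = c • pt W i := fun i => by
      obtain ⟨c, -, e⟩ := psi_spec W g i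
      rw [hg] at e
      exact ⟨c, e⟩
    have htwo : ∀ a b : Fin 6, a ≠ b → ∀ l : ℕ, l ∈ [1, 2, 3] → ∃ c : F,
        g.1.1.1 *ᵥ (Pi.single a 1 + W.el l • Pi.single b 1) =
          c • (Pi.single a 1 + W.el l • Pi.single b 1) := by
      intro a b hab l hl
      have h := two_checks
      simp only [twoB, List.all_eq_true, List.any_eq_true, List.mem_range, Bool.or_eq_true,
        Nat.beq_eq] at h
      obtain ⟨k, hk, d, hd, e⟩ := (h a.val a.isLt b.val b.isLt).resolve_left
        (fun e => hab (Fin.ext e)) l hl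
      have hd4 : d < 4 ∧ l < 4 := by
        simp only [List.mem_cons, List.not_mem_nil, or_false] at hd hl
        omega
      have hv : vecV W (twoV a.val b.val l) = Pi.single a 1 + W.el l • Pi.single b 1 := by
        funext j
        simp only [vecV, twoV]
        rw [entV_bld (fun p => by split_ifs <;> omega)]
        simp only [Pi.add_apply, Pi.smul_apply, Pi.single_apply, smul_eq_mul, Fin.val_inj,
          Nat.mod_eq_of_lt hd4.2]
        rcases eq_or_ne j a with rfl | ha
        · rw [if_pos rfl, if_pos rfl, if_neg hab, mul_zero, add_zero, Four.el_one]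
        · rw [if_neg ha, if_neg ha, zero_add]
          split_ifs <;> simp [Four.el_zero]
      obtain ⟨c, hc⟩ := hfix ⟨k, hk⟩
      refine ⟨c, ?_⟩
      rw [← hv, ← e, vec_smulV W hd4.1, Matrix.mulVec_smul, show vecV W (pts.getD k 0) = pt W ⟨k, hk⟩ from rfl,
        hc, smul_comm]
    have hent : ∀ (a : Fin 6) (i : Fin 6), (g.1.1.1 *ᵥ Pi.single a 1) i = g.1.1.1 i a := fun a i => by
      simp [Matrix.mulVec_single]
    have hspan : ∀ a b i : Fin 6, a ≠ b → i ≠ a → i ≠ b → g.1.1.1 i a = 0 := by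
      intro a b i hab hia hib
      obtain ⟨c, hc⟩ := htwo a b hab 1 (by simp)
      obtain ⟨d, hd⟩ := htwo a b hab 2 (by simp)
      have e1 := congrFun hc i
      have e2 := congrFun hd i
      simp only [Matrix.mulVec_add, Matrix.mulVec_smul, Pi.add_apply, Pi.smul_apply, hent,
        Pi.single_eq_of_ne hia, Pi.single_eq_of_ne hib, smul_eq_mul, mul_zero, add_zero] at e1 e2
      have h21 : W.el 2 - W.el 1 ≠ 0 := sub_ne_zero.2 fun h => absurd (W.el_inj (by norm_num) (by norm_num) h)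
        (by norm_num)
      have : (W.el 2 - W.el 1) * g.1.1.1 i a = 0 := by
        linear_combination W.el 2 * e1 - W.el 1 * e2
      exact (mul_eq_zero.1 this).resolve_left h21
    have hdiag : ∀ a i : Fin 6, i ≠ a → g.1.1.1 i a = 0 := fun a i hia => by
      obtain ⟨b, hb⟩ : ∃ b : Fin 6, b ≠ a ∧ b ≠ i := by
        revert a i
        decide
      exact hspan a b i hb.1.symm hia hb.2.symm
    refine ⟨g.1.1.1 0 0, (IsMonG.ne (p := id) (fun i j h => hdiag j i h) 0), ?_⟩
    ext i j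
    rcases eq_or_ne i j with rfl | hij
    · rw [Matrix.smul_apply, Matrix.one_apply_eq, smul_eq_mul, mul_one]
      rcases eq_or_ne i 0 with rfl | hi
      · rfl
      obtain ⟨c, hc⟩ := htwo 0 i hi.symm 1 (by simp)
      have e1 := congrFun hc 0
      have e2 := congrFun hc i
      simp only [Matrix.mulVec_add, Matrix.mulVec_smul, Pi.add_apply, Pi.smul_apply, hent,
        Pi.single_eq_same, Pi.single_eq_of_ne hi, Pi.single_eq_of_ne hi.symm, smul_eq_mul,
        Four.el_one, hdiag i 0 hi.symm, hdiag 0 i hi, mul_one, mul_zero, add_zero, zero_add, one_mul] at e1 e2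
      rw [e2, ← e1]
    · rw [Matrix.smul_apply, Matrix.one_apply_ne hij, smul_zero]
      exact hdiag j i hij
  · rintro ⟨c, hc, e⟩
    refine moves_unique W (psi_spec W g) fun i => ⟨c, hc, ?_⟩
    rw [e, Matrix.smul_mulVec, Matrix.one_mulVec]
    rfl

theorem H4_simple : IsSimpleGroup ↥H4 ∧ Subgroup.center ↥H4 = ⊥ := by
  obtain ⟨e⟩ := CfsgLib.Schur.Tails.UFour.psu_equiv_H4 CfsgLib.Schur.Tails.UFour.F9
    CfsgLib.Schur.Tails.UFour.card_F9
  have : IsSimpleGroup (Cfsg.PSU 4 CfsgLib.Schur.Tails.UFour.F9 3) :=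
    CfsgLib.Classical.Unitary.isSimpleGroup_PSU (by rw [CfsgLib.Schur.Tails.UFour.card_F9]; norm_num)
      (by norm_num) (by norm_num)
  have hs : IsSimpleGroup ↥H4 := e.isSimpleGroup
  refine ⟨hs, (IsSimpleGroup.eq_bot_or_eq_top_of_normal _ inferInstance).resolve_right fun h => ?_⟩
  have hc := (commutator_eq_bot_iff_center_eq_top (G := ↥H4)).2 h
  rw [CfsgLib.Schur.Tails.UFour.H4_perfect] at hc
  exact top_ne_bot hc

theorem center_zero [Fintype F] :
    Subgroup.center ↥(grpC W 0) = (scalSub F).subgroupOf (grpC W 0) := by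
  refine le_antisymm (fun z hz => ?_) fun z hz => ?_
  · rw [← ker_psi W, MonoidHom.mem_ker]
    have hm : (⟨psi W z, range_psi W ▸ ⟨z, rfl⟩⟩ : ↥H4) ∈ Subgroup.center ↥H4 := by
      rw [Subgroup.mem_center_iff]
      rintro ⟨y, hy⟩
      rw [← range_psi W] at hy
      obtain ⟨x, rfl⟩ := hy
      apply Subtype.ext
      show psi W x * psi W z = psi W z * psi W x
      rw [← map_mul, ← map_mul, Subgroup.mem_center_iff.1 hz x]
    rw [H4_simple.2, Subgroup.mem_bot] at hm
    exact congrArg Subtype.val hm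
  · rw [Subgroup.mem_center_iff]
    exact fun x => Subtype.ext (scal_comm (mem_subgroupOf.1 hz) x.1).symm

theorem grp_zero_spec [Fintype F] (hF : Fintype.card F = 4) :
    Nat.card ↥(Subgroup.center ↥(grpC W 0)) = 3 ∧ Nat.card ↥(grpC W 0) = 3 * 3265920 ∧
      Nonempty (↥(grpC W 0) ⧸ Subgroup.center ↥(grpC W 0) ≃* ↥H4) := by
  have h3 : Nat.card ↥(Subgroup.center ↥(grpC W 0)) = 3 := by
    rw [center_zero W, ← card_scal W hF]
    exact Nat.card_congr (Subgroup.subgroupOfEquivOfLe (scal_le W 0)).toEquiv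
  have e : ↥(grpC W 0) ⧸ Subgroup.center ↥(grpC W 0) ≃* ↥H4 :=
    (QuotientGroup.quotientMulEquivOfEq ((center_zero W).trans (ker_psi W).symm)).trans
      ((QuotientGroup.quotientKerEquivRange (psi W)).trans (MulEquiv.subgroupCongr (range_psi W)))
  refine ⟨h3, ?_, ⟨e⟩⟩
  have := (Subgroup.center ↥(grpC W 0)).index_mul_card
  rw [h3, Subgroup.index_eq_card, Nat.card_congr e.toEquiv, CfsgLib.Schur.Tails.UFour.card_H4] at this
  omega

end CfsgLib.UnitarySix
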