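import Cfsg.Agent.Lib.UnitarySix.Lifts
import Cfsg.Agent.Lib.UnitarySix.ChecksPerm
import Cfsg.Agent.Lib.UnitarySix.ChecksCase

/-!
# The two monomial generators up to conjugation

After conjugating by a monomial element the lifts of the two generators of the alternating group have
one of eighteen codes.
-/

set_option autoImplicit false
set_option maxRecDepth 100000

namespace CfsgLib.UnitarySix

open CfsgLib.UnitarySixData Subgroup

attribute [local irreducible] mulC smulC monC code force scals wordC valList permList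

variable {F : Type*} [Field F] {W : Four F} {K : Subgroup (Cfsg.SU 6 F 2)}

theorem cmpW_pair (p q : List ℕ) (w : List ℕ) (k : ℕ) :
    cmpW [p, q] (k :: w) = cmp ([p, q].getD k []) (cmpW [p, q] w) := rfl

theorem Sit.pattern_trivial {S : Sit W K} {g : Cfsg.SU 6 F 2} {g₀ : ↥(grpC W 0)} (hg : S.Lift g g₀)
    (h₀ : g₀.1 ∈ scalSub F) {r : Fin 6 → Fin 6} (hr : IsMonG r g) : lstP r = idP := by
  have : IsMonG id g := S.center_le_diag (hg.mem_center h₀)
  rw [hr.unique this, lstP_id]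

theorem base_facts : relB (kg 0 0) (kg 0 1) = true ∧ mulC (kg 0 0) (kg 0 0) = oneC ∧
    mulC (kg 0 2) (kg 0 2) = oneC ∧ monB idP (kg 0 0) = false ∧
    monB idP (mulC (mulC (kg 0 2) (dCodes.getD 0 0)) (kg 0 2)) = false ∧
    mulC (mulC (kg 0 2) (kg 0 0)) (kg 0 2) = wordC [kg 0 0, kg 0 1] wA ∧
    mulC (mulC (kg 0 2) (kg 0 1)) (kg 0 2) = wordC [kg 0 0, kg 0 1] wB ∧
    (∀ k ∈ wA, k < 2) ∧ ∀ k ∈ wB, k < 2 := by
  have h := base_checks
  simp only [baseB, Bool.and_eq_true, Bool.not_eq_true', Nat.beq_eq, List.all_eq_true, Nat.blt_eq] at h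
  exact ⟨h.1.1.1.1.1.1.2, h.1.1.1.1.1.1.1.1, h.1.1.1.1.1.1.1.2, h.1.1.1.2, h.1.1.2, h.1.1.1.1.1.2,
    h.1.1.1.1.2, h.1.2, h.2⟩

theorem monB_of_diag {g : Cfsg.SU 6 F 2} {C : ℕ} (hg : g ∈ diagSub F) (hC : Rep W g C) :
    monB idP C = true := by
  simp only [monB, List.all_eq_true, List.mem_range, Bool.or_eq_true, Nat.beq_eq]
  intro e he
  rcases eq_or_ne (e % 6) (e / 6) with h | h
  · left
    rw [← lstP_id, lstP_getD id (⟨e % 6, by omega⟩ : Fin 6)]
    exact h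
  · right
    refine W.el_inj (ent_lt _ _) (by norm_num) ?_
    have := hg ⟨e / 6, by omega⟩ ⟨e % 6, by omega⟩ (fun h' => h (congrArg Fin.val h').symm)
    rw [hC.2] at this
    simpa [Four.dec, Nat.div_add_mod, Four.el_zero] using this

theorem Rep.monB_of {g : Cfsg.SU 6 F 2} {C : ℕ} (hg : Rep W g C) {p : Fin 6 → Fin 6} (hp : IsMonG p g) :
    ∃ v ∈ valList, C = monC (lstP p) v := by
  obtain ⟨v, hv, hR⟩ := hp.exists_code W
  exact ⟨v, valList_eq ▸ hv, hg.unique hR⟩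

/-- The relations for patterns. -/
theorem Sit.relP_of {S : Sit W K} {a b : Cfsg.SU 6 F 2} {a₀ b₀ : ↥(grpC W 0)}
    (ha : S.Lift a a₀) (hb : S.Lift b b₀) (hA' : Rep W a₀.1 (kg 0 0)) (hB' : Rep W b₀.1 (kg 0 1))
    {p q : Fin 6 → Fin 6} (hp : IsMonG p a) (hq : IsMonG q b) : relP (lstP p) (lstP q) = true := by
  obtain ⟨A, hA⟩ := exists_rep W a
  obtain ⟨B, hB⟩ := exists_rep W b
  have hr := base_facts.1
  simp only [relB, Bool.and_eq_true] at hr
  have hw : ∀ w : List ℕ, (∀ k ∈ w, k < 2) → isScal (wordC [kg 0 0, kg 0 1] w) = true →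
      cmpW [lstP p, lstP q] w = idP := by
    intro w hw hs
    obtain ⟨g, g₀, h1, -, h3, h4⟩ := Sit.Lift.word ha hb hA hB hA' hB' w hw
    obtain ⟨r, hr', e⟩ := h4 p q hp hq
    rw [← e]
    exact Sit.pattern_trivial h1 (h3.mem_scal hs) hr'
  simp only [relP, Bool.and_eq_true, beq_iff_eq]
  exact ⟨⟨hw _ (by decide) hr.1.1, hw _ (by decide) hr.1.2⟩, hw _ (by decide) hr.2⟩

variable (W) in
/-- The state after the monomial generators are normalised. -/
def Normal (K : Subgroup (Cfsg.SU 6 F 2)) : Prop :=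
  ∃ (S : Sit W K) (a b : Cfsg.SU 6 F 2) (a₀ b₀ : ↥(grpC W 0)), S.Lift a a₀ ∧ S.Lift b b₀ ∧
    Rep W a₀.1 (kg 0 0) ∧ Rep W b₀.1 (kg 0 1)

/-- Both generators have standard images after conjugation. -/
theorem exists_patterns [Fintype F] (S : Sit W K) :
    ∃ h : Cfsg.SU 6 F 2, ∃ (S' : Sit W (K.map (MulAut.conj h).toMonoidHom)) (a b : Cfsg.SU 6 F 2)
      (a₀ b₀ : ↥(grpC W 0)) (p q : Fin 6 → Fin 6), S'.Lift a a₀ ∧ S'.Lift b b₀ ∧
        Rep W a₀.1 (kg 0 0) ∧ Rep W b₀.1 (kg 0 1) ∧ IsMonG p a ∧ IsMonG q b ∧ lstP p = rA ∧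
        lstP q ∈ qReps := by
  obtain ⟨a₀, hA'⟩ := exists_base W (show 0 < 3 by norm_num)
  obtain ⟨b₀, hB'⟩ := exists_base W (show 1 < 3 by norm_num)
  obtain ⟨a, ha⟩ := S.exists_lift a₀
  obtain ⟨b, hb⟩ := S.exists_lift b₀
  obtain ⟨p, hp⟩ := ha.monomial (hA'.isMonG (images.1 0 (by norm_num)).1)
  obtain ⟨q, hq⟩ := hb.monomial (hB'.isMonG (images.1 0 (by norm_num)).2)
  have hsq : a₀.1 * a₀.1 ∈ scalSub F := by
    rw [hA'.mul_eq hA' Rep.one (by rw [base_facts.2.1]; exact Nat.beq_refl _)]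
    exact one_mem _
  have hinv : cmp (lstP p) (lstP p) = idP := by
    rw [← lstP_comp]
    exact Sit.pattern_trivial (ha.mul ha) hsq (hp.mul hp)
  have hne : lstP p ≠ idP := fun e => by
    rw [← lstP_id] at e
    rw [lstP_inj e] at hp
    have := monB_of_diag (ha.mem_diag_iff.1 hp) hA'
    rw [base_facts.2.2.2.1] at this
    exact Bool.false_ne_true this
  have hperm : ∀ {r : Fin 6 → Fin 6}, Function.Bijective r → lstP r ∈ permList := fun hb =>
    permList_eq ▸ lstP_mem hb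
  have h1 := inv_checks
  simp only [invB, List.all_eq_true, Bool.or_eq_true, List.any_eq_true, beq_iff_eq, bne_iff_ne] at h1
  obtain ⟨r, hr, s, hs, es⟩ : ∃ r ∈ invReps, ∃ s ∈ permList, cmp s (lstP p) = cmp r s := by
    rcases h1 _ (hperm hp.bijective) with (e | e) | e
    exacts [absurd e hne, absurd hinv e, e]
  have hbij : ∀ s ∈ permList, Function.Bijective (fnP s) ∧ lstP (fnP s) = s := by
    have hh : (permList.all fun s => decide (lstP (fnP s) = s) &&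
        decide ((List.ofFn (fnP s)).Nodup)) = true := by decide +kernel
    intro s hs
    simp only [List.all_eq_true, Bool.and_eq_true, decide_eq_true_eq] at hh
    exact ⟨Finite.injective_iff_bijective.1 (List.nodup_ofFn.1 (hh s hs).2), (hh s hs).1⟩
  obtain ⟨u, hu⟩ := exists_mono W (Equiv.ofBijective _ (hbij s hs).1)
  have hu' : IsMonG (fnP s) u := hu
  obtain ⟨u', hu1, hu2, hu3⟩ := hu'.inv
  set S1 := S.conj u hu'.conj_iff
  have ha1 : S1.Lift (u * a * u⁻¹) a₀ := ha.conj _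
  have hb1 : S1.Lift (u * b * u⁻¹) b₀ := hb.conj _
  have hp1 : IsMonG (fnP s ∘ p ∘ u') (u * a * u⁻¹) := by
    have := (hu'.mul hp).mul hu1
    exact this
  have hq1 : IsMonG (fnP s ∘ q ∘ u') (u * b * u⁻¹) := by
    have := (hu'.mul hq).mul hu1
    exact this
  have hr' : lstP (fnP r) = r := by
    have hh : (invReps.all fun r => decide (lstP (fnP r) = r)) = true := by decide +kernel
    simp only [List.all_eq_true, decide_eq_true_eq] at hh
    exact hh r hr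
  have e1 : fnP s ∘ p = fnP r ∘ fnP s := lstP_inj (by
    rw [lstP_comp, lstP_comp, (hbij s hs).2, hr', es])
  have hp2 : IsMonG (fnP r) (u * a * u⁻¹) := by
    rwa [← Function.comp_assoc, e1, Function.comp_assoc, hu2, Function.comp_id] at hp1
  have hrel := Sit.relP_of ha1 hb1 hA' hB' hp2 hq1
  rw [hr'] at hrel
  have h2 := pairs_checks
  simp only [pairsB, List.all_eq_true, Bool.or_eq_true, List.any_eq_true, beq_iff_eq,
    Bool.and_eq_true, Bool.not_eq_true'] at h2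
  obtain ⟨t, ht, et, k, hk, ek⟩ := (h2 r hr _ (hperm hq1.bijective)).resolve_left (by simp [hrel])
  obtain ⟨v, hv⟩ := exists_mono W (Equiv.ofBijective _ (hbij t ht).1)
  have hv' : IsMonG (fnP t) v := hv
  obtain ⟨v', hv1, hv2, hv3⟩ := hv'.inv
  set S2 := S1.conj v hv'.conj_iff
  have hK : (K.map (MulAut.conj u).toMonoidHom).map (MulAut.conj v).toMonoidHom =
      K.map (MulAut.conj (v * u)).toMonoidHom := by
    rw [Subgroup.map_map]
    congr 1
    ext x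
    simp [MulAut.conj_apply, mul_assoc]
  have hra : lstP (fnP rA) = rA ∧ ∀ k ∈ qReps, lstP (fnP k) = k := by decide +kernel
  have e2 : fnP t ∘ fnP r = fnP rA ∘ fnP t := lstP_inj (by
    rw [lstP_comp, lstP_comp, (hbij t ht).2, hr', hra.1, et])
  have e3 : fnP t ∘ (fnP s ∘ q ∘ u') = fnP k ∘ fnP t := lstP_inj (by
    rw [lstP_comp, lstP_comp (fnP k), (hbij t ht).2, hra.2 k hk, ek])
  refine ⟨v * u, hK ▸ ?_⟩
  refine ⟨S2, _, _, a₀, b₀, fnP rA, fnP k, ha1.conj hv'.conj_iff, hb1.conj hv'.conj_iff, hA', hB', ?_, ?_,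
    hra.1, (hra.2 k hk).symm ▸ hk⟩
  · have := (hv'.mul hp2).mul hv1
    rwa [e2, Function.comp_assoc, hv2, Function.comp_id] at this
  · have := (hv'.mul hq1).mul hv1
    rwa [e3, Function.comp_assoc, hv2, Function.comp_id] at this

theorem center_scal [Fintype F] (hF : Fintype.card F = 4) {S : Sit W K} {a b : Cfsg.SU 6 F 2}
    {p q : Fin 6 → Fin 6} (ha : IsMonG p a) (hb : IsMonG q b) (haK : a ∈ K) (hbK : b ∈ K)
    (hp : lstP p = rA) (hq : lstP q ∈ qReps) :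
    (∀ z : ↥K, z ∈ Subgroup.center ↥K ↔ z.1 ∈ scalSub F) := by
  have hle : Subgroup.center ↥K ≤ (scalSub F).subgroupOf K := by
    intro z hz
    obtain ⟨v, hv, hR⟩ := diag_code W (S.center_le_diag hz)
    rw [valList_eq] at hv
    have hca : a * z.1 = z.1 * a := congrArg Subtype.val (Subgroup.mem_center_iff.1 hz ⟨a, haK⟩)
    have hcb : b * z.1 = z.1 * b := congrArg Subtype.val (Subgroup.mem_center_iff.1 hz ⟨b, hbK⟩)
    have f1 := fixB_of_comm W ha (S.center_le_diag hz) hca hR hv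
    have f2 := fixB_of_comm W hb (S.center_le_diag hz) hcb hR hv
    rw [hp] at f1
    have hconst := three_facts.2.2.2 _ hq v hv f1 f2
    rw [mem_subgroupOf, mem_scalSub]
    have hd := diag_eq (S.center_le_diag hz)
    have he : ∀ j : Fin 6, dent z.1 j = W.el (v.getD j.val 0 % 4) := fun j => by
      rw [dent, hR.2, monC, W.dec_code (fun e => by split_ifs <;> omega)]
      simp only [show (6 * j.val + j.val) / 6 = j.val by omega, show (6 * j.val + j.val) % 6 = j.val by omega]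
      rw [show idP.getD j.val 9 = j.val by rw [← lstP_id, lstP_getD]; rfl, if_pos rfl]
    refine ⟨dent z.1 0, dent_ne (S.center_le_diag hz) 0, ?_⟩
    rw [hd, Matrix.smul_one_eq_diagonal]
    refine congrArg _ (funext fun j => ?_)
    rw [he, he, hconst j.val j.isLt, hconst 0 (by norm_num)]
    rfl
  have hsd : scalSub F ≤ K := scal_le_diag.trans S.diag_le
  have e := Subgroup.eq_of_le_of_card_ge hle (by
    rw [Nat.card_congr (Subgroup.subgroupOfEquivOfLe hsd).toEquiv, card_scal W hF, S.three])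
  intro z
  rw [e, mem_subgroupOf]

theorem exists_scal_el (W : Four F) {c : F} (hc : c ≠ 0) :
    ∃ z ∈ scalSub F, z.1.1 = c • (1 : Matrix (Fin 6) (Fin 6) F) := by
  obtain ⟨g, -, -, e⟩ := exists_diag W (fun _ => c) (fun _ => hc)
    (by rw [Finset.prod_const, Finset.card_univ, Fintype.card_fin, show (6 : ℕ) = 3 * 2 by norm_num,
      pow_mul, W.cube hc, one_pow])
  exact ⟨g, ⟨c, hc, by rw [e, Matrix.smul_one_eq_diagonal]⟩, by rw [e, Matrix.smul_one_eq_diagonal]⟩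

/-- Adjusting a conjugate by a scalar to a given code. -/
theorem exists_adjust {a t : Cfsg.SU 6 F 2} {A T A1 c : ℕ} (ha : Rep W a A) (ht : Rep W t T)
    (hA1 : Can A1) (hc : c < 4) (hc0 : c ≠ 0) (e : mulC T A = smulC c (mulC A1 T)) :
    ∃ z ∈ scalSub F, Rep W (z * (t * a * t⁻¹)) A1 := by
  obtain ⟨z, hz, ez⟩ := exists_scal_el W (inv_ne_zero (W.el_ne hc hc0))
  refine ⟨z, hz, hA1, ?_⟩
  have h := congrArg W.dec e
  rw [W.dec_mulC, W.dec_smulC hc, W.dec_mulC, ← ha.2, ← ht.2] at h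
  have h2 : t.1.1 * (t⁻¹).1.1 = 1 := by rw [← val_mul, mul_inv_cancel, val_one]
  rw [val_mul, val_mul, val_mul, ez, h, Matrix.smul_mul, Matrix.one_mul, Matrix.smul_mul, smul_smul,
    inv_mul_cancel₀ (W.el_ne hc hc0), one_smul, Matrix.mul_assoc, h2, Matrix.mul_one]

theorem lift_scal_mul {S : Sit W K} {g : Cfsg.SU 6 F 2} {g₀ : ↥(grpC W 0)} (hg : S.Lift g g₀)
    (hz : ∀ z : ↥K, z ∈ Subgroup.center ↥K ↔ z.1 ∈ scalSub F) {z : Cfsg.SU 6 F 2}
    (hzs : z ∈ scalSub F) : S.Lift (z * g) g₀ := by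
  obtain ⟨hgK, eg⟩ := hg
  have hzK : z ∈ K := S.diag_le (scal_le_diag hzs)
  refine ⟨K.mul_mem hzK hgK, ?_⟩
  have h1 : S.φ ⟨z, hzK⟩ = 1 := by rw [← MonoidHom.mem_ker, S.ker]; exact (hz _).2 hzs
  rw [show (⟨z * g, _⟩ : ↥K) = ⟨z, hzK⟩ * ⟨g, hgK⟩ from rfl, map_mul, h1, one_mul, eg]

theorem lift_rel [Fintype F] {S : Sit W K} {a b : Cfsg.SU 6 F 2} {a₀ b₀ : ↥(grpC W 0)}
    (ha : S.Lift a a₀) (hb : S.Lift b b₀) (hA' : Rep W a₀.1 (kg 0 0)) (hB' : Rep W b₀.1 (kg 0 1))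
    (hz : ∀ z : ↥K, z ∈ Subgroup.center ↥K ↔ z.1 ∈ scalSub F) {A B : ℕ} (hA : Rep W a A)
    (hB : Rep W b B) : isScal (mulC A A) = true ∧ relB A B = true := by
  have hsc : ∀ {g : Cfsg.SU 6 F 2} {C : ℕ}, Rep W g C → g ∈ scalSub F → isScal C = true := by
    intro g C hR hg
    obtain ⟨C', hC', hR'⟩ := scal_code_mem W hg
    rw [isScal, List.contains_iff_mem, hR.unique hR']
    exact hC'
  have hword : ∀ w : List ℕ, (∀ k ∈ w, k < 2) → isScal (wordC [kg 0 0, kg 0 1] w) = true →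
      isScal (wordC [A, B] w) = true := by
    intro w hw hs
    obtain ⟨g, g₀, h1, h2, h3, -⟩ := Sit.Lift.word ha hb hA hB hA' hB' w hw
    exact hsc h2 ((hz _).1 (h1.mem_center (h3.mem_scal hs)))
  have hr := base_facts.1
  simp only [relB, Bool.and_eq_true] at hr ⊢
  refine ⟨?_, ⟨hword _ (by decide) hr.1.1, hword _ (by decide) hr.1.2⟩, hword _ (by decide) hr.2⟩
  refine hsc (hA.mul hA) ((hz _).1 ((ha.mul ha).mem_center ?_))
  show a₀.1 * a₀.1 ∈ _
  rw [hA'.mul_eq hA' Rep.one (by rw [base_facts.2.1]; exact Nat.beq_refl _)]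
  exact one_mem _

theorem IsMonG.diag_conj {p : Fin 6 → Fin 6} {g t : Cfsg.SU 6 F 2} (hg : IsMonG p g)
    (ht : t ∈ diagSub F) : IsMonG p (t * g * t⁻¹) := by
  have h1 : IsMonG (id ∘ p) (t * g) := (mem_diagSub.1 ht).mul hg
  have h2 : IsMonG ((id ∘ p) ∘ id) (t * g * t⁻¹) := h1.mul (mem_diagSub.1 ((diagSub F).inv_mem ht))
  exact h2

theorem IsMonG.scal_mul {p : Fin 6 → Fin 6} {g z : Cfsg.SU 6 F 2} (hg : IsMonG p g)
    (hz : z ∈ scalSub F) : IsMonG p (z * g) := by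
  have h1 : IsMonG (id ∘ p) (z * g) := (mem_diagSub.1 (scal_le_diag hz)).mul hg
  exact h1

theorem map_map_conj (K : Subgroup (Cfsg.SU 6 F 2)) (u v : Cfsg.SU 6 F 2) :
    (K.map (MulAut.conj u).toMonoidHom).map (MulAut.conj v).toMonoidHom =
      K.map (MulAut.conj (v * u)).toMonoidHom := by
  rw [Subgroup.map_map]
  congr 1
  ext x
  simp [MulAut.conj_apply, mul_assoc]

/-- The data of the two monomial lifts in a given state. -/
def TwoLifts (W : Four F) (K : Subgroup (Cfsg.SU 6 F 2)) (P : ℕ → ℕ → List ℕ → Prop) : Prop :=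
  ∃ (S : Sit W K) (a b : Cfsg.SU 6 F 2) (a₀ b₀ : ↥(grpC W 0)) (p q : Fin 6 → Fin 6) (A B : ℕ),
    S.Lift a a₀ ∧ S.Lift b b₀ ∧ Rep W a₀.1 (kg 0 0) ∧ Rep W b₀.1 (kg 0 1) ∧
      IsMonG p a ∧ IsMonG q b ∧ lstP p = rA ∧ lstP q ∈ qReps ∧ Rep W a A ∧ Rep W b B ∧
        (∀ z : ↥K, z ∈ Subgroup.center ↥K ↔ z.1 ∈ scalSub F) ∧ P A B (lstP q)

theorem exists_a_code [Fintype F] (hF : Fintype.card F = 4) (S : Sit W K) :
    ∃ h : Cfsg.SU 6 F 2,
      TwoLifts W (K.map (MulAut.conj h).toMonoidHom) (fun A _ _ => A = A0) := by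
  obtain ⟨h, S1, a, b, a₀, b₀, p, q, ha, hb, hA', hB', hp, hq, ep, eq'⟩ := exists_patterns S
  have hz := center_scal hF (S := S1) hp hq ha.mem hb.mem ep eq'
  obtain ⟨A, hA⟩ := exists_rep W a
  obtain ⟨B, hB⟩ := exists_rep W b
  obtain ⟨hsA, -⟩ := lift_rel ha hb hA' hB' hz hA hB
  obtain ⟨v, hv, eA⟩ := hA.monB_of hp
  rw [ep] at eA
  subst eA
  have h1 := aCase_checks
  simp only [aCaseB, force_eq, List.all_eq_true, Bool.or_eq_true, List.any_eq_true, Bool.not_eq_true',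
    Bool.and_eq_true, Nat.beq_eq, Nat.blt_eq] at h1
  obtain ⟨t, -, ht, c, hc, e⟩ := (h1 v hv).resolve_left (by simp [hsA])
  obtain ⟨τ, hτ, hτd⟩ := exists_dnum W ht
  have hlim : ∀ x ∈ [1, 2, 3], x < 4 ∧ x ≠ 0 := by decide
  obtain ⟨z, hzs, hza⟩ := exists_adjust hA hτ (can_monC _ _ : Can A0) (hlim c hc).1 (hlim c hc).2 e
  have hconj : ∀ x, τ * x * τ⁻¹ ∈ diagSub F ↔ x ∈ diagSub F := (mem_diagSub.1 hτd).conj_iff
  have hz2 := center_scal hF (S := S1.conj τ hconj) (hp.diag_conj hτd) (hq.diag_conj hτd)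
    (ha.conj hconj).mem (hb.conj hconj).mem ep eq'
  obtain ⟨B2, hB2⟩ := exists_rep W (τ * b * τ⁻¹)
  refine ⟨τ * h, map_map_conj K h τ ▸ ?_⟩
  exact ⟨S1.conj τ hconj, _, _, a₀, b₀, p, q, A0, B2, lift_scal_mul (ha.conj hconj) hz2 hzs, hb.conj hconj,
    hA', hB', (hp.diag_conj hτd).scal_mul hzs, hq.diag_conj hτd, ep, eq', hza, hB2, hz2, rfl⟩

theorem b_case {w : List ℕ} {q : List ℕ} (hq : q ∈ qReps) (hw : w ∈ valList)
    (hrel : relB A0 (monC q w) = true) :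
    ∃ i < 18, ∃ t < 243, ∃ c ∈ [1, 2, 3], ∃ c' ∈ [1, 2, 3],
      mulC (dnum t) (monC q w) = smulC c (mulC (caseCode i) (dnum t)) ∧
        mulC (dnum t) A0 = smulC c' (mulC A0 (dnum t)) := by
  obtain ⟨qi, hqi, eqi⟩ := List.getElem_of_mem hq
  obtain ⟨wi, hwi, ewi⟩ := List.getElem_of_mem hw
  rw [data_lengths.2.2.1] at hwi
  have h2 : bCaseB qi = true := by
    have h := bCase_checks
    simp only [Bool.and_eq_true, beq_iff_eq] at h
    rw [h.2] at hqi
    interval_cases qi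
    exacts [h.1.1, h.1.2]
  simp only [bCaseB, force_eq, List.all_eq_true, List.mem_range, Bool.or_eq_true, List.any_eq_true,
    Bool.not_eq_true', Bool.and_eq_true, Nat.beq_eq, Nat.blt_eq, List.contains_iff_mem] at h2
  have h3 := h2 wi hwi
  rw [List.getD_eq_getElem qReps [] hqi, eqi,
    List.getD_eq_getElem valList [] (by rw [data_lengths.2.2.1]; exact hwi), ewi] at h3
  obtain ⟨⟨⟨⟨hi, ht2⟩, hc2⟩, eb⟩, c', hc', ea⟩ := h3.resolve_left (by simp [hrel])
  exact ⟨_, hi, _, ht2, _, hc2, c', hc', eb, ea⟩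

/-- The two monomial generators have standard codes after conjugation. -/
theorem exists_codes [Fintype F] (hF : Fintype.card F = 4) (S : Sit W K) :
    ∃ h : Cfsg.SU 6 F 2, TwoLifts W (K.map (MulAut.conj h).toMonoidHom)
      (fun A B _ => A = A0 ∧ ∃ i < 18, B = caseCode i) := by
  obtain ⟨h, S1, a, b, a₀, b₀, p, q, A, B, ha, hb, hA', hB', hp, hq, ep, eq', hA, hB, hz, rfl⟩ :=
    exists_a_code hF S
  obtain ⟨-, hrel⟩ := lift_rel ha hb hA' hB' hz hA hB
  obtain ⟨w, hw, eB⟩ := hB.monB_of hq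
  subst eB
  obtain ⟨i, hi, t, ht, c, hc, c', hc', eb, ea⟩ := b_case eq' hw hrel
  obtain ⟨σ, hσ, hσd⟩ := exists_dnum W ht
  have hlim : ∀ x ∈ [1, 2, 3], x < 4 ∧ x ≠ 0 := by decide
  obtain ⟨y, hy, hyb⟩ := exists_adjust hB hσ (can_monC _ _ : Can (caseCode i)) (hlim c hc).1
    (hlim c hc).2 eb
  obtain ⟨y', hy', hya⟩ := exists_adjust hA hσ (can_monC _ _ : Can A0) (hlim c' hc').1 (hlim c' hc').2 ea
  have hconj : ∀ x, σ * x * σ⁻¹ ∈ diagSub F ↔ x ∈ diagSub F := (mem_diagSub.1 hσd).conj_iff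
  have hz3 := center_scal hF (S := S1.conj σ hconj) (hp.diag_conj hσd) (hq.diag_conj hσd)
    (ha.conj hconj).mem (hb.conj hconj).mem ep eq'
  refine ⟨σ * h, map_map_conj K h σ ▸ ?_⟩
  exact ⟨S1.conj σ hconj, _, _, a₀, b₀, p, q, A0, caseCode i, lift_scal_mul (ha.conj hconj) hz3 hy',
    lift_scal_mul (hb.conj hconj) hz3 hy, hA', hB', (hp.diag_conj hσd).scal_mul hy',
    (hq.diag_conj hσd).scal_mul hy, ep, eq', hya, hyb, hz3, rfl, i, hi, rfl⟩

end CfsgLib.UnitarySix
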